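import Cfsg.Agent.DGroupCent.Derived
import Cfsg.Agent.PLocal.Cores
import Cfsg.Agent.TwoGroups.IsolatedZStar
import Cfsg.Agent.Small.StronglyEmbedded

/-!
# Generalised dihedral involution centralizers
-/

set_option autoImplicit false
set_option linter.style.haveILetI false

namespace CfsgLib.DGroupCent

open Subgroup

variable {G : Type*} [Group G]

theorem mul_self_of_orderOf {v : G} (hv : orderOf v = 2) : v * v = 1 := by
  rw [← sq, ← hv, pow_orderOf_eq_one]

theorem orderOf_two_of_mul_self {v : G} (hv : v * v = 1) (hv1 : v ≠ 1) : orderOf v = 2 :=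
  orderOf_eq_prime (by rw [sq, hv]) hv1

theorem ne_one_of_orderOf {v : G} (hv : orderOf v = 2) : v ≠ 1 := fun e => by
  rw [e, orderOf_one] at hv; exact absurd hv (by decide)

/-- `C` is generalised dihedral over the abelian subgroup `A`, whose only involution is `t`. -/
structure GD (C A : Subgroup G) (t : G) : Prop where
  le : A ≤ C
  comm : ∀ a ∈ A, ∀ b ∈ A, a * b = b * a
  ht : orderOf t = 2
  tA : t ∈ A
  uniq : ∀ a ∈ A, a * a = 1 → a = 1 ∨ a = t
  sq : ∀ y ∈ C, y ∉ A → y * y = 1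
  prod : ∀ y ∈ C, y ∉ A → ∀ z ∈ C, z ∉ A → y * z ∈ A
  out : ∃ y ∈ C, y ∉ A

variable {C A : Subgroup G} {t : G}

theorem GD.notA_mul (_h : GD C A t) {y a : G} (hy : y ∉ A) (ha : a ∈ A) :
    y * a ∉ A := fun hm => hy (by simpa using mul_mem hm (inv_mem ha))

theorem GD.inverts (h : GD C A t) {y a : G} (hy : y ∈ C) (hyA : y ∉ A) (ha : a ∈ A) :
    y * a * y⁻¹ = a⁻¹ := by
  have h1 := h.sq _ (mul_mem hy (h.le ha)) (h.notA_mul hyA ha)
  rw [inv_eq_of_mul_eq_one_right (h.sq y hy hyA)]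
  exact eq_inv_of_mul_eq_one_left (by rw [mul_assoc] at h1 ⊢; simpa [mul_assoc] using h1)

theorem GD.t_comm (h : GD C A t) {y : G} (hy : y ∈ C) : y * t = t * y := by
  by_cases hyA : y ∈ A
  · exact h.comm y hyA t h.tA
  · have := h.inverts hy hyA h.tA
    rw [inv_eq_of_mul_eq_one_right (mul_self_of_orderOf h.ht)] at this
    exact mul_inv_eq_iff_eq_mul.1 this

theorem GD.orderOf_out (h : GD C A t) {y : G} (hy : y ∈ C) (hyA : y ∉ A) : orderOf y = 2 :=
  orderOf_two_of_mul_self (h.sq y hy hyA) fun e => hyA (e ▸ one_mem A)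

theorem GD.mem_of_odd (h : GD C A t) {y : G} (hy : y ∈ C) (ho : Odd (orderOf y)) : y ∈ A := by
  by_contra hyA
  rw [h.orderOf_out hy hyA] at ho
  exact absurd ho (by decide)

theorem GD.mem_of_sq_ne_one (h : GD C A t) {y : G} (hy : y ∈ C) (h2 : y * y ≠ 1) : y ∈ A :=
  by_contra fun hyA => h2 (h.sq y hy hyA)

theorem GD.commute_out (h : GD C A t) {y c : G} (hy : y ∈ C) (hyA : y ∉ A) (hc : c ∈ C)
    (hcy : c * y = y * c) : c = 1 ∨ c = t ∨ c = y ∨ c = t * y := by
  have key : ∀ a ∈ A, a * y = y * a → a = 1 ∨ a = t := fun a ha hay => by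
    refine h.uniq a ha (mul_eq_one_iff_eq_inv.2 ?_)
    rw [← h.inverts hy hyA ha, ← hay, mul_inv_cancel_right]
  by_cases hcA : c ∈ A
  · rcases key c hcA hcy with e | e
    · exact Or.inl e
    · exact Or.inr (Or.inl e)
  · have hm := h.prod c hc hcA y hy hyA
    rcases key _ hm (by rw [← mul_assoc y, ← hcy]) with e | e
    · refine Or.inr (Or.inr (Or.inl ?_))
      rw [eq_inv_of_mul_eq_one_left e, inv_eq_of_mul_eq_one_right (h.sq y hy hyA)]
    · refine Or.inr (Or.inr (Or.inr ?_))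
      rw [← e, mul_assoc, h.sq y hy hyA, mul_one]

theorem GD.map (h : GD C A t) {H : Type*} [Group H] {f : G →* H} (hf : Function.Injective f) :
    GD (C.map f) (A.map f) (f t) := by
  refine ⟨map_mono h.le, ?_, by rw [orderOf_injective f hf, h.ht], ⟨t, h.tA, rfl⟩, ?_, ?_, ?_, ?_⟩
  · rintro _ ⟨a, ha, rfl⟩ _ ⟨b, hb, rfl⟩
    rw [← map_mul, ← map_mul, h.comm a ha b hb]
  · rintro _ ⟨a, ha, rfl⟩ e
    rw [← map_mul, ← map_one f] at e
    rcases h.uniq a ha (hf e) with rfl | rfl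
    · exact Or.inl (map_one f)
    · exact Or.inr rfl
  · rintro _ ⟨y, hy, rfl⟩ hyA
    rw [← map_mul, h.sq y hy (fun e => hyA ⟨y, e, rfl⟩), map_one]
  · rintro _ ⟨y, hy, rfl⟩ hyA _ ⟨z, hz, rfl⟩ hzA
    exact ⟨y * z, h.prod y hy (fun e => hyA ⟨y, e, rfl⟩) z hz (fun e => hzA ⟨z, e, rfl⟩),
      map_mul f y z⟩
  · obtain ⟨y, hy, hyA⟩ := h.out
    exact ⟨f y, ⟨y, hy, rfl⟩, fun ⟨a, ha, e⟩ => hyA (hf e ▸ ha)⟩

theorem GD.restrict (h : GD C A t) (M : Subgroup G) (htM : t ∈ M) {y : G} (hy : y ∈ C) (hyA : y ∉ A)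
    (hyM : y ∈ M) : GD (C.subgroupOf M) (A.subgroupOf M) (⟨t, htM⟩ : M) := by
  refine ⟨fun a ha => h.le ha, fun a ha b hb => Subtype.ext (h.comm a ha b hb),
    by rw [orderOf_mk, h.ht], h.tA, fun a ha e => ?_, fun a ha h' => Subtype.ext (h.sq a ha h'),
    fun a ha h1 b hb h2 => h.prod a ha h1 b hb h2, ⟨⟨y, hyM⟩, hy, hyA⟩⟩
  rcases h.uniq a ha (congrArg Subtype.val e) with e' | e'
  · exact Or.inl (Subtype.ext e')
  · exact Or.inr (Subtype.ext e')

theorem centralizer_subgroupOf (M : Subgroup G) {s : G} (hs : s ∈ M) :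
    (centralizer ({s} : Set G)).subgroupOf M = centralizer ({(⟨s, hs⟩ : M)} : Set M) := by
  ext g
  simp [mem_subgroupOf, mem_centralizer_singleton_iff, Subtype.ext_iff]

/-- The data of the induction theorem. -/
def D2 (G : Type*) [Group G] : Prop :=
  ∃ (t : G) (A : Subgroup G), GD (centralizer ({t} : Set G)) A t

theorem GD.d2_subgroup (h : GD (centralizer ({t} : Set G)) A t) (M : Subgroup G) (htM : t ∈ M)
    {y : G} (hyt : y * t = t * y) (hyA : y ∉ A) (hyM : y ∈ M) : D2 M :=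
  ⟨⟨t, htM⟩, A.subgroupOf M, centralizer_subgroupOf M htM ▸
    h.restrict M htM (mem_centralizer_singleton_iff.2 hyt) hyA hyM⟩

/-- Commuting distinct involutions have generalised dihedral centralizers. -/
def GDAll (G : Type*) [Group G] : Prop :=
  ∀ i j : G, orderOf i = 2 → orderOf j = 2 → i ≠ j → i * j = j * i →
    ∃ A, GD (centralizer ({i} : Set G)) A i ∧ j ∉ A

theorem gdAll_of_forall
    (hall : ∀ i : G, orderOf i = 2 → ∃ A, GD (centralizer ({i} : Set G)) A i) : GDAll G := by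
  intro i j hi hj hne _
  obtain ⟨A, hA⟩ := hall i hi
  refine ⟨A, hA, fun hjA => ?_⟩
  rcases hA.uniq j hjA (mul_self_of_orderOf hj) with e | e
  · exact ne_one_of_orderOf hj e
  · exact hne e.symm

theorem GDAll.subgroup (h : GDAll G) (M : Subgroup G) : GDAll M := by
  rintro ⟨i, hiM⟩ ⟨j, hjM⟩ hi hj hne hij
  rw [orderOf_mk] at hi hj
  obtain ⟨A, hA, hjA⟩ := h i j hi hj (fun e => hne (Subtype.ext e)) (congrArg Subtype.val hij)
  refine ⟨A.subgroupOf M, ?_, fun e => hjA e⟩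
  rw [← centralizer_subgroupOf M hiM]
  exact hA.restrict M hiM (mem_centralizer_singleton_iff.2 (congrArg Subtype.val hij).symm) hjA hjM

theorem GDAll.centralizer_pair (h : GDAll G) {i j c : G} (hi : orderOf i = 2) (hj : orderOf j = 2)
    (hne : i ≠ j) (hij : i * j = j * i) (hci : c * i = i * c) (hcj : c * j = j * c) :
    c = 1 ∨ c = i ∨ c = j ∨ c = i * j := by
  obtain ⟨A, hA, hjA⟩ := h i j hi hj hne hij
  exact hA.commute_out (mem_centralizer_singleton_iff.2 hij.symm) hjA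
    (mem_centralizer_singleton_iff.2 hci) hcj

theorem GDAll.fpf [Finite G] (h : GDAll G) {i j : G} (hi : orderOf i = 2) (hj : orderOf j = 2)
    (hne : i ≠ j) (hij : i * j = j * i) {Y : Subgroup G} (hY : Odd (Nat.card Y))
    (hYi : ∀ y ∈ Y, i * y * i⁻¹ ∈ Y) (hYj : ∀ y ∈ Y, j * y * j⁻¹ ∈ Y) : Fpf i j Y := by
  refine ⟨mul_self_of_orderOf hi, mul_self_of_orderOf hj, hij, hYi, hYj, hY, fun y hy a b => ?_⟩
  have h1 : ∀ v : G, v * v = 1 → v ∈ Y → v = 1 := fun v hv hvY => eq_one_of_odd hY hvY hv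
  rcases h.centralizer_pair hi hj hne hij a b with e | e | e | e
  · exact e
  · exact h1 y (e ▸ mul_self_of_orderOf hi) hy
  · exact h1 y (e ▸ mul_self_of_orderOf hj) hy
  · refine h1 y ?_ hy
    rw [e]
    calc i * j * (i * j) = i * (j * i) * j := by group
      _ = (i * i) * (j * j) := by rw [← hij]; group
      _ = 1 := by rw [mul_self_of_orderOf hi, mul_self_of_orderOf hj, one_mul]

/-! ### Passing to quotients by odd normal subgroups -/

variable {H : Type*} [Group H] [Finite G] {f : G →* H}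

theorem map_centralizer_involution (hf : Function.Surjective f) (hodd : Odd (Nat.card f.ker))
    (ht : orderOf t = 2) :
    (centralizer ({t} : Set G)).map f = centralizer ({f t} : Set H) := by
  have hA : Nat.card (zpowers t) = 2 := by rw [Nat.card_zpowers, ht]
  have h := CfsgLib.Coprime.map_inf_centralizer (G := (⊤ : Subgroup G)) (A := zpowers t) f
    (fun _ _ => mem_normalizer_iff.2 fun n => by simp)
    (by
      rw [hA]
      exact Nat.coprime_two_left.2 (hodd.of_dvd_nat (card_dvd_of_le inf_le_right)))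
    (Or.inl (Group.isSolvable_of_comm fun a b => mul_comm' a b))
  rw [top_inf_eq, map_top_of_surjective f hf, top_inf_eq, MonoidHom.map_zpowers] at h
  rw [zpowers_eq_closure, centralizer_closure, zpowers_eq_closure, centralizer_closure] at h
  exact h

theorem orderOf_map_involution (hodd : Odd (Nat.card f.ker)) {v : G} (hv : orderOf v = 2) :
    orderOf (f v) = 2 :=
  orderOf_two_of_mul_self (by rw [← map_mul, mul_self_of_orderOf hv, map_one])
    fun e => ne_one_of_orderOf hv (eq_one_of_odd hodd e (mul_self_of_orderOf hv))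

theorem GD.quot (h : GD (centralizer ({t} : Set G)) A t) (hf : Function.Surjective f)
    (hodd : Odd (Nat.card f.ker)) : GD (centralizer ({f t} : Set H)) (A.map f) (f t) := by
  have key : ∀ {y : G}, y ∈ centralizer ({t} : Set G) → f y ∈ A.map f → y ∈ A := by
    rintro y hy ⟨a, ha, e⟩
    have hk : a⁻¹ * y ∈ f.ker := by rw [MonoidHom.mem_ker, map_mul, map_inv, e, inv_mul_cancel]
    have := h.mem_of_odd (mul_mem (inv_mem (h.le ha)) hy) (odd_orderOf hodd hk)
    simpa using mul_mem ha this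
  rw [← map_centralizer_involution hf hodd h.ht]
  refine ⟨map_mono h.le, ?_, orderOf_map_involution hodd h.ht, ⟨t, h.tA, rfl⟩, ?_, ?_, ?_, ?_⟩
  · rintro _ ⟨a, ha, rfl⟩ _ ⟨b, hb, rfl⟩
    rw [← map_mul, ← map_mul, h.comm a ha b hb]
  · rintro _ ⟨a, ha, rfl⟩ e
    rw [← map_mul] at e
    have hk : a * a ∈ f.ker := e
    obtain ⟨m, hm⟩ := odd_orderOf hodd hk
    have h1 : (a * (a * a) ^ m) * (a * (a * a) ^ m) = 1 := by
      have e1 : (a * (a * a) ^ m) * (a * (a * a) ^ m) = (a * a) ^ (2 * m + 1) := by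
        have hc : (a * a) ^ m * a = a * (a * a) ^ m :=
          (((Commute.refl a).mul_right (Commute.refl a)).pow_right m).symm.eq
        calc (a * (a * a) ^ m) * (a * (a * a) ^ m) = a * ((a * a) ^ m * a) * (a * a) ^ m := by
              group
          _ = (a * a) * ((a * a) ^ m * (a * a) ^ m) := by rw [hc]; group
          _ = (a * a) ^ (2 * m + 1) := by rw [← pow_add, ← pow_succ', two_mul]
      rw [e1, ← hm, pow_orderOf_eq_one]
    have h2 : f (a * (a * a) ^ m) = f a := by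
      rw [map_mul, map_pow, show f (a * a) = 1 from hk, one_pow, mul_one]
    rcases h.uniq _ (mul_mem ha (pow_mem (mul_mem ha ha) m)) h1 with e' | e'
    · exact Or.inl (by rw [← h2, e', map_one])
    · exact Or.inr (by rw [← h2, e'])
  · rintro _ ⟨y, hy, rfl⟩ hyA
    rw [← map_mul, h.sq y hy (fun e => hyA ⟨y, e, rfl⟩), map_one]
  · rintro _ ⟨y, hy, rfl⟩ hyA _ ⟨z, hz, rfl⟩ hzA
    exact ⟨y * z, h.prod y hy (fun e => hyA ⟨y, e, rfl⟩) z hz (fun e => hzA ⟨z, e, rfl⟩),
      map_mul f y z⟩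
  · obtain ⟨y, hy, hyA⟩ := h.out
    exact ⟨f y, ⟨y, hy, rfl⟩, fun e => hyA (key hy e)⟩

/-- Commuting involutions of a quotient by an odd normal subgroup lift. -/
theorem exists_lift_pair (hf : Function.Surjective f) (hodd : Odd (Nat.card f.ker)) {i j : H}
    (hi : i * i = 1) (hj : j * j = 1) (hij : i * j = j * i) :
    ∃ a b : G, f a = i ∧ f b = j ∧ a * a = 1 ∧ b * b = 1 ∧ a * b = b * a := by
  haveI : Fact (Nat.Prime 2) := ⟨Nat.prime_two⟩
  haveI : Finite H := Finite.of_surjective f hf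
  set V := closure ({i, j} : Set H) with hV
  have hVsq : ∀ v ∈ V, v * v = 1 := by
    intro v hv
    rcases sq_eq_one_of_mem_closure_pair hi hj hij v hv with rfl | rfl | rfl | rfl
    · simp
    · exact hi
    · exact hj
    · calc i * j * (i * j) = i * (j * i) * j := by group
        _ = (i * i) * (j * j) := by rw [← hij]; group
        _ = 1 := by rw [hi, hj, one_mul]
  set K := V.comap f with hK
  obtain ⟨S⟩ : Nonempty (Sylow 2 K) := inferInstance
  let g : K →* V := f.subgroupComap V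
  have hg : Function.Surjective g := fun v => by
    obtain ⟨x, hx⟩ := hf v
    exact ⟨⟨x, show f x ∈ V from hx ▸ v.2⟩, Subtype.ext hx⟩
  have hS : (S : Subgroup K).map g = ⊤ := by
    have h2 : IsPGroup 2 V := fun v => ⟨1, Subtype.ext (by
      rw [pow_one, Subgroup.coe_pow, sq]; exact hVsq v v.2)⟩
    obtain ⟨k, hk⟩ := h2.exists_card_eq
    rw [← index_eq_one]
    have h3 : ((S : Subgroup K).map g).index ∣ 2 ^ k := hk ▸ index_dvd_card _
    obtain ⟨m, -, hm⟩ := (Nat.dvd_prime_pow Nat.prime_two).1 h3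
    rcases m with _ | m
    · simpa using hm
    · exact absurd ((hm ▸ dvd_pow_self 2 m.succ_ne_zero).trans (index_map_dvd _ hg))
        S.not_dvd_index
  have lift : ∀ v : H, v ∈ V → ∃ a : G, f a = v ∧ a * a = 1 ∧ ∃ ha : a ∈ K, ⟨a, ha⟩ ∈ (S : Subgroup K) := by
    intro v hv
    obtain ⟨⟨a, ha⟩, haS, e⟩ : (⟨v, hv⟩ : V) ∈ (S : Subgroup K).map g := hS ▸ mem_top _
    have hfa : f a = v := congrArg Subtype.val e
    have hk : a * a ∈ f.ker := by rw [MonoidHom.mem_ker, map_mul, hfa, hVsq v hv]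
    obtain ⟨n, hn⟩ := IsPGroup.iff_orderOf.1 S.isPGroup' ⟨_, mul_mem haS haS⟩
    rw [orderOf_mk] at hn
    have hn' : orderOf (a * a) = 2 ^ n := by rw [← hn, ← orderOf_coe]; rfl
    refine ⟨a, hfa, orderOf_eq_one_iff.1 (Nat.eq_one_of_dvd_coprimes ?_ (dvd_refl _)
      hn'.dvd), ha, haS⟩
    exact ((Nat.coprime_two_right.2 (odd_orderOf hodd hk))).pow_right n
  obtain ⟨a, hfa, ha2, haK, haS⟩ := lift i (subset_closure (by simp))
  obtain ⟨b, hfb, hb2, hbK, hbS⟩ := lift j (subset_closure (by simp))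
  refine ⟨a, b, hfa, hfb, ha2, hb2, ?_⟩
  -- the commutator is an element of the kernel inside the Sylow subgroup
  have hk : a * b * a⁻¹ * b⁻¹ ∈ f.ker := by
    rw [MonoidHom.mem_ker, map_mul, map_mul, map_mul, map_inv, map_inv, hfa, hfb, hij]
    group
  obtain ⟨n, hn⟩ := IsPGroup.iff_orderOf.1 S.isPGroup'
    ⟨_, mul_mem (mul_mem (mul_mem haS hbS) (inv_mem haS)) (inv_mem hbS)⟩
  rw [orderOf_mk] at hn
  have hn' : orderOf (a * b * a⁻¹ * b⁻¹) = 2 ^ n := by rw [← hn, ← orderOf_coe]; rfl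
  have h1 : a * b * a⁻¹ * b⁻¹ = 1 := orderOf_eq_one_iff.1 (Nat.eq_one_of_dvd_coprimes
    ((Nat.coprime_two_right.2 (odd_orderOf hodd hk)).pow_right n) (dvd_refl _) hn'.dvd)
  exact mul_inv_eq_iff_eq_mul.1 (mul_inv_eq_one.1 h1)

theorem GDAll.quot (h : GDAll G) (hf : Function.Surjective f) (hodd : Odd (Nat.card f.ker)) :
    GDAll H := by
  intro i j hi hj hne hij
  obtain ⟨a, b, rfl, rfl, ha2, hb2, hab⟩ :=
    exists_lift_pair hf hodd (mul_self_of_orderOf hi) (mul_self_of_orderOf hj) hij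
  have ha : orderOf a = 2 := orderOf_two_of_mul_self ha2 fun e => ne_one_of_orderOf hi (by rw [e, map_one])
  have hb : orderOf b = 2 := orderOf_two_of_mul_self hb2 fun e => ne_one_of_orderOf hj (by rw [e, map_one])
  obtain ⟨A, hA, hbA⟩ := h a b ha hb (fun e => hne (by rw [e])) hab
  refine ⟨A.map f, hA.quot hf hodd, ?_⟩
  rintro ⟨c, hc, e⟩
  have hk : c⁻¹ * b ∈ f.ker := by rw [MonoidHom.mem_ker, map_mul, map_inv, e, inv_mul_cancel]
  have := hA.mem_of_odd (mul_mem (inv_mem (hA.le hc)) (mem_centralizer_singleton_iff.2 hab.symm))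
    (odd_orderOf hodd hk)
  exact hbA (by simpa using mul_mem hc this)

end CfsgLib.DGroupCent
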