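import Cfsg.Agent.DGroupCent.Psl
import Cfsg.Agent.DGroupCent.Basic
import Cfsg.Agent.TwoGroups.DihedralClasses
import Cfsg.Agent.TwoGroups.DihedralLocal

/-!
# Auxiliary facts: dihedral Sylow subgroups, index two, centralizers in `PGL(2, q)`
-/

set_option autoImplicit false
set_option linter.style.haveILetI false
set_option linter.unusedSectionVars false

namespace CfsgLib.DGroupCent

open Subgroup
open DihedralGroup (r sr)

variable {G : Type*} [Group G]

/-- The data of a dihedral Sylow subgroup of order at least `8`. -/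
structure DihData (S : Subgroup G) (σ z : G) : Prop where
  σS : σ ∈ S
  zS : z ∈ S
  hz : orderOf z = 2
  central : ∀ s ∈ S, s * z = z * s
  zσ : z ∈ zpowers (σ ^ 2)
  cases : ∀ s ∈ S, s ∈ zpowers σ ∨ (s * s = 1 ∧ s * σ * s⁻¹ = σ⁻¹)
  uniq : ∀ s ∈ S, s ∈ zpowers σ → s * s = 1 → s = 1 ∨ s = z
  prod : ∀ s ∈ S, s ∉ zpowers σ → ∀ c ∈ S, c ∉ zpowers σ → s * c ∈ zpowers σ
  out : ∃ s ∈ S, s ∉ zpowers σ
  ne : σ * σ ≠ 1

theorem DihData.conj_rot {S : Subgroup G} {σ z : G} (d : DihData S σ z) {s : G} (hs : s ∈ S)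
    (hsσ : s ∉ zpowers σ) {c : G} (hc : c ∈ zpowers σ) : s * c * s⁻¹ = c⁻¹ := by
  obtain ⟨n, rfl⟩ := mem_zpowers_iff.1 hc
  rw [← conj_zpow, ((d.cases s hs).resolve_left hsσ).2, inv_zpow]

theorem DihData.commute_cases {S : Subgroup G} {σ z : G} (d : DihData S σ z) {s c : G}
    (hs : s ∈ S) (hsσ : s ∉ zpowers σ) (hc : c ∈ S) (hcs : c * s = s * c) :
    c = 1 ∨ c = z ∨ c = s ∨ c = z * s := by
  have key : ∀ a ∈ S, a ∈ zpowers σ → a * s = s * a → a = 1 ∨ a = z := fun a ha haσ has => by
    refine d.uniq a ha haσ (mul_eq_one_iff_eq_inv.2 ?_)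
    rw [← d.conj_rot hs hsσ haσ, ← has, mul_inv_cancel_right]
  by_cases hcσ : c ∈ zpowers σ
  · rcases key c hc hcσ hcs with e | e
    · exact Or.inl e
    · exact Or.inr (Or.inl e)
  · have hm := d.prod c hc hcσ s hs hsσ
    have hss := ((d.cases s hs).resolve_left hsσ).1
    rcases key _ (mul_mem hc hs) hm (by rw [← mul_assoc s, ← hcs]) with e | e
    · exact Or.inr (Or.inr (Or.inl (by
        rw [eq_inv_of_mul_eq_one_left e, inv_eq_of_mul_eq_one_right hss])))
    · exact Or.inr (Or.inr (Or.inr (by rw [← e, mul_assoc, hss, mul_one])))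

theorem exists_dihData (S : Sylow 2 G) {n : ℕ} [NeZero n]
    (eS : (S : Subgroup G) ≃* DihedralGroup n) (h4 : 4 ∣ n) :
    ∃ σ z, DihData (S : Subgroup G) σ z := by
  open CfsgLib.DihedralClasses in
  have hmem : ∀ i : ZMod n, emb S eS (r i) ∈ zpowers (emb S eS (r 1)) := fun i =>
    mem_zpowers_iff.2 ⟨(i.val : ℤ), by
      rw [zpow_natCast, ← map_pow, DihedralGroup.r_one_pow, ZMod.natCast_zmod_val]⟩
  open CfsgLib.DihedralClasses in
  have hnot : ∀ i : ZMod n, emb S eS (sr i) ∉ zpowers (emb S eS (r 1)) := by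
    intro i hi
    obtain ⟨k, hk⟩ := mem_zpowers_iff.1 hi
    rw [← map_zpow, DihedralGroup.r_one_zpow] at hk
    exact nomatch (emb_injective eS hk)
  open CfsgLib.DihedralClasses in
  refine ⟨emb S eS (r 1), emb S eS zz, emb_mem eS _, emb_mem eS _, orderOf_zz eS h4, ?_, ?_, ?_,
    ?_, ?_, ?_, ?_⟩
  · intro s hs
    obtain ⟨d, rfl⟩ := exists_emb eS hs
    rw [← map_mul, ← map_mul]
    congr 1
    rcases d with k | k
    · rw [zz, DihedralGroup.r_mul_r, DihedralGroup.r_mul_r, add_comm]
    · rw [zz, DihedralGroup.sr_mul_r, DihedralGroup.r_mul_sr]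
      obtain ⟨h1, -⟩ := CfsgLib.TwoGroups.two_torsion_ne_zero (m := n) (dvd_trans (by norm_num) h4)
      congr 1
      linear_combination h1
  · obtain ⟨c, hc⟩ := h4
    refine mem_zpowers_iff.2 ⟨(c : ℤ), ?_⟩
    rw [zpow_natCast, ← pow_mul, ← map_pow, DihedralGroup.r_one_pow, zz,
      show n / 2 = 2 * c by omega]
  · intro s hs
    obtain ⟨d, rfl⟩ := exists_emb eS hs
    rcases d with k | k
    · exact Or.inl (hmem k)
    · refine Or.inr ⟨by rw [← map_mul, DihedralGroup.sr_mul_self, map_one], ?_⟩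
      rw [← map_inv, ← map_inv, ← map_mul, ← map_mul, DihedralGroup.inv_sr,
        DihedralGroup.sr_mul_r, DihedralGroup.sr_mul_sr, DihedralGroup.inv_r]
      congr 2
      ring
  · intro s hs hsσ hss
    by_cases h1 : s = 1
    · exact Or.inl h1
    rcases invol_cases eS h4 hs (orderOf_two_of_mul_self hss h1) with e | ⟨i, rfl⟩
    · exact Or.inr e
    · exact absurd hsσ (hnot i)
  · intro s hs hsσ c hc hcσ
    obtain ⟨d, rfl⟩ := exists_emb eS hs
    obtain ⟨d', rfl⟩ := exists_emb eS hc
    rcases d with k | k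
    · exact absurd (hmem k) hsσ
    rcases d' with l | l
    · exact absurd (hmem l) hcσ
    rw [← map_mul, DihedralGroup.sr_mul_sr]
    exact hmem _
  · exact ⟨_, emb_mem eS _, hnot 0⟩
  · rw [← map_mul, DihedralGroup.r_mul_r]
    intro e
    have h2 : r (1 + 1 : ZMod n) = r 0 := emb_injective eS (e.trans (map_one _).symm)
    have h3 : ((2 : ℕ) : ZMod n) = 0 := by
      push_cast
      linear_combination DihedralGroup.r.inj h2
    have := Nat.le_of_dvd two_pos ((ZMod.natCast_eq_zero_iff 2 n).1 h3)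
    have := Nat.le_of_dvd (NeZero.pos n) h4
    omega

/-- A two-group of order divisible by `4` has a normal subgroup of index `4`. -/
theorem exists_normal_index_four : ∀ (m : ℕ) (P : Type*) [Group P] [Finite P],
    Nat.card P = 2 ^ (m + 2) → ∃ N : Subgroup P, N.Normal ∧ N.index = 4 := by
  intro m
  induction m with
  | zero => intro P _ _ h; exact ⟨⊥, inferInstance, by rw [index_bot, h]; rfl⟩
  | succ m ih =>
    intro P _ _ h
    haveI : Fact (Nat.Prime 2) := ⟨Nat.prime_two⟩
    have hP : IsPGroup 2 P := IsPGroup.of_card h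
    haveI : Nontrivial P := Finite.one_lt_card_iff_nontrivial.1 (h ▸ Nat.one_lt_two_pow (by omega))
    haveI := hP.center_nontrivial
    obtain ⟨c, hc⟩ := exists_prime_orderOf_dvd_card' (G := center P) 2 (by
      obtain ⟨k, hk, hk'⟩ := (hP.to_subgroup (center P)).nontrivial_iff_card.1 inferInstance
      exact hk' ▸ dvd_pow_self 2 hk.ne')
    set Z := zpowers (c : P)
    haveI : Z.Normal := ⟨fun x hx g => by
      rw [mem_center_iff.1 ((zpowers_le.2 c.2 : Z ≤ center P) hx) g, mul_inv_cancel_right]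
      exact hx⟩
    have hcard := Z.card_mul_index
    rw [Nat.card_zpowers, orderOf_coe, hc, h, index_eq_card] at hcard
    obtain ⟨N, hN, hi⟩ := ih (P ⧸ Z) (by
      refine Nat.eq_of_mul_eq_mul_left two_pos (hcard.trans ?_)
      rw [← pow_succ'])
    exact ⟨N.comap (QuotientGroup.mk' Z), hN.comap _,
      by rw [index_comap_of_surjective _ (QuotientGroup.mk'_surjective _), hi]⟩

/-- An index-two subgroup of a group without normal subgroups of index `4` has no subgroup of
index `2`. -/
theorem no_index_two_of_index_two [Finite G] {G0 : Subgroup G} [hn : G0.Normal] (hi : G0.index = 2)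
    (h4 : ∀ N : Subgroup G, N.Normal → N.index ≠ 4) (N : Subgroup G0) : N.index ≠ 2 := by
  intro hN
  haveI : Fact (Nat.Prime 2) := ⟨Nat.prime_two⟩
  set K : Subgroup G0 := ⨅ M : {M : Subgroup G0 // M.index = 2}, (M : Subgroup G0)
  haveI : K.Characteristic := characteristic_iff_comap_eq.2 fun φ => by
    ext x
    simp only [K, Subgroup.mem_comap, Subgroup.mem_iInf]
    constructor
    · intro h M
      have hM : (M.1.map (φ : G0 ≃* G0).toMonoidHom).index = 2 := by
        rw [show (φ : G0 ≃* G0).toMonoidHom = (φ : G0 →* G0) from rfl, index_map_equiv, M.2]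
      obtain ⟨y, hy, hxy⟩ := h ⟨_, hM⟩
      exact φ.injective hxy ▸ hy
    · intro h M
      have hM : (M.1.comap (φ : G0 ≃* G0).toMonoidHom).index = 2 := by
        rw [index_comap_of_surjective _ φ.surjective, M.2]
      exact h ⟨_, hM⟩
  haveI : (K.map G0.subtype).Normal := inferInstance
  set Q := G ⧸ K.map G0.subtype
  have hQp : IsPGroup 2 Q := fun q => by
    obtain ⟨g, rfl⟩ := QuotientGroup.mk'_surjective _ q
    refine ⟨2, ?_⟩
    rw [← map_pow, QuotientGroup.mk'_apply, QuotientGroup.eq_one_iff,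
      show g ^ 2 ^ 2 = g * g * (g * g) by rw [← sq (g * g), ← sq g, ← pow_mul]; norm_num]
    have hgg : g * g ∈ G0 := mul_self_mem_of_index_two hi g
    exact ⟨⟨g * g, hgg⟩ * ⟨g * g, hgg⟩, mem_iInf.2 fun M => mul_self_mem_of_index_two M.2 _, rfl⟩
  obtain ⟨k, hk⟩ := hQp.exists_card_eq
  have hidx : (K.map G0.subtype).index = K.index * 2 := by
    rw [index_map_subtype, hi]
  have hKN : N.index ∣ K.index := index_dvd_of_le
    (iInf_le (fun M : {M : Subgroup G0 // M.index = 2} => (M : Subgroup G0)) ⟨N, hN⟩)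
  have h4' : 4 ∣ Nat.card Q := by
    rw [← index_eq_card, hidx]
    rw [hN] at hKN
    obtain ⟨c, hc⟩ := hKN
    exact ⟨c, by rw [hc]; ring⟩
  have hk2 : 2 ≤ k := by
    by_contra hk'
    interval_cases k <;> norm_num at hk <;> rw [hk] at h4' <;> norm_num at h4'
  obtain ⟨M, hM, hMi⟩ := exists_normal_index_four (k - 2) Q (by rw [hk]; congr 1; omega)
  exact h4 (M.comap (QuotientGroup.mk' _)) (hM.comap _)
    (by rw [index_comap_of_surjective _ (QuotientGroup.mk'_surjective _), hMi])

section PGL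

open Matrix CfsgLib.SL2Trace CfsgLib.DicksonPSL2 Psl
open scoped MatrixGroups

variable {F : Type*} [Field F] [Fintype F]

/-- In `PGL(2, q)`, `q > 3` odd, the centralizer of an involution has more than four elements. -/
theorem pgl_four_lt_centralizer (hodd : Odd (Fintype.card F)) (hF : 3 < Fintype.card F)
    {s : PGL(2, F)} (hs : s * s = 1) (hs1 : s ≠ 1) :
    4 < Nat.card (Subgroup.centralizer ({s} : Set PGL(2, F))) := by
  classical
  haveI := finite_PGL (F := F)
  obtain ⟨g, rfl⟩ := ProjGenLinGroup.mk_surjective s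
  set M : Matrix (Fin 2) (Fin 2) F := g.1 with hMdef
  rw [← map_mul, ← map_one ProjGenLinGroup.mk] at hs
  obtain ⟨l, hl, hM⟩ := scalar_of_mk_eq hs.symm
  rw [Units.val_mul, Units.val_one] at hM
  have hns : ∀ a : F, M ≠ a • 1 := by
    intro a ha
    apply hs1
    rw [← pow_one (ProjGenLinGroup.mk g)]
    exact mk_pow_eq_one (l := a) (by rw [pow_one]; exact ha)
  have h2 := two_ne hodd
  have e00 := congrFun (congrFun hM 0) 0
  have e01 := congrFun (congrFun hM 0) 1
  have e10 := congrFun (congrFun hM 1) 0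
  have e11 := congrFun (congrFun hM 1) 1
  simp [Matrix.mul_apply, Fin.sum_univ_two] at e00 e01 e10 e11
  have htr : M 1 1 = -M 0 0 := by
    by_contra hne
    have hsum : M 0 0 + M 1 1 ≠ 0 := fun e => hne (by linear_combination e)
    refine hns ((l + M.det) / (M 0 0 + M 1 1)) ?_
    ext i j
    fin_cases i <;> fin_cases j <;> simp [Matrix.det_fin_two] <;> (try field_simp) <;> grind
  -- an element anticommuting with `M`
  obtain ⟨N, hN, hNd, hNtr⟩ : ∃ N : Matrix (Fin 2) (Fin 2) F,
      M * N = -(N * M) ∧ N.det ≠ 0 ∧ N 1 1 = -N 0 0 := by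
    by_cases hb : M 0 1 = 0
    · by_cases hc : M 1 0 = 0
      · refine ⟨!![0, 1; 1, 0], ?_, by simp [Matrix.det_fin_two], by simp⟩
        ext i j
        rw [Matrix.neg_apply, Matrix.mul_apply, Matrix.mul_apply, Fin.sum_univ_two, Fin.sum_univ_two]
        fin_cases i <;> fin_cases j <;> simp [htr, hb, hc]
      · refine ⟨!![1, -2 * M 0 0 / M 1 0; 0, -1], ?_, by simp [Matrix.det_fin_two], by simp⟩
        ext i j
        rw [Matrix.neg_apply, Matrix.mul_apply, Matrix.mul_apply, Fin.sum_univ_two, Fin.sum_univ_two]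
        fin_cases i <;> fin_cases j <;> simp [htr, hb] <;> (try field_simp) <;> ring
    · refine ⟨!![1, 0; -2 * M 0 0 / M 0 1, -1], ?_, by simp [Matrix.det_fin_two], by simp⟩
      ext i j
      rw [Matrix.neg_apply, Matrix.mul_apply, Matrix.mul_apply, Fin.sum_univ_two, Fin.sum_univ_two]
      fin_cases i <;> fin_cases j <;> simp [htr] <;> (try field_simp) <;> ring
  let Nu : GL (Fin 2) F := Matrix.GeneralLinearGroup.mkOfDetNeZero N hNd
  have hdet : ∀ b : F, b * b ≠ l → (b • (1 : Matrix (Fin 2) (Fin 2) F) + M).det ≠ 0 := by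
    intro b hb e
    apply hb
    simp [Matrix.det_fin_two, htr] at e
    linear_combination e + e00
  let B := {b : F // b * b ≠ l}
  let E : B → GL (Fin 2) F := fun b => Matrix.GeneralLinearGroup.mkOfDetNeZero _ (hdet b b.2)
  have hEc : ∀ b, ProjGenLinGroup.mk (E b) * ProjGenLinGroup.mk g =
      ProjGenLinGroup.mk g * ProjGenLinGroup.mk (E b) := by
    intro b
    rw [← map_mul, ← map_mul]
    congr 1
    apply Units.ext
    show (b.1 • (1 : Matrix (Fin 2) (Fin 2) F) + M) * M = M * (b.1 • 1 + M)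
    rw [add_mul, mul_add, smul_mul_assoc, mul_smul_comm, one_mul, mul_one]
  have hNc : ProjGenLinGroup.mk Nu * ProjGenLinGroup.mk g =
      ProjGenLinGroup.mk g * ProjGenLinGroup.mk Nu := by
    rw [← map_mul, ← map_mul, ProjGenLinGroup.mk_eq_mk_iff]
    refine ⟨-1, Units.ext ?_⟩
    rw [Units.val_mul, Units.val_mul, Units.val_mul, GeneralLinearGroup.coe_scalar]
    show N * M * Matrix.scalar (Fin 2) ((-1 : Fˣ) : F) = M * N
    rw [hN, Units.val_neg, Units.val_one, map_neg, map_one, mul_neg, mul_one]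
  let f : Option (Option B) → Subgroup.centralizer ({ProjGenLinGroup.mk g} : Set PGL(2, F))
    | none => 1
    | some none => ⟨ProjGenLinGroup.mk Nu, Subgroup.mem_centralizer_singleton_iff.2 hNc⟩
    | some (some b) => ⟨ProjGenLinGroup.mk (E b), Subgroup.mem_centralizer_singleton_iff.2 (hEc b)⟩
  have key1 : ∀ b : B, ProjGenLinGroup.mk (E b) ≠ 1 := by
    intro b e
    obtain ⟨m, -, hm⟩ := scalar_of_mk_eq (g := 1) (h := E b) (by rw [e, map_one])
    have hm' : b.1 • (1 : Matrix (Fin 2) (Fin 2) F) + M = m • (1 : Matrix (Fin 2) (Fin 2) F) := hm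
    exact hns (m - b.1) (by rw [sub_smul, ← hm', add_sub_cancel_left])
  have key2 : ProjGenLinGroup.mk Nu ≠ 1 := by
    intro e
    obtain ⟨m, hm0, hm⟩ := scalar_of_mk_eq (g := 1) (h := Nu) (by rw [e, map_one])
    have hm' : N = m • (1 : Matrix (Fin 2) (Fin 2) F) := hm
    rw [hm'] at hNtr
    simp at hNtr
    exact mul_ne_zero h2 hm0 (by linear_combination hNtr)
  have key3 : ∀ b : B, ProjGenLinGroup.mk (E b) ≠ ProjGenLinGroup.mk Nu := by
    intro b e
    obtain ⟨m, hm0, hm⟩ := scalar_of_mk_eq e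
    have hm' : N = m • (b.1 • (1 : Matrix (Fin 2) (Fin 2) F) + M) := hm
    -- `N` would commute and anticommute with `M`
    have hcm : N * M = M * N := by
      rw [hm', smul_mul_assoc, mul_smul_comm, add_mul, mul_add, smul_mul_assoc, mul_smul_comm,
        one_mul, mul_one]
    have hz : M * N = 0 := by
      rw [hcm] at hN
      have : (2 : F) • (M * N) = 0 := by rw [two_smul]; nth_rw 1 [hN]; exact neg_add_cancel _
      exact (smul_eq_zero.1 this).resolve_left h2
    have := congrArg Matrix.det hz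
    rw [Matrix.det_mul, Matrix.det_zero] at this
    rcases mul_eq_zero.1 this with h | h
    · exact g.det_ne_zero h
    · exact hNd h
  have key4 : ∀ b b' : B, ProjGenLinGroup.mk (E b) = ProjGenLinGroup.mk (E b') → b = b' := by
    intro b b' e
    obtain ⟨m, hm0, hm⟩ := scalar_of_mk_eq e
    have hm' : b'.1 • (1 : Matrix (Fin 2) (Fin 2) F) + M =
      m • (b.1 • (1 : Matrix (Fin 2) (Fin 2) F) + M) := hm
    by_cases hm1 : m = 1
    · subst hm1
      rw [one_smul, add_left_inj] at hm'
      have := congrFun (congrFun hm' 0) 0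
      simp at this
      exact Subtype.ext this.symm
    · exfalso
      refine hns ((b'.1 - m * b.1) / (m - 1)) ?_
      ext i j
      have := congrFun (congrFun hm' i) j
      have hm1' : m - 1 ≠ 0 := sub_ne_zero.2 hm1
      fin_cases i <;> fin_cases j <;> simp at this ⊢ <;> (try field_simp) <;> grind
  have hinj : Function.Injective f := by
    rintro (_ | _ | b) (_ | _ | b') h <;> have h' := congrArg Subtype.val h <;> simp [f, -ProjGenLinGroup.mk_eq_one] at h' ⊢
    · exact key2 h'.symm
    · exact key1 _ h'.symm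
    · exact key2 h'
    · exact key3 _ h'.symm
    · exact key1 _ h'
    · exact key3 _ h'
    · exact key4 _ _ h'
  have hB : 3 ≤ Nat.card B := by
    rw [Nat.card_eq_fintype_card, Fintype.card_subtype_compl]
    have : Fintype.card {b : F // b * b = l} ≤ 2 := by
      rw [Fintype.card_subtype]
      refine le_trans (le_trans (Finset.card_le_card (fun b hb => ?_)) (Multiset.toFinset_card_le _))
        (Polynomial.card_nthRoots 2 l)
      rw [Multiset.mem_toFinset, Polynomial.mem_nthRoots two_pos, sq]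
      simpa using hb
    obtain ⟨k, hk⟩ := hodd
    omega
  have h := Nat.card_le_card_of_injective f hinj
  rw [Finite.card_option, Finite.card_option] at h
  omega

end PGL

end CfsgLib.DGroupCent
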