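import Cfsg.Agent.DGroupCent.TorusCases
import Cfsg.Agent.AutPSL.FieldCentralizer
import Cfsg.Agent.AutPSL.Involution
import Cfsg.Agent.DicksonPSL2.Subfield

/-!
# Extensions of `PSL(2, q)` by an outer involution without elementary abelian subgroups of order 8
-/

set_option autoImplicit false
set_option linter.style.haveILetI false

namespace CfsgLib.DGroupCent

open Subgroup CfsgLib.DicksonPSL2 CfsgLib.AutPSL CfsgLib.SL2Trace
open scoped MatrixGroups

theorem pgl_of_index_two {G : Type*} [Group G] [Finite G] {F : Type*} [Field F] [Fintype F]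
    (hodd : Odd (Fintype.card F)) {G0 : Subgroup G} [G0.Normal] (hi : G0.index = 2)
    (e : G0 ≃* PSL(2, F)) (hC : centralizer (G0 : Set G) = ⊥) {x : G} (hx : x ∉ G0)
    (hxx : x * x = 1)
    (h8 : ∀ a b c : G, orderOf a = 2 → orderOf b = 2 → a ≠ b → a * b = b * a → c * c = 1 →
      c * a = a * c → c * b = b * c → c ∈ closure ({a, b} : Set G)) :
    Nonempty (G ≃* PGL(2, F)) := by
  classical
  obtain ⟨p, hp⟩ := CharP.exists F
  obtain ⟨nf, hpp, hF⟩ := FiniteField.card F p
  haveI := Fact.mk hpp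
  haveI := finite_PGL (F := F)
  have hp2 : p ≠ 2 := by
    rintro rfl
    rw [hF, Nat.odd_pow_iff nf.pos.ne'] at hodd
    exact absurd hodd (by decide)
  -- the action on `G0`
  let φ : G →* MulAut PSL(2, F) := (MulAut.congr e).toMonoidHom.comp MulAut.conjNormal
  have hφ : ∀ (g : G) (n : G0), φ g (e n) = e (MulAut.conjNormal g n) := fun g n => by
    show e (MulAut.conjNormal g (e.symm (e n))) = _
    rw [e.symm_apply_apply]
  have hinj : Function.Injective φ := by
    rw [← MonoidHom.ker_eq_bot_iff, eq_bot_iff, ← hC]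
    intro g hg
    refine mem_centralizer_iff.2 fun n hn => ?_
    have h := hφ g ⟨n, hn⟩
    rw [show φ g = 1 from hg, MulAut.one_apply] at h
    have h' := congrArg Subtype.val (e.injective h)
    rw [MulAut.conjNormal_apply] at h'
    change n = g * n * g⁻¹ at h'
    exact eq_mul_inv_iff_mul_eq.1 h'
  -- the action of `PGL`
  let c0 : GL (Fin 2) F →* MulAut PSL(2, F) := toPSLAut.comp conjSL
  have hc0 : ∀ g, c0 g = 1 → g ∈ center (GL (Fin 2) F) := fun g hg => by
    obtain ⟨u, rfl⟩ := conjSL_eq_one_iff.1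
      (toPSLAut_injective p (hg.trans (map_one toPSLAut).symm))
    rw [Matrix.GeneralLinearGroup.center_eq_range_scalar]
    exact ⟨u, rfl⟩
  obtain ⟨c, hc⟩ : ∃ c : PGL(2, F) →* MulAut PSL(2, F), ∀ g, c (Matrix.ProjGenLinGroup.mk g) = c0 g := by
    refine ⟨(Matrix.ProjGenLinGroup.mk).liftOfSurjective Matrix.ProjGenLinGroup.mk_surjective
      ⟨c0, fun g hg => ?_⟩, fun g => MonoidHom.liftOfRightInverse_comp_apply _ _ _ _ g⟩
    rw [MonoidHom.mem_ker, Matrix.ProjGenLinGroup.mk_eq_one,
      Matrix.GeneralLinearGroup.center_eq_range_scalar] at hg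
    obtain ⟨u, rfl⟩ := hg
    exact (congrArg toPSLAut (conjSL_scalar u)).trans (map_one toPSLAut)
  have hcinj : Function.Injective c := by
    rw [injective_iff_map_eq_one]
    intro y hy
    obtain ⟨g, rfl⟩ := Matrix.ProjGenLinGroup.mk_surjective y
    rw [hc] at hy
    exact Matrix.ProjGenLinGroup.mk_eq_one.2 (hc0 g hy)
  have hinner : ∀ h : SL(2, F), c0 (Matrix.SpecialLinearGroup.toGL h) = MulAut.conj (proj h) :=
    fun h => by
      show toPSLAut (conjSL _) = _
      rw [conjSL_toGL, toPSLAut_conj]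
  by_cases hall : φ.range ≤ c.range
  · -- then the images coincide
    have hcard : Nat.card G = Nat.card PGL(2, F) := by
      have h := G0.card_mul_index
      have h2 := (toG (F := F)).range.card_mul_index
      rw [card_range_toG, index_range_toG_odd hodd] at h2
      rw [hi, Nat.card_congr e.toEquiv, h2] at h
      exact h.symm
    have heq : φ.range = c.range := eq_of_le_of_card_ge hall (by
      rw [← Nat.card_congr (MonoidHom.ofInjective hinj).toEquiv,
        ← Nat.card_congr (MonoidHom.ofInjective hcinj).toEquiv, hcard])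
    exact ⟨(MonoidHom.ofInjective hinj).trans ((MulEquiv.subgroupCongr heq).trans
      (MonoidHom.ofInjective hcinj).symm)⟩
  exfalso
  have hG0 : ∀ n : G0, φ n = MulAut.conj (e n) := fun n => by
    ext1 y
    obtain ⟨m, rfl⟩ := e.surjective y
    rw [hφ, MulAut.conj_apply, ← map_inv, ← map_mul, ← map_mul]
    congr 1
  obtain ⟨g, σ, hgσ⟩ : ∃ g σ, φ x = toPSLAut (conjSL g * fieldSL σ) := by
    rcases form_cases (le_refl 2) (φ x) with h | ⟨h3, -⟩
    · exact h
    · omega
  have hσ : σ ≠ 1 := by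
    rintro rfl
    refine hall ?_
    rintro _ ⟨y, rfl⟩
    have hG0c : ∀ n : G0, φ n ∈ c.range := fun n => by
      obtain ⟨h, hh⟩ := proj_surjective (e n)
      exact ⟨Matrix.ProjGenLinGroup.mk (Matrix.SpecialLinearGroup.toGL h), by
        rw [hc, hinner, hh, hG0]⟩
    have hxc : φ x ∈ c.range := ⟨Matrix.ProjGenLinGroup.mk g, by
      rw [hc, hgσ, map_one fieldSL, mul_one]; rfl⟩
    by_cases hy : y ∈ G0
    · exact hG0c ⟨y, hy⟩
    · have hxy : x * y ∈ G0 := (mul_mem_iff_of_index_two hi).2 (iff_of_false hx hy)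
      have h := mul_mem hxc (hG0c ⟨_, hxy⟩)
      rwa [← map_mul, ← mul_assoc, hxx, one_mul] at h
  -- the square of `φ x`
  have hsq : conjSL (g * mapGL σ g) * fieldSL (σ * σ) = 1 := by
    refine toPSLAut_injective p ?_
    rw [map_one, ← map_one φ, ← hxx, map_mul φ, hgσ, ← map_mul toPSLAut, mul_assoc (conjSL g),
      ← mul_assoc (fieldSL σ), fieldSL_mul_conjSL, mul_assoc (conjSL (mapGL σ g)), ← mul_assoc,
      ← map_mul conjSL, ← map_mul fieldSL]
  obtain ⟨hσ2, lam, hlam⟩ := eq_one_of_conjSL_mul_fieldSL hsq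
  have hσo : orderOf σ = 2 := orderOf_eq_prime (by rw [sq, hσ2]) hσ
  obtain ⟨-, hq, hpow⟩ := involution_eq_pow hF nf.pos hσo
  set m := p ^ ((nf : ℕ) / 2)
  have hmodd : Odd m := (hpp.odd_of_ne_two hp2).pow
  -- `σ λ = λ`
  have hfix : σ (lam : F) = lam := by
    have hcomm : mapGL σ g * g = g * mapGL σ g := by
      have hz : Matrix.GeneralLinearGroup.scalar (Fin 2) lam ∈ center (GL (Fin 2) F) := by
        rw [Matrix.GeneralLinearGroup.center_eq_range_scalar]; exact ⟨lam, rfl⟩
      have h1 := mem_center_iff.1 hz g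
      rw [← hlam, mul_assoc] at h1
      exact (mul_left_cancel h1).symm ▸ rfl
    have h2 : mapGL σ (g * mapGL σ g) = g * mapGL σ g := by
      rw [map_mul]
      have h3 : mapGL σ (mapGL σ g) = g := by
        apply Units.ext
        ext i j
        show σ (σ ((g : Matrix (Fin 2) (Fin 2) F) i j)) = _
        exact congrFun (congrArg DFunLike.coe hσ2) _
      rw [h3, hcomm]
    rw [hlam] at h2
    have h4 := congrArg (fun u : GL (Fin 2) F => (u.1 : Matrix (Fin 2) (Fin 2) F) 0 0) h2
    simpa [Matrix.GeneralLinearGroup.coe_scalar] using h4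
  -- the determinant is a square
  set δ := ((Matrix.GeneralLinearGroup.det g : Fˣ) : F)
  have hδ : δ * δ ^ m = (lam : F) * lam := by
    have h1 := congrArg (fun u : GL (Fin 2) F => ((u : Matrix (Fin 2) (Fin 2) F)).det) hlam
    simp only [Units.val_mul, Matrix.det_mul] at h1
    rw [show ((mapGL σ g : GL (Fin 2) F) : Matrix (Fin 2) (Fin 2) F).det = σ (g.1.det) from
      (RingHom.map_det σ.toRingHom g.1).symm, hpow] at h1
    rw [show δ = g.1.det from rfl, h1]
    simp [Matrix.GeneralLinearGroup.coe_scalar, sq]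
  have hsquare : IsSquare δ := by
    refine (FiniteField.isSquare_iff (by
      intro h; rw [ringChar.eq F p] at h; exact hp2 h) (Matrix.GeneralLinearGroup.det g).ne_zero).2 ?_
    obtain ⟨r, hr⟩ := hmodd
    have hexp : Fintype.card F / 2 = (m + 1) * r := by
      rw [hq, hr]
      have : (2 * r + 1) * (2 * r + 1) = 2 * ((2 * r + 1 + 1) * r) + 1 := by ring
      omega
    have hl : (lam : F) ^ (m - 1) = 1 := by
      have h1 : (lam : F) ^ m = lam := by rw [← hpow, hfix]
      have h2 : (lam : F) * (lam : F) ^ (m - 1) = lam * 1 := by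
        rw [← pow_succ', show m - 1 + 1 = m by omega, h1, mul_one]
      exact mul_left_cancel₀ lam.ne_zero h2
    rw [hexp, pow_mul, pow_succ', hδ, ← sq, ← pow_mul, show 2 * r = m - 1 by omega, hl]
  obtain ⟨μ, hμ⟩ := hsquare
  have hμ0 : μ ≠ 0 := fun h => (Matrix.GeneralLinearGroup.det g).ne_zero (by
    show δ = 0
    rw [hμ, h, mul_zero])
  let μu := Units.mk0 μ hμ0
  let h : SL(2, F) := ⟨μ⁻¹ • (g : Matrix (Fin 2) (Fin 2) F), by
    rw [Matrix.det_smul, Fintype.card_fin, show (g : Matrix (Fin 2) (Fin 2) F).det = δ from rfl, hμ]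
    field_simp⟩
  have hgh : g = Matrix.GeneralLinearGroup.scalar (Fin 2) μu * Matrix.SpecialLinearGroup.toGL h := by
    apply Units.ext
    rw [Units.val_mul, Matrix.GeneralLinearGroup.coe_scalar]
    show (g : Matrix (Fin 2) (Fin 2) F) = Matrix.scalar (Fin 2) μ * (μ⁻¹ • (g : Matrix (Fin 2) (Fin 2) F))
    rw [show Matrix.scalar (Fin 2) μ = μ • (1 : Matrix (Fin 2) (Fin 2) F) by
      simp [Matrix.smul_one_eq_diagonal], smul_mul_assoc, one_mul, smul_inv_smul₀ hμ0]
  -- a pure field automorphism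
  set x' := ((e.symm (proj h))⁻¹ : G0) * x with hx'
  have hx'G : (x' : G) ∉ G0 := fun hh => hx (by
    have := mul_mem (e.symm (proj h)).2 hh
    rwa [hx', InvMemClass.coe_inv, mul_inv_cancel_left] at this)
  have hφx' : φ x' = toPSLAut (fieldSL σ) := by
    rw [hx', map_mul, hG0, map_inv e, e.apply_symm_apply, map_inv, inv_mul_eq_iff_eq_mul, ← hinner,
      hgσ, hgh, map_mul conjSL, conjSL_scalar, one_mul, map_mul toPSLAut]
    rfl
  have hx'2 : x' * x' = 1 := hinj (by
    rw [map_mul, hφx', ← map_mul toPSLAut, ← map_mul fieldSL, hσ2, map_one, map_one, map_one])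
  obtain ⟨v, hv, hvw, hvw', hvfix⟩ := Torus.exists_four_fixed hodd
  have hcomm : ∀ u : SL(2, F), u.1.map σ = u.1 →
      x' * (e.symm (proj u) : G) = (e.symm (proj u) : G) * x' := by
    intro u hu
    have h1 := hφ x' (e.symm (proj u))
    rw [e.apply_symm_apply, hφx'] at h1
    have h2 : toPSLAut (fieldSL σ) (proj u) = proj u := by
      show toPSLAut (fieldSL σ) (QuotientGroup.mk u) = QuotientGroup.mk u
      rw [toPSLAut_mk]
      congr 1
      exact Subtype.ext (by rw [fieldSL_coe, hu])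
    rw [h2] at h1
    have h3 := congrArg Subtype.val (congrArg e.symm h1)
    rw [e.symm_apply_apply, MulAut.conjNormal_apply] at h3
    exact mul_inv_eq_iff_eq_mul.1 h3.symm
  have ho : ∀ u : PSL(2, F), orderOf ((e.symm u : G0) : G) = orderOf u := fun u => by
    rw [orderOf_coe, MulEquiv.orderOf_eq]
  refine hx'G ((closure_le _).2 ?_ (h8 _ _ _ (by rw [ho, hv]) (by rw [ho, Torus.orderOf_w])
    (fun h' => hvw (e.symm.injective (Subtype.ext h'))) ?_ hx'2 (hcomm v (hvfix σ))
    (hcomm Psl.wSL (by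
      ext i j
      fin_cases i <;> fin_cases j <;> simp [Psl.wSL]))))
  · rintro y (rfl | rfl) <;> exact Subtype.coe_prop _
  · rw [← Subgroup.coe_mul, ← Subgroup.coe_mul, ← map_mul, hvw', map_mul]

end CfsgLib.DGroupCent
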