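import Cfsg.Agent.DGroupCent.OneClass
import Cfsg.Agent.DGroupCent.PglExt
import Cfsg.Agent.DGroupCent.Dihedral
import Cfsg.Agent.Small.KleinSylow
import Cfsg.Agent.S0205

/-!
# Sylow subgroups and classes of involutions in the induction
-/

set_option autoImplicit false
set_option linter.style.haveILetI false

namespace CfsgLib.DGroupCent

open Subgroup

universe u

variable {G : Type u} [Group G] [Finite G]

theorem solvable_of_odd {H : Type u} [Group H] [Finite H] (h : Odd (Nat.card H)) :
    Group.IsSolvable H :=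
  Cfsg.Agent.S0205.result h

theorem oddCore_le_of_odd {N : Subgroup G} [N.Normal] (h : Odd (Nat.card N)) :
    N ≤ Cfsg.oddCore G :=
  CfsgLib.PLocal.le_pPrimeCore (Nat.coprime_two_right.2 h)

/-- With trivial odd core, a normal two-complement forces solvability. -/
theorem solvable_of_complement (hO : Cfsg.oddCore G = ⊥) (P : Sylow 2 G) {N : Subgroup G}
    [N.Normal] (h : N.IsComplement' (P : Subgroup G)) : Group.IsSolvable G := by
  haveI : Fact (Nat.Prime 2) := ⟨Nat.prime_two⟩
  have hodd : Odd (Nat.card N) := by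
    rw [← h.index_eq_card]
    exact Nat.odd_iff.2 (Nat.two_dvd_ne_zero.1 P.not_dvd_index)
  have hN : N = ⊥ := le_bot_iff.1 (hO ▸ oddCore_le_of_odd hodd)
  have hP : (P : Subgroup G).index = 1 := by rw [h.index_eq_card, hN, card_bot]
  have hp : IsPGroup 2 G := by
    have := P.isPGroup'
    rw [index_eq_one.1 hP] at this
    exact this.of_equiv topEquiv
  haveI := hp.isNilpotent
  infer_instance

theorem oddCore_normal_subgroup (hO : Cfsg.oddCore G = ⊥) (N : Subgroup G) [N.Normal] :
    Cfsg.oddCore N = ⊥ := by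
  haveI : (Cfsg.oddCore N).Characteristic := CfsgLib.PLocal.pPrimeCoreCharacteristic 2 N
  rw [← (map_eq_bot_iff_of_injective _ N.subtype_injective), eq_bot_iff, ← hO]
  refine oddCore_le_of_odd ?_
  rw [card_map_of_injective N.subtype_injective]
  exact CfsgLib.TwoGroups.odd_card_oddCore

theorem isConj_of_one_class
    (h : Nat.card {C : ConjClasses G // ∃ t, orderOf t = 2 ∧ ConjClasses.mk t = C} = 1) :
    ∀ a b : G, orderOf a = 2 → orderOf b = 2 → IsConj a b := by
  intro a b ha hb
  haveI := (Nat.card_eq_one_iff_unique.1 h).1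
  exact ConjClasses.mk_eq_mk_iff_isConj.1 (congrArg Subtype.val (Subsingleton.elim
    (⟨ConjClasses.mk a, a, ha, rfl⟩ : {C : ConjClasses G // ∃ t, orderOf t = 2 ∧ ConjClasses.mk t = C})
    ⟨ConjClasses.mk b, b, hb, rfl⟩))

/-- Dihedral Sylow subgroups in a nonsolvable group with trivial odd core. -/
theorem classes_cases (hO : Cfsg.oddCore G = ⊥) (hns : ¬ Group.IsSolvable G) (P : Sylow 2 G)
    {n : ℕ} (hn : 2 ≤ n) (eP : (P : Subgroup G) ≃* DihedralGroup n) :
    (∀ a b : G, orderOf a = 2 → orderOf b = 2 → IsConj a b) ∨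
      (4 ∣ n ∧ (∃ N : Subgroup G, N.Normal ∧ N.index = 2) ∧
        ∀ N : Subgroup G, N.Normal → N.index ≠ 4) := by
  haveI : NeZero n := ⟨by omega⟩
  by_cases h2 : n = 2
  · rcases CfsgLib.Small.kleinFour_classes P
      (CfsgLib.DihedralLocal.isKleinFour_of_two eP h2) with ⟨-, N, hN, hc⟩ | ⟨h, -⟩
    · exact absurd (solvable_of_complement hO P hc) hns
    · exact Or.inl (isConj_of_one_class h)
  have h4 := CfsgLib.DihedralLocal.four_dvd_of_ne_two eP hn h2
  rcases CfsgLib.DihedralClasses.classes_of_dihedral eP h4 with ⟨h, -⟩ | ⟨-, h, h'⟩ |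
    ⟨-, Q, N, hN, hc⟩
  · exact Or.inl (isConj_of_one_class h)
  · exact Or.inr ⟨h4, h, h'⟩
  · exact absurd (solvable_of_complement hO Q hc) hns

theorem nonsolvable_of_index_two {G0 : Subgroup G} (hi : G0.index = 2)
    (hns : ¬ Group.IsSolvable G) : ¬ Group.IsSolvable G0 := by
  intro h
  haveI := normal_of_index_eq_two hi
  haveI : Group.IsSolvable (G ⧸ G0) := by
    haveI : IsCyclic (G ⧸ G0) := isCyclic_of_prime_card (p := 2) (by rw [← index_eq_card, hi])
    exact Group.isSolvable_of_comm fun a b => mul_comm' a b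
  exact hns ((Group.isSolvable_iff_subgroup_quotient G0).2 ⟨h, inferInstance⟩)

/-- The Sylow subgroup of an index-two subgroup. -/
theorem exists_sylow_index_two (S : Sylow 2 G) {G0 : Subgroup G} (hi : G0.index = 2) :
    (∃ P : Sylow 2 G0, (P : Subgroup G0) = (S : Subgroup G).subgroupOf G0) ∧
      ¬ (S : Subgroup G) ≤ G0 := by
  haveI : Fact (Nat.Prime 2) := ⟨Nat.prime_two⟩
  haveI := normal_of_index_eq_two hi
  have hle : ¬ (S : Subgroup G) ≤ G0 := fun h =>
    S.not_dvd_index (hi.symm.dvd.trans (index_dvd_of_le h))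
  have e1 := relIndex_mul_index (inf_le_left : (S : Subgroup G) ⊓ G0 ≤ S)
  have e2 := relIndex_mul_index (inf_le_right : (S : Subgroup G) ⊓ G0 ≤ G0)
  rw [inf_comm, inf_relIndex_right] at e1
  rw [inf_relIndex_right, hi] at e2
  have hr : G0.relIndex (S : Subgroup G) = 2 := by
    refine ((Nat.dvd_prime Nat.prime_two).1 ((relIndex_dvd_index_of_normal _ _).trans hi.dvd)).resolve_left
      fun h => hle (relIndex_eq_one.1 h)
  rw [hr, inf_comm G0] at e1
  have hidx : ((S : Subgroup G).subgroupOf G0).index = (S : Subgroup G).index := by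
    have e : (S : Subgroup G).relIndex G0 * 2 = 2 * (S : Subgroup G).index := e2.trans e1.symm
    rw [mul_comm 2] at e
    exact Nat.eq_of_mul_eq_mul_right two_pos e
  exact ⟨⟨(S.isPGroup'.comap_subtype (K := G0)).toSylow (fun h => S.not_dvd_index (hidx ▸ h)), rfl⟩,
    hle⟩

/-- The outcome of the index-two case. -/
theorem pslish_of_index_two (hO : Cfsg.oddCore G = ⊥) (S : Sylow 2 G) {n : ℕ} [NeZero n]
    (eS : (S : Subgroup G) ≃* DihedralGroup n) {G0 : Subgroup G} [G0.Normal] (hi : G0.index = 2)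
    (h4 : ∀ N : Subgroup G, N.Normal → N.index ≠ 4) (hgood : Good G0)
    (hns : ¬ Group.IsSolvable G) (hC : centralizer (G0 : Set G) = ⊥) {x : G} (hx : x ∉ G0)
    (hxx : x * x = 1) : PSLish G := by
  haveI : Fact (Nat.Prime 2) := ⟨Nat.prime_two⟩
  obtain ⟨F, fF, fFin, hodd, hF, hiso⟩ := hgood.resolve_left (nonsolvable_of_index_two hi hns)
  have hq : G0 ⧸ Cfsg.oddCore G0 ≃* G0 :=
    (QuotientGroup.quotientMulEquivOfEq (oddCore_normal_subgroup hO G0)).trans
      QuotientGroup.quotientBot
  rcases hiso with ⟨⟨e⟩⟩ | ⟨⟨e⟩⟩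
  · refine ⟨F, fF, fFin, hodd, hF, Or.inr ?_⟩
    suffices h8 : Nonempty (G ≃* Matrix.ProjGenLinGroup (Fin 2) F) from h8.map
      ((QuotientGroup.quotientMulEquivOfEq hO).trans QuotientGroup.quotientBot).trans
    refine pgl_of_index_two hodd hi (hq.symm.trans e) hC hx hxx ?_
    intro a b c ha hb hne hab hcc hca hcb
    have hV : Four a b := ⟨ha, hb, hne, hab⟩
    have haV : a ∈ closure ({a, b} : Set G) := subset_closure (by simp)
    have hbV : b ∈ closure ({a, b} : Set G) := subset_closure (by simp)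
    have hcent : ∀ v ∈ closure ({a, b} : Set G), c * v = v * c := by
      have hle : closure ({a, b} : Set G) ≤ centralizer ({c} : Set G) := by
        rw [closure_le]
        rintro y (rfl | rfl) <;> refine mem_centralizer_singleton_iff.2 ?_
        exacts [hca.symm, hcb.symm]
      exact fun v hv => (mem_centralizer_singleton_iff.1 (hle hv)).symm
    have hp : IsPGroup 2 (zpowers c) := by
      refine IsPGroup.iff_orderOf.2 fun v => ?_
      obtain ⟨k, -, hk⟩ := (Nat.dvd_prime_pow Nat.prime_two).1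
        ((orderOf_coe v).symm.dvd.trans ((orderOf_dvd_of_mem_zpowers v.2).trans
          (orderOf_dvd_of_pow_eq_one (n := 2 ^ 1) (by rw [pow_one, sq, hcc]))))
      exact ⟨k, hk⟩
    obtain ⟨T, hT⟩ := ((hV.isPGroup.to_sup_of_normal_left' hp) (by
      rw [zpowers_le]
      exact (centralizer_le_normalizer _) (mem_centralizer_iff.2 fun v hv => (hcent v hv).symm))).exists_le_sylow
    have hkf : IsKleinFour (closure ({a, b} : Set G)) := CfsgLib.TwoGroups.isKleinFour_iff.2 ⟨by
        rw [Nat.card_congr (CfsgLib.Small.closurePairEquivDihedral ha hb hne).toEquiv,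
          DihedralGroup.nat_card, hV.hk],
      fun v hv => by
        rcases sq_eq_one_of_mem_closure_pair (mul_self_of_orderOf ha) (mul_self_of_orderOf hb) hab
          v hv with e | e | e | e <;> rw [e]
        · exact one_mul _
        · exact mul_self_of_orderOf ha
        · exact mul_self_of_orderOf hb
        · exact mul_self_of_orderOf hV.hk⟩
    exact CfsgLib.DihedralLocal.centralizer_inf_eq (S := T) ((S.equiv T).symm.trans eS) hkf
      (le_sup_left.trans hT) (hT (mem_sup_right (mem_zpowers c)))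
      (mem_centralizer_iff.2 fun v hv => (hcent v hv).symm)
  · exfalso
    let f : G0 →* Matrix.ProjGenLinGroup (Fin 2) F := (hq.symm.trans e).toMonoidHom
    refine no_index_two_of_index_two hi h4 (CfsgLib.DicksonPSL2.toG.range.comap f) ?_
    rw [index_comap_of_surjective _ (hq.symm.trans e).surjective,
      CfsgLib.DicksonPSL2.index_range_toG_odd hodd]

end CfsgLib.DGroupCent
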