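import Cfsg.Agent.DGroupCent.Fpf
import Cfsg.Agent.NilpotentCover.Basic

/-!
# The derived subgroup of an odd group with a fixed-point-free four group
-/

set_option autoImplicit false
set_option linter.style.haveILetI false

open scoped Pointwise commutatorElement

namespace CfsgLib.DGroupCent

open Subgroup

universe u

variable {G : Type*} [Group G] {i j : G} {Y W Z : Subgroup G}

theorem Fpf.subgroupOf (h : Fpf i j Y) {M : Subgroup G} (hY : Y ≤ M) (hi : i ∈ M) (hj : j ∈ M) :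
    Fpf (⟨i, hi⟩ : M) ⟨j, hj⟩ (Y.subgroupOf M) := by
  refine ⟨Subtype.ext h.ii, Subtype.ext h.jj, Subtype.ext h.ij, fun y hy => ?_, fun y hy => ?_, ?_,
    fun y hy a b => Subtype.ext ?_⟩
  · exact mem_subgroupOf.2 (h.normI _ (mem_subgroupOf.1 hy))
  · exact mem_subgroupOf.2 (h.normJ _ (mem_subgroupOf.1 hy))
  · rw [Nat.card_congr (subgroupOfEquivOfLe hY).toEquiv]; exact h.odd
  · exact h.fpf _ (mem_subgroupOf.1 hy) (congrArg Subtype.val a) (congrArg Subtype.val b)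

theorem conj_mem_of_inf {s : G} {A B : Subgroup G} (hA : ∀ y ∈ A, s * y * s⁻¹ ∈ A)
    (hB : ∀ y ∈ B, s * y * s⁻¹ ∈ B) {y : G} (hy : y ∈ A ⊓ B) : s * y * s⁻¹ ∈ A ⊓ B :=
  mem_inf.2 ⟨hA y hy.1, hB y hy.2⟩

theorem conj_mem_centralizer {s : G} {W : Subgroup G} (hW : ∀ w ∈ W, s⁻¹ * w * s ∈ W) {y : G}
    (hy : y ∈ centralizer (W : Set G)) : s * y * s⁻¹ ∈ centralizer (W : Set G) := by
  refine mem_centralizer_iff.2 fun w hw => ?_
  calc w * (s * y * s⁻¹) = s * ((s⁻¹ * w * s) * y) * s⁻¹ := by group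
    _ = s * (y * (s⁻¹ * w * s)) * s⁻¹ := by rw [mem_centralizer_iff.1 hy _ (hW w hw)]
    _ = s * y * s⁻¹ * w := by group

theorem mem_normalizer_of_conj [Finite G] {W : Subgroup G} {s : G}
    (hs : ∀ w ∈ W, s * w * s⁻¹ ∈ W) : s ∈ normalizer (W : Set G) := by
  refine mem_normalizer_iff.2 fun n => ⟨hs n, fun hn => ?_⟩
  have hle : W.map (MulAut.conj s).toMonoidHom ≤ W := by
    rintro _ ⟨x, hx, rfl⟩; exact hs x hx
  have heq := eq_of_le_of_card_ge hle
    (card_map_of_injective (f := (MulAut.conj s).toMonoidHom) (MulAut.conj s).injective).ge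
  obtain ⟨x, hx, hxe⟩ := heq.ge hn
  have : x = n := by simpa using hxe
  exact this ▸ hx

theorem commutator_lt [Finite G] {Z : Subgroup G} [Group.IsSolvable Z] (hZ : Z ≠ ⊥) :
    ⁅Z, Z⁆ < Z := by
  haveI : Nontrivial Z := Z.nontrivial_iff_ne_bot.2 hZ
  rw [← Z.map_subtype_commutator]
  refine lt_of_le_of_ne (map_subtype_le _) fun e => ?_
  refine (Group.IsSolvable.commutator_lt_top_of_nontrivial Z).ne
    (map_injective Z.subtype_injective ?_)
  rw [e, ← MonoidHom.range_eq_map, range_subtype]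

theorem conj_mem_commutator {s : G} {A B : Subgroup G} (hA : ∀ y ∈ A, s * y * s⁻¹ ∈ A)
    (hB : ∀ y ∈ B, s * y * s⁻¹ ∈ B) {y : G} (hy : y ∈ ⁅A, B⁆) : s * y * s⁻¹ ∈ ⁅A, B⁆ := by
  have h1 : (⁅A, B⁆).map (MulAut.conj s).toMonoidHom ≤ ⁅A, B⁆ := by
    rw [Subgroup.map_commutator]
    refine Subgroup.commutator_mono ?_ ?_
    · rintro _ ⟨a, ha, rfl⟩; exact hA a ha
    · rintro _ ⟨a, ha, rfl⟩; exact hB a ha
  exact h1 ⟨y, hy, rfl⟩

theorem conj_mem_closure_pair {s : G} {A B : Subgroup G} (hA : ∀ y ∈ A, s * y * s⁻¹ ∈ A)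
    (hB : ∀ y ∈ B, s * y * s⁻¹ ∈ B) {y : G} (hy : y ∈ A ⊔ B) : s * y * s⁻¹ ∈ A ⊔ B := by
  have h1 : A ⊔ B ≤ (A ⊔ B).comap (MulAut.conj s).toMonoidHom :=
    sup_le (fun a ha => mem_sup_left (hA a ha)) fun a ha => mem_sup_right (hB a ha)
  exact h1 hy

/-- In the irreducible case an element of `Z` fixed by `i` and outside the kernel forces the
derived subgroup of `Y` into the centralizer of `W`. -/
theorem Module'.derived_le [Finite G] (h : Module' i j Y W Z)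
    (hYW : ∀ y ∈ Y, ∀ w ∈ W, y * w * y⁻¹ ∈ W) {K : Subgroup G} (hK : IsMaxFix W Z K)
    (hKC : K ≤ centralizer (W : Set G)) {a : G} (ha : a ∈ Z) (hai : a * i = i * a) (haK : a ∉ K) :
    ⁅Y, Y⁆ ≤ centralizer (W : Set G) := by
  obtain ⟨-, -, hdec⟩ := h.shape hK ha hai haK
  have hKw : ∀ k ∈ K, ∀ w ∈ W, k * w = w * k := fun k hk w hw =>
    (mem_centralizer_iff.1 (hKC hk) w hw).symm
  -- `i` inverts `W`
  have hWi : ∀ w ∈ W, w * i = i * w → w = 1 := fun w hw hwi => h.nofix w hw fun z hz => by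
    obtain ⟨c, hc, hci, hck⟩ := hdec z hz
    have e1 := h.fpf.comm_of_comm (h.ZY hc) (h.WY hw) hci hwi
    calc z * w = c * ((c⁻¹ * z) * w) := by group
      _ = c * (w * (c⁻¹ * z)) := by rw [hKw _ hck w hw]
      _ = (c * w) * (c⁻¹ * z) := by group
      _ = w * z := by rw [e1]; group
  have hinv : ∀ w ∈ W, i * w * i⁻¹ = w⁻¹ := inverts_of_fpf h.fpf.ii h.WI hWi
  have htriv : ∀ u ∈ Y, i * u * i⁻¹ = u⁻¹ → u ∈ centralizer (W : Set G) := by
    intro u hu hiu
    refine mem_of_sq_mem_of_odd (odd_orderOf h.fpf.odd hu) (mem_centralizer_iff.2 fun w hw => ?_)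
    have h1 := hinv _ (hYW u hu w hw)
    have h2 : i * (u * w * u⁻¹) * i⁻¹ = u⁻¹ * w⁻¹ * u := by
      calc i * (u * w * u⁻¹) * i⁻¹ = (i * u * i⁻¹) * (i * w * i⁻¹) * (i * u * i⁻¹)⁻¹ := by group
        _ = _ := by rw [hiu, hinv w hw, inv_inv]
    rw [h2] at h1
    have h3 : u⁻¹ * w * u = u * w * u⁻¹ := by
      apply inv_injective
      rw [← h1]; group
    calc w * (u * u) = u * (u⁻¹ * w * u) * u := by group
      _ = u * (u * w * u⁻¹) * u := by rw [h3]
      _ = u * u * w := by group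
  set N0 := Y ⊓ centralizer (W : Set G) with hN0
  have hN0n : Y ≤ normalizer (N0 : Set G) := by
    have key : ∀ y ∈ Y, ∀ m ∈ N0, y * m * y⁻¹ ∈ N0 := fun y hy m hm => mem_inf.2
      ⟨mul_mem (mul_mem hy hm.1) (inv_mem hy),
        conj_mem_centralizer (fun w hw => by simpa using hYW _ (inv_mem hy) w hw) hm.2⟩
    exact fun y hy => mem_normalizer_iff.2 fun m => ⟨key y hy m, fun hm => by
      simpa [mul_assoc] using key _ (inv_mem hy) _ hm⟩
  have hdecY : ∀ y ∈ Y, ∃ c ∈ Y, c * i = i * c ∧ ∀ w ∈ W, y * w * y⁻¹ = c * w * c⁻¹ := by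
    intro y hy
    have hle : Y ≤ N0 ⊔ (Y ⊓ centralizer ({i} : Set G)) := h.fpf.le_of
      (fun y hy e => mem_sup_right ⟨hy, mem_centralizer_singleton_iff.2 e⟩)
      (fun y hy e => mem_sup_left (mem_inf.2 ⟨hy, htriv y hy (h.fpf.symm.inv_of_comm hy e)⟩))
      (fun y hy e => mem_sup_left (mem_inf.2 ⟨hy, htriv y hy (h.fpf.third.symm.inv_of_comm hy e)⟩))
    obtain ⟨m, hm, c, hc, rfl⟩ :=
      CfsgLib.Coprime.exists_mul_of_mem_sup (inf_le_left.trans hN0n) (hle hy)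
    refine ⟨c, hc.1, mem_centralizer_singleton_iff.1 hc.2, fun w hw => ?_⟩
    calc m * c * w * (m * c)⁻¹ = m * (c * w * c⁻¹) * m⁻¹ := by group
      _ = _ := by rw [← mem_centralizer_iff.1 hm.2 _ (hYW c hc.1 w hw), mul_inv_cancel_right]
  rw [commutator_le]
  intro y hy y' hy'
  refine mem_centralizer_iff.2 fun w hw => ?_
  obtain ⟨c, hcY, hci, hc⟩ := hdecY y hy
  obtain ⟨c', hcY', hci', hc'⟩ := hdecY y' hy'
  have hcc : c * c' = c' * c := h.fpf.comm_of_comm hcY hcY' hci hci'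
  have hm : ∀ v ∈ W, y * y' * v * (y * y')⁻¹ = y' * y * v * (y' * y)⁻¹ := by
    intro v hv
    calc y * y' * v * (y * y')⁻¹ = y * (y' * v * y'⁻¹) * y⁻¹ := by group
      _ = (c * c') * v * (c * c')⁻¹ := by rw [hc _ (hYW y' hy' v hv), hc' v hv]; group
      _ = c' * (c * v * c⁻¹) * c'⁻¹ := by rw [hcc]; group
      _ = y' * (y * v * y⁻¹) * y'⁻¹ := by rw [hc v hv, hc' _ (hYW c hcY v hv)]
      _ = y' * y * v * (y' * y)⁻¹ := by group
  have hw' : y'⁻¹ * (y⁻¹ * w * y) * y' ∈ W := by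
    have := hYW _ (inv_mem hy') _ (hYW _ (inv_mem hy) w hw)
    simpa using this
  rw [commutatorElement_def]
  refine (mul_inv_eq_iff_eq_mul.1 ?_).symm
  calc y * y' * y⁻¹ * y'⁻¹ * w * (y * y' * y⁻¹ * y'⁻¹)⁻¹
      = y * y' * (y⁻¹ * (y'⁻¹ * w * y') * y) * (y * y')⁻¹ := by group
    _ = y' * y * (y⁻¹ * (y'⁻¹ * w * y') * y) * (y' * y)⁻¹ := by
        refine hm _ ?_
        have := hYW _ (inv_mem hy) _ (hYW _ (inv_mem hy') w hw)
        simpa using this
    _ = w := by group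

/-- The derived subgroup centralizes an irreducible invariant abelian subgroup. -/
theorem Fpf.derived_centralizes [Finite G] (h : Fpf i j Y) (hWY : W ≤ Y)
    (hWc : ∀ v ∈ W, ∀ w ∈ W, v * w = w * v) (hWi : ∀ w ∈ W, i * w * i⁻¹ ∈ W)
    (hWj : ∀ w ∈ W, j * w * j⁻¹ ∈ W) (hYW : ∀ y ∈ Y, ∀ w ∈ W, y * w * y⁻¹ ∈ W)
    (hmin : ∀ W' ≤ W, (∀ w ∈ W', i * w * i⁻¹ ∈ W') → (∀ w ∈ W', j * w * j⁻¹ ∈ W') →
      (∀ y ∈ Y, ∀ w ∈ W', y * w * y⁻¹ ∈ W') → W' = ⊥ ∨ W' = W) :
    ⁅Y, Y⁆ ≤ centralizer (W : Set G) := by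
  by_cases hYC : Y ≤ centralizer (W : Set G)
  · exact (Subgroup.commutator_le.2 fun a ha b hb =>
      mul_mem (mul_mem (mul_mem (hYC ha) (hYC hb)) (inv_mem (hYC ha))) (inv_mem (hYC hb)))
  have hW : W ≠ ⊥ := fun e => hYC fun y _ => mem_centralizer_iff.2 fun w hw => by
    rw [e] at hw
    rw [mem_bot.1 hw, mul_one, one_mul]
  obtain ⟨Z, ⟨hZY, hZI, hZJ, hZn, hZC⟩, hZmin⟩ := (wellFounded_lt (α := Subgroup G)).has_min
    {Z | Z ≤ Y ∧ (∀ w ∈ Z, i * w * i⁻¹ ∈ Z) ∧ (∀ w ∈ Z, j * w * j⁻¹ ∈ Z) ∧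
      (∀ y ∈ Y, ∀ w ∈ Z, y * w * y⁻¹ ∈ Z) ∧ ¬ Z ≤ centralizer (W : Set G)}
    ⟨Y, le_rfl, h.normI, h.normJ, fun y hy w hw => mul_mem (mul_mem hy hw) (inv_mem hy), hYC⟩
  have hZne : Z ≠ ⊥ := fun e => hZC (e ▸ bot_le)
  have hZ' : ⁅Z, Z⁆ ≤ centralizer (W : Set G) := by
    by_contra hne
    haveI : Group.IsSolvable Z := by
      haveI := h.solvable; exact CfsgLib.Coprime.isSolvable_of_le hZY
    have hlt : ⁅Z, Z⁆ < Z := commutator_lt hZne
    exact hZmin ⁅Z, Z⁆ ⟨hlt.le.trans hZY, fun w hw => conj_mem_commutator hZI hZI hw,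
      fun w hw => conj_mem_commutator hZJ hZJ hw,
      fun y hy w hw => conj_mem_commutator (hZn y hy) (hZn y hy) hw, hne⟩ hlt
  have hM : Module' i j Y W Z := by
    refine ⟨h, hWY, hZY, hWc, hWi, hWj, hZI, hZJ, fun z hz => hYW z (hZY hz), ?_, ?_⟩
    · intro a ha b hb w hw
      have hw' : a⁻¹ * (b⁻¹ * w * b⁻¹⁻¹) * a⁻¹⁻¹ ∈ W :=
        hYW _ (inv_mem (hZY ha)) _ (hYW _ (inv_mem (hZY hb)) w hw)
      have hc := mem_centralizer_iff.1 (hZ' (commutator_mem_commutator ha hb))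
      rw [commutatorElement_def] at hc
      have e := hc _ (hYW _ (hZY hb) _ (hYW _ (hZY ha) w hw))
      calc a * b * w * (a * b)⁻¹
          = (a * b * a⁻¹ * b⁻¹) * (b * (a * w * a⁻¹) * b⁻¹) * (a * b * a⁻¹ * b⁻¹)⁻¹ := by group
        _ = b * (a * w * a⁻¹) * b⁻¹ := by rw [← e, mul_inv_cancel_right]
        _ = b * a * w * (b * a)⁻¹ := by group
    · intro w hw hfix
      have hZi : ∀ s, (∀ z ∈ Z, s * z * s⁻¹ ∈ Z) → ∀ z ∈ Z, s⁻¹ * z * s ∈ Z := by
        intro s hs z hz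
        exact (mem_normalizer_iff''.1 (mem_normalizer_of_conj hs) z).1 hz
      have hinv : ∀ s, (∀ w ∈ W, s * w * s⁻¹ ∈ W) → (∀ z ∈ Z, s * z * s⁻¹ ∈ Z) →
          ∀ v ∈ W ⊓ centralizer (Z : Set G), s * v * s⁻¹ ∈ W ⊓ centralizer (Z : Set G) :=
        fun s h1 h2 v hv => conj_mem_of_inf h1
          (fun y hy => conj_mem_centralizer (hZi s h2) hy) hv
      rcases hmin (W ⊓ centralizer (Z : Set G)) inf_le_left (hinv i hWi hZI) (hinv j hWj hZJ)
        (fun y hy => hinv y (hYW y hy) (hZn y hy)) with e | e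
      · exact mem_bot.1 (e ▸ mem_inf.2 ⟨hw, mem_centralizer_iff.2 hfix⟩ :)
      · exact absurd (fun z hz => mem_centralizer_iff.2 fun v hv =>
          (mem_centralizer_iff.1 ((e.ge.trans inf_le_right) hv) z hz).symm) hZC
  obtain ⟨K, hK⟩ := exists_isMaxFix (Z := Z) hW
  -- `Y` normalizes `K`
  have hKimg : ∀ y ∈ Y, IsMaxFix W Z (K.map (MulAut.conj y).toMonoidHom) := by
    intro y hy
    have hy' : ∀ {x : G}, x ∈ W → y⁻¹ * x * y ∈ W := fun {x} hx => by
      simpa using hYW _ (inv_mem hy) x hx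
    refine ⟨?_, ?_, ?_, ?_⟩
    · rintro _ ⟨k, hk, rfl⟩
      exact hZn y hy k (hK.le hk)
    · intro c hc
      refine ⟨y⁻¹ * c * y, hK.ker (mem_inf.2 ⟨by simpa using hZn _ (inv_mem hy) c hc.1, ?_⟩), ?_⟩
      · have := conj_mem_centralizer (s := y⁻¹) (W := W)
          (fun w hw => by simpa using hYW y hy w hw) hc.2
        simpa using this
      · simp [mul_assoc]
    · obtain ⟨w, hw, hw1, hwK⟩ := hK.fix
      refine ⟨y * w * y⁻¹, hYW y hy w hw, fun e => hw1 (conj_eq_one_iff.1 e), ?_⟩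
      rintro _ ⟨k, hk, rfl⟩
      show y * k * y⁻¹ * (y * w * y⁻¹) = y * w * y⁻¹ * (y * k * y⁻¹)
      rw [show y * k * y⁻¹ * (y * w * y⁻¹) = y * (k * w) * y⁻¹ by group, hwK k hk]
      group
    · intro K' h1 h2 h3
      have h4 : K'.map (MulAut.conj y⁻¹).toMonoidHom ≤ K := by
        refine hK.max _ (fun k hk => ⟨y * k * y⁻¹, h1 ⟨k, hk, rfl⟩, by simp [mul_assoc]⟩) ?_ ?_
        · rintro _ ⟨k, hk, rfl⟩
          simpa using hZn _ (inv_mem hy) k (h2 hk)
        · obtain ⟨w, hw, hw1, hwK⟩ := h3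
          refine ⟨y⁻¹ * w * y, hy' hw, fun e => hw1 ?_, ?_⟩
          · rw [show w = y * (y⁻¹ * w * y) * y⁻¹ by group, e]; group
          · rintro _ ⟨k, hk, rfl⟩
            show y⁻¹ * k * y⁻¹⁻¹ * (y⁻¹ * w * y) = y⁻¹ * w * y * (y⁻¹ * k * y⁻¹⁻¹)
            rw [show y⁻¹ * k * y⁻¹⁻¹ * (y⁻¹ * w * y) = y⁻¹ * (k * w) * y by group, hwK k hk]
            group
      intro k hk
      exact ⟨_, h4 ⟨k, hk, rfl⟩, by simp [mul_assoc]⟩
  have hKn : ∀ u ∈ Y, ∀ s : G, (∀ L, IsMaxFix W Z L → ∀ k ∈ L, s * k * s⁻¹ ∈ L) →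
      s * u * s⁻¹ = u⁻¹ → u ∈ normalizer (K : Set G) := by
    intro u hu s hs hsu
    have key : ∀ u ∈ Y, s * u * s⁻¹ = u⁻¹ → ∀ k ∈ K, u * u * k * (u * u)⁻¹ ∈ K := by
      intro u hu hsu k hk
      -- `k ↦ u² k' u⁻²` is onto `K`
      have hle : K ≤ K.map (MulAut.conj (u * u)).toMonoidHom := by
        intro k hk
        have hk' : s⁻¹ * k * s ∈ K :=
          (mem_normalizer_iff''.1 (mem_normalizer_of_conj (hs K hK)) k).1 hk
        obtain ⟨k', hk'', e⟩ := hs _ (hKimg u hu) (u * (s⁻¹ * k * s) * u⁻¹) ⟨_, hk', rfl⟩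
        refine ⟨k', hk'', ?_⟩
        show u * u * k' * (u * u)⁻¹ = k
        have e' : u * k' * u⁻¹ = u⁻¹ * k * u := by
          refine Eq.trans e ?_
          calc s * (u * (s⁻¹ * k * s) * u⁻¹) * s⁻¹
              = (s * u * s⁻¹) * k * (s * u * s⁻¹)⁻¹ := by group
            _ = u⁻¹ * k * u := by rw [hsu]; group
        calc u * u * k' * (u * u)⁻¹ = u * (u * k' * u⁻¹) * u⁻¹ := by group
          _ = k := by rw [e']; group
      have heq := eq_of_le_of_card_ge hle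
        (card_map_of_injective (f := (MulAut.conj (u * u)).toMonoidHom)
          (MulAut.conj (u * u)).injective).le
      exact heq.ge ⟨k, hk, rfl⟩
    refine mem_of_sq_mem_of_odd (odd_orderOf h.odd hu) (mem_normalizer_iff.2 fun k =>
      ⟨key u hu hsu k, fun hk => ?_⟩)
    have hsu' : s * u⁻¹ * s⁻¹ = u⁻¹⁻¹ := by
      rw [show s * u⁻¹ * s⁻¹ = (s * u * s⁻¹)⁻¹ by group, hsu]
    have := key u⁻¹ (inv_mem hu) hsu' _ hk
    have e : u⁻¹ * u⁻¹ * (u * u * k * (u * u)⁻¹) * (u⁻¹ * u⁻¹)⁻¹ = k := by group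
    rwa [e] at this
  have hYK : Y ≤ normalizer (K : Set G) := h.le_of
    (fun u hu e => hKn u hu j (fun L hL => (hM.normalizes hL).2) (h.inv_of_comm hu e))
    (fun u hu e => hKn u hu i (fun L hL => (hM.normalizes hL).1) (h.symm.inv_of_comm hu e))
    (fun u hu e => hKn u hu i (fun L hL => (hM.normalizes hL).1)
      (h.third.symm.inv_of_comm hu e))
  -- so `K` is trivial on `W`
  have hKC : K ≤ centralizer (W : Set G) := by
    have hinv : ∀ s, (∀ w ∈ W, s * w * s⁻¹ ∈ W) → (∀ k ∈ K, s⁻¹ * k * s ∈ K) →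
        ∀ v ∈ W ⊓ centralizer (K : Set G), s * v * s⁻¹ ∈ W ⊓ centralizer (K : Set G) :=
      fun s h1 h2 v hv => conj_mem_of_inf h1 (fun y hy => conj_mem_centralizer h2 hy) hv
    obtain ⟨w, hw, hw1, hwK⟩ := hK.fix
    obtain ⟨hKi, hKj⟩ := hM.normalizes hK
    rcases hmin (W ⊓ centralizer (K : Set G)) inf_le_left
      (hinv i hWi fun k hk => by
        rw [inv_eq_of_mul_eq_one_right h.ii]
        simpa [inv_eq_of_mul_eq_one_right h.ii] using hKi k hk)
      (hinv j hWj fun k hk => by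
        rw [inv_eq_of_mul_eq_one_right h.jj]
        simpa [inv_eq_of_mul_eq_one_right h.jj] using hKj k hk)
      (fun y hy => hinv y (hYW y hy) fun k hk => (mem_normalizer_iff''.1 (hYK hy) k).1 hk)
      with e | e
    · exact absurd (mem_bot.1 (e ▸ mem_inf.2 ⟨hw, mem_centralizer_iff.2 hwK⟩ :)) hw1
    · exact fun k hk => mem_centralizer_iff.2 fun v hv =>
        (mem_centralizer_iff.1 ((e.ge.trans inf_le_right) hv) k hk).symm
  obtain ⟨a, ha, haK, e | e | e⟩ := hM.exists_outside hK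
  · exact hM.derived_le hYW hK hKC ha e haK
  · exact hM.symm.derived_le hYW hK hKC ha e haK
  · exact hM.third.symm.derived_le hYW hK hKC ha e haK

/-- The derived subgroup of an odd group with a fixed-point-free four group is nilpotent. -/
theorem derived_nilpotent_aux : ∀ (n : ℕ) {G : Type u} [Group G] [Finite G] {i j : G}
    {Y : Subgroup G}, Fpf i j Y → Nat.card Y ≤ n → Group.IsNilpotent ↥(⁅Y, Y⁆ : Subgroup G) := by
  intro n
  induction n with
  | zero => intro G _ _ i j Y _ hn; exact absurd hn (Nat.not_le.2 Nat.card_pos)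
  | succ n ih =>
    intro G _ _ i j Y h hn
    by_cases hY : Y = ⊥
    · have e : (⁅Y, Y⁆ : Subgroup G) = ⊥ := by rw [hY]; exact commutator_bot_left _
      rw [e]; infer_instance
    obtain ⟨W, ⟨hWY, hWI, hWJ, hWn, hWne⟩, hWmin⟩ := (wellFounded_lt (α := Subgroup G)).has_min
      {W | W ≤ Y ∧ (∀ w ∈ W, i * w * i⁻¹ ∈ W) ∧ (∀ w ∈ W, j * w * j⁻¹ ∈ W) ∧
        (∀ y ∈ Y, ∀ w ∈ W, y * w * y⁻¹ ∈ W) ∧ W ≠ ⊥}
      ⟨Y, le_rfl, h.normI, h.normJ, fun y hy w hw => mul_mem (mul_mem hy hw) (inv_mem hy), hY⟩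
    have hmin : ∀ W' ≤ W, (∀ w ∈ W', i * w * i⁻¹ ∈ W') → (∀ w ∈ W', j * w * j⁻¹ ∈ W') →
        (∀ y ∈ Y, ∀ w ∈ W', y * w * y⁻¹ ∈ W') → W' = ⊥ ∨ W' = W := by
      intro W' hW' h1 h2 h3
      by_contra hc
      push Not at hc
      exact hWmin W' ⟨hW'.trans hWY, h1, h2, h3, hc.1⟩ (lt_of_le_of_ne hW' hc.2)
    have hWc : ∀ v ∈ W, ∀ w ∈ W, v * w = w * v := by
      haveI : Group.IsSolvable W := by
        haveI := h.solvable; exact CfsgLib.Coprime.isSolvable_of_le hWY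
      have hlt : ⁅W, W⁆ < W := commutator_lt hWne
      rcases hmin _ hlt.le (fun w hw => conj_mem_commutator hWI hWI hw)
        (fun w hw => conj_mem_commutator hWJ hWJ hw)
        (fun y hy w hw => conj_mem_commutator (hWn y hy) (hWn y hy) hw) with e | e
      · intro v hv w hw
        exact commutatorElement_eq_one_iff_mul_comm.1
          (mem_bot.1 (e ▸ commutator_mem_commutator hv hw :))
      · exact absurd e hlt.ne
    have hDC := h.derived_centralizes hWY hWc hWI hWJ hWn hmin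
    set M := normalizer (W : Set G) with hM
    have hmem : ∀ s : G, (∀ w ∈ W, s * w * s⁻¹ ∈ W) → s ∈ M := fun s hs => mem_normalizer_of_conj hs
    have hYM : Y ≤ M := fun y hy => hmem y (hWn y hy)
    haveI : (W.subgroupOf M).Normal :=
      (normal_subgroupOf_iff_le_normalizer le_normalizer).2 le_rfl
    let f := QuotientGroup.mk' (W.subgroupOf M)
    have h' := (h.subgroupOf hYM (hmem i hWI) (hmem j hWJ)).map f
    have hcard : Nat.card ((Y.subgroupOf M).map f) ≤ n := by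
      have hdvd := card_map_dvd (Y.subgroupOf M) f
      rw [Nat.card_congr (subgroupOfEquivOfLe hYM).toEquiv] at hdvd
      have hlt : Nat.card ((Y.subgroupOf M).map f) ≠ Nat.card Y := by
        intro e
        obtain ⟨w, hw, hw1⟩ := (Subgroup.bot_or_exists_ne_one W).resolve_left hWne
        have hinj : Set.InjOn f (Y.subgroupOf M : Subgroup M) := by
          have hfin : (Y.subgroupOf M : Set M).Finite := Set.toFinite _
          refine (Set.ncard_image_iff hfin).1 ?_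
          rw [← Nat.card_coe_set_eq, ← Nat.card_coe_set_eq, ← Subgroup.coe_map]
          exact e.trans (Nat.card_congr (subgroupOfEquivOfLe hYM).toEquiv).symm
        have h1 := hinj (x₁ := ⟨w, hYM (hWY hw)⟩) (mem_subgroupOf.2 (hWY hw)) (one_mem _)
          (by rw [map_one]; exact (QuotientGroup.eq_one_iff _).2 (mem_subgroupOf.2 hw))
        exact hw1 (congrArg Subtype.val h1)
      have := Nat.le_of_dvd Nat.card_pos hdvd
      omega
    haveI hnil := ih h' hcard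
    -- lift nilpotency through the central kernel
    have hD : ⁅Y, Y⁆ ≤ M := (Subgroup.commutator_le.2 fun a ha b hb =>
      mul_mem (mul_mem (mul_mem (hYM ha) (hYM hb)) (inv_mem (hYM ha))) (inv_mem (hYM hb)))
    set D0 : Subgroup M := ⁅Y.subgroupOf M, Y.subgroupOf M⁆ with hD0
    have hD0map : D0.map M.subtype = ⁅Y, Y⁆ := by
      rw [hD0, Subgroup.map_commutator, map_subgroupOf_eq_of_le hYM]
    have e1 : D0.map f = ⁅(Y.subgroupOf M).map f, (Y.subgroupOf M).map f⁆ :=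
      Subgroup.map_commutator _ _ _
    let g : D0 →* ↥(D0.map f) := f.subgroupMap D0
    haveI : Group.IsNilpotent ↥(D0.map f) := by rw [e1]; exact hnil
    haveI : Group.IsNilpotent D0 := Subgroup.isNilpotent_of_ker_le_center g (by
      intro d hd
      rw [mem_center_iff]
      intro d'
      have hdW : (d : M) ∈ W.subgroupOf M := (QuotientGroup.eq_one_iff _).1
        (congrArg Subtype.val (MonoidHom.mem_ker.1 hd))
      have hd' : ((d' : M) : G) ∈ centralizer (W : Set G) :=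
        hDC (hD0map.le ⟨_, d'.2, rfl⟩)
      exact Subtype.ext (Subtype.ext (mem_centralizer_iff.1 hd' _ (mem_subgroupOf.1 hdW)).symm))
    rw [← hD0map]
    exact Group.nilpotent_of_mulEquiv (D0.equivMapOfInjective M.subtype M.subtype_injective)

theorem Fpf.derived_nilpotent [Finite G] (h : Fpf i j Y) :
    Group.IsNilpotent ↥(⁅Y, Y⁆ : Subgroup G) :=
  derived_nilpotent_aux _ h le_rfl

/-- The derived subgroup of an invariant `p`-subgroup `Q` centralizes every invariant `p'`-subgroup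
normalized by `Q`. -/
theorem Fpf.derived_centralizes_coprime [Finite G] (h : Fpf i j Y) {p : ℕ} [Fact p.Prime]
    {Q E : Subgroup G} (hQY : Q ≤ Y) (hEY : E ≤ Y) (hQ : IsPGroup p Q)
    (hE : (Nat.card E).Coprime p) (hQE : ∀ q ∈ Q, ∀ e ∈ E, q * e * q⁻¹ ∈ E) :
    ⁅Q, Q⁆ ≤ centralizer (E : Set G) := by
  intro k hk
  refine mem_centralizer_iff.2 fun e he => ?_
  have hkQ : k ∈ Q := (Subgroup.commutator_le.2 fun a ha b hb =>
    mul_mem (mul_mem (mul_mem ha hb) (inv_mem ha)) (inv_mem hb)) hk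
  set c := e * (k * e⁻¹ * k⁻¹) with hc
  have hcE : c ∈ E := mul_mem he (hQE k hkQ _ (inv_mem he))
  have hnil := h.derived_nilpotent
  have hcD : c ∈ (⁅Y, Y⁆ : Subgroup G) := by
    have e1 : c = ⁅e, k⁆ := by rw [hc, commutatorElement_def]; group
    rw [e1]
    exact commutator_mem_commutator (hEY he) (hQY hkQ)
  have hkD : k ∈ (⁅Y, Y⁆ : Subgroup G) := commutator_mono hQY hQY hk
  obtain ⟨a, ha⟩ := IsPGroup.iff_orderOf.1 hQ ⟨k, hkQ⟩
  rw [Subgroup.orderOf_mk] at ha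
  have hcop : (orderOf c).Coprime (orderOf k) := by
    rw [ha]
    exact ((hE.coprime_dvd_left (orderOf_dvd_natCard E hcE)).pow_right a)
  have hcomm : c * k = k * c := CfsgLib.NilpotentCover.commute_of_coprime_mem hnil hcD hkD hcop
  have hck : (c * k) ^ p ^ a = 1 := by
    rw [show c * k = e * k * e⁻¹ by rw [hc]; group, conj_pow, ← ha, pow_orderOf_eq_one]
    group
  have hc1 : c ^ p ^ a = 1 := by
    rw [Commute.mul_pow hcomm, ← ha, pow_orderOf_eq_one, mul_one, ha] at hck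
    exact hck
  have hc0 : c = 1 := orderOf_eq_one_iff.1 (Nat.eq_one_of_dvd_coprimes
    ((hE.coprime_dvd_left (orderOf_dvd_natCard E hcE)).pow_right a) dvd_rfl
    (orderOf_dvd_of_pow_eq_one hc1))
  have : e * k * e⁻¹ = k := by
    calc e * k * e⁻¹ = c * k := by rw [hc]; group
      _ = k := by rw [hc0, one_mul]
  exact mul_inv_eq_iff_eq_mul.1 this

end CfsgLib.DGroupCent
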