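import Mathlib.GroupTheory.FixedPointFree
import Mathlib.GroupTheory.Nilpotent
import Mathlib.Tactic.Group
import Cfsg.Agent.Coprime.Action
import Cfsg.Agent.S0058
import Cfsg.Agent.S0205

/-!
# Groups of odd order with a fixed-point-free four group

A four group is given by two commuting involutions `i`, `j`.  The derived subgroup of an odd order
group on which it acts without fixed points is nilpotent.
-/

set_option autoImplicit false

open scoped Pointwise commutatorElement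

namespace CfsgLib.DGroupCent

open Subgroup

variable {G : Type*} [Group G]

/-- The commutator `[a, w]`. -/
def cc (a w : G) : G := a * w * a⁻¹ * w⁻¹

/-- Two commuting elements of square `1` act on `Y` (of odd order) without common fixed points. -/
structure Fpf (i j : G) (Y : Subgroup G) : Prop where
  ii : i * i = 1
  jj : j * j = 1
  ij : i * j = j * i
  normI : ∀ y ∈ Y, i * y * i⁻¹ ∈ Y
  normJ : ∀ y ∈ Y, j * y * j⁻¹ ∈ Y
  odd : Odd (Nat.card Y)
  fpf : ∀ y ∈ Y, y * i = i * y → y * j = j * y → y = 1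

variable {i j : G} {Y : Subgroup G}

theorem eq_one_of_odd [Finite G] {H : Subgroup G} (hodd : Odd (Nat.card H)) {y : G} (hy : y ∈ H)
    (h : y * y = 1) : y = 1 := by
  have h1 : orderOf y ∣ Nat.card H := orderOf_dvd_natCard H hy
  have h2 : orderOf y ∣ 2 := orderOf_dvd_of_pow_eq_one (by rw [sq, h])
  exact orderOf_eq_one_iff.1 (Nat.eq_one_of_dvd_coprimes (Nat.coprime_two_left.2 hodd) h2 h1)

theorem mem_of_sq_mem_of_odd [Finite G] {H : Subgroup G} {y : G} (hy : Odd (orderOf y))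
    (h : y * y ∈ H) : y ∈ H := by
  obtain ⟨k, hk⟩ := hy
  have h1 : (y * y) ^ (k + 1) = y := by
    rw [← sq, ← pow_mul, show 2 * (k + 1) = (2 * k + 1) + 1 by ring, ← hk, pow_succ,
      pow_orderOf_eq_one, one_mul]
  exact h1 ▸ pow_mem h _

theorem odd_orderOf [Finite G] {H : Subgroup G} (hodd : Odd (Nat.card H)) {y : G} (hy : y ∈ H) :
    Odd (orderOf y) :=
  hodd.of_dvd_nat (orderOf_dvd_natCard H hy)

/-- An element of square `1` acting without fixed points on an odd subgroup inverts it. -/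
theorem inverts_of_fpf [Finite G] {H : Subgroup G} {s : G} (hs : s * s = 1)
    (hn : ∀ y ∈ H, s * y * s⁻¹ ∈ H) (hf : ∀ y ∈ H, y * s = s * y → y = 1) :
    ∀ y ∈ H, s * y * s⁻¹ = y⁻¹ := by
  let φ : H →* H :=
    { toFun := fun y => ⟨s * y * s⁻¹, hn y y.2⟩
      map_one' := Subtype.ext (by simp)
      map_mul' := fun a b => Subtype.ext (by
        show s * ((a : G) * b) * s⁻¹ = s * a * s⁻¹ * (s * b * s⁻¹); group) }
  have h1 : MonoidHom.FixedPointFree φ := fun y hy => by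
    have h2 : s * (y : G) * s⁻¹ = y := congrArg Subtype.val hy
    exact Subtype.ext (hf y y.2 (mul_inv_eq_iff_eq_mul.1 h2).symm)
  have hsi : s⁻¹ = s := inv_eq_of_mul_eq_one_right hs
  have h2 : Function.Involutive φ := fun y => Subtype.ext (by
    show s * (s * (y : G) * s⁻¹) * s⁻¹ = y
    rw [hsi, show s * (s * (y : G) * s) * s = (s * s) * y * (s * s) by group, hs, one_mul, mul_one])
  intro y hy
  exact congrArg Subtype.val (congrFun (h1.coe_eq_inv_of_involutive h2) ⟨y, hy⟩)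

theorem Fpf.symm (h : Fpf i j Y) : Fpf j i Y :=
  ⟨h.jj, h.ii, h.ij.symm, h.normJ, h.normI, h.odd, fun y hy a b => h.fpf y hy b a⟩

theorem Fpf.third (h : Fpf i j Y) : Fpf i (i * j) Y := by
  refine ⟨h.ii, ?_, ?_, h.normI, fun y hy => ?_, h.odd, fun y hy a b => h.fpf y hy a ?_⟩
  · calc i * j * (i * j) = i * (j * i) * j := by group
      _ = i * i * (j * j) := by rw [← h.ij]; group
      _ = 1 := by rw [h.ii, h.jj, mul_one]
  · rw [mul_assoc, ← h.ij]
  · have := h.normI _ (h.normJ y hy)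
    simpa [mul_assoc] using this
  · calc y * j = y * (i * i) * j := by rw [h.ii, mul_one]
      _ = (y * i) * (i * j) := by group
      _ = i * (y * (i * j)) := by rw [a]; group
      _ = i * ((i * j) * y) := by rw [b]
      _ = (i * i) * j * y := by group
      _ = j * y := by rw [h.ii, one_mul]

theorem Fpf.mono [Finite G] (h : Fpf i j Y) {Z : Subgroup G} (hZ : Z ≤ Y)
    (hi : ∀ y ∈ Z, i * y * i⁻¹ ∈ Z) (hj : ∀ y ∈ Z, j * y * j⁻¹ ∈ Z) : Fpf i j Z :=
  ⟨h.ii, h.jj, h.ij, hi, hj, h.odd.of_dvd_nat (card_dvd_of_le hZ),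
    fun y hy => h.fpf y (hZ hy)⟩

/-- An element of `Y` commuting with `i` is inverted by `j`. -/
theorem Fpf.inv_of_comm [Finite G] (h : Fpf i j Y) {y : G} (hy : y ∈ Y) (hc : y * i = i * y) :
    j * y * j⁻¹ = y⁻¹ := by
  refine inverts_of_fpf (H := Y ⊓ centralizer ({i} : Set G)) h.jj (fun z hz => ?_)
    (fun z hz hzj => h.fpf z hz.1 (mem_centralizer_singleton_iff.1 hz.2) hzj) y
    ⟨hy, mem_centralizer_singleton_iff.2 hc⟩
  refine ⟨h.normJ z hz.1, mem_centralizer_singleton_iff.2 ?_⟩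
  have hzi : z * i = i * z := mem_centralizer_singleton_iff.1 hz.2
  have hji : j⁻¹ * i = i * j⁻¹ := by
    rw [inv_eq_of_mul_eq_one_right h.jj, h.ij]
  calc j * z * j⁻¹ * i = j * z * (j⁻¹ * i) := by group
    _ = j * (z * i) * j⁻¹ := by rw [hji]; group
    _ = (j * i) * z * j⁻¹ := by rw [hzi]; group
    _ = i * (j * z * j⁻¹) := by rw [← h.ij]; group

/-- Elements of `Y` commuting with `i` commute with each other. -/
theorem Fpf.comm_of_comm [Finite G] (h : Fpf i j Y) {a b : G} (ha : a ∈ Y) (hb : b ∈ Y)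
    (hai : a * i = i * a) (hbi : b * i = i * b) : a * b = b * a := by
  have h1 := h.inv_of_comm ha hai
  have h2 := h.inv_of_comm hb hbi
  have h3 := h.inv_of_comm (mul_mem ha hb) (by rw [mul_assoc, hbi, ← mul_assoc, hai, mul_assoc])
  have h4 : j * (a * b) * j⁻¹ = a⁻¹ * b⁻¹ := by rw [← h1, ← h2]; group
  rw [h4, ← mul_inv_rev] at h3
  exact (inv_injective h3).symm

theorem sq_eq_one_of_mem_closure_pair (hii : i * i = 1) (hjj : j * j = 1) (hij : i * j = j * i) :
    ∀ v ∈ closure ({i, j} : Set G), v = 1 ∨ v = i ∨ v = j ∨ v = i * j := by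
  have hji : j * i = i * j := hij.symm
  have h3 : i * (i * j) = j := by rw [← mul_assoc, hii, one_mul]
  have h4 : j * (i * j) = i := by rw [← mul_assoc, hji, mul_assoc, hjj, mul_one]
  have h5 : i * j * i = j := by rw [mul_assoc, hji, h3]
  have h6 : i * j * j = i := by rw [mul_assoc, hjj, mul_one]
  have h7 : i * j * (i * j) = 1 := by rw [← mul_assoc, h5, hjj]
  intro v hv
  induction hv using Subgroup.closure_induction with
  | mem x hx =>
    rcases hx with rfl | rfl <;> simp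
  | one => simp
  | mul a b _ _ ha hb =>
    rcases ha with rfl | rfl | rfl | rfl <;> rcases hb with rfl | rfl | rfl | rfl <;>
      simp [hii, hjj, hji, h3, h4, h5, h6, h7]
  | inv a _ ha =>
    rcases ha with rfl | rfl | rfl | rfl
    · simp
    · simp [inv_eq_of_mul_eq_one_right hii]
    · simp [inv_eq_of_mul_eq_one_right hjj]
    · simp [inv_eq_of_mul_eq_one_right h7]

theorem Fpf.closure_sq (h : Fpf i j Y) : ∀ v ∈ closure ({i, j} : Set G), v * v = 1 := by
  intro v hv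
  rcases sq_eq_one_of_mem_closure_pair h.ii h.jj h.ij v hv with rfl | rfl | rfl | rfl
  · simp
  · exact h.ii
  · exact h.jj
  · exact h.third.jj

theorem Fpf.closure_le_normalizer [Finite G] (h : Fpf i j Y) :
    closure ({i, j} : Set G) ≤ normalizer (Y : Set G) := by
  rw [closure_le]
  rintro v (rfl | rfl)
  · refine mem_normalizer_iff.2 fun y => ⟨h.normI y, fun hy => ?_⟩
    have := h.normI _ hy
    rwa [inv_eq_of_mul_eq_one_right h.ii,
      show v * (v * y * v) * v = (v * v) * y * (v * v) by group, h.ii, one_mul, mul_one] at this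
  · refine mem_normalizer_iff.2 fun y => ⟨h.normJ y, fun hy => ?_⟩
    have := h.normJ _ hy
    rwa [inv_eq_of_mul_eq_one_right h.jj,
      show v * (v * y * v) * v = (v * v) * y * (v * v) by group, h.jj, one_mul, mul_one] at this

theorem Fpf.coprime [Finite G] (h : Fpf i j Y) :
    (Nat.card (closure ({i, j} : Set G))).Coprime (Nat.card Y) := by
  haveI : Fact (Nat.Prime 2) := ⟨Nat.prime_two⟩
  have h2 : IsPGroup 2 (closure ({i, j} : Set G)) := fun v => ⟨1, Subtype.ext (by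
    rw [pow_one, Subgroup.coe_pow, sq]; exact h.closure_sq v v.2)⟩
  obtain ⟨k, hk⟩ := h2.exists_card_eq
  rw [hk]
  exact (Nat.coprime_two_left.2 h.odd).pow_left k

theorem Fpf.solvable [Finite G] (h : Fpf i j Y) : Group.IsSolvable Y :=
  Cfsg.Agent.S0205.result h.odd

/-- A subgroup containing all elements of `Y` centralized by one of `i`, `j`, `i j` contains `Y`. -/
theorem Fpf.le_of [Finite G] (h : Fpf i j Y) {K : Subgroup G}
    (h1 : ∀ y ∈ Y, y * i = i * y → y ∈ K) (h2 : ∀ y ∈ Y, y * j = j * y → y ∈ K)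
    (h3 : ∀ y ∈ Y, y * (i * j) = (i * j) * y → y ∈ K) : Y ≤ K := by
  by_cases hdeg : i = 1 ∨ j = 1 ∨ i = j
  · intro y hy
    rcases hdeg with e | e | e
    · exact h1 y hy (by rw [e, one_mul, mul_one])
    · exact h2 y hy (by rw [e, one_mul, mul_one])
    · exact h3 y hy (by rw [e, h.jj, one_mul, mul_one])
  push Not at hdeg
  set V := closure ({i, j} : Set G) with hV
  haveI : IsMulCommutative V := ⟨⟨fun a b => Subtype.ext (by
    show (a : G) * b = b * a
    have ha := h.closure_sq a a.2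
    have hb := h.closure_sq b b.2
    have hab := h.closure_sq _ (mul_mem a.2 b.2)
    rw [eq_inv_of_mul_eq_one_left hab, mul_inv_rev, inv_eq_of_mul_eq_one_right ha,
      inv_eq_of_mul_eq_one_right hb])⟩⟩
  have hnc : ¬ IsCyclic V := by
    intro hc
    obtain ⟨g, hg⟩ := hc.exists_generator
    have hgg : ∀ n : ℤ, g ^ n = 1 ∨ g ^ n = g := fun n => by
      have h2 : g * g = 1 := Subtype.ext (h.closure_sq g g.2)
      rcases Int.even_or_odd n with ⟨m, rfl⟩ | ⟨m, rfl⟩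
      · exact Or.inl (by rw [zpow_add, ← (Commute.refl g).mul_zpow, h2, one_zpow])
      · exact Or.inr (by rw [zpow_add, zpow_one, two_mul, zpow_add, ← (Commute.refl g).mul_zpow,
          h2, one_zpow, one_mul])
    have hi' : i ∈ V := subset_closure (by simp)
    have hj' : j ∈ V := subset_closure (by simp)
    obtain ⟨n, hn⟩ := Subgroup.mem_zpowers_iff.1 (hg ⟨i, hi'⟩)
    obtain ⟨m, hm⟩ := Subgroup.mem_zpowers_iff.1 (hg ⟨j, hj'⟩)
    rcases hgg n with e | e <;> rw [e] at hn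
    · exact hdeg.1 (congrArg Subtype.val hn).symm
    rcases hgg m with e' | e' <;> rw [e'] at hm
    · exact hdeg.2.1 (congrArg Subtype.val hm).symm
    · exact hdeg.2.2 (congrArg Subtype.val (hn.symm.trans hm))
  rw [← Cfsg.Agent.S0058.result V Y hnc h.closure_le_normalizer h.coprime]
  refine iSup₂_le ?_
  rintro v ⟨hv, hv1⟩ y ⟨hy, hyv⟩
  have hyv' : y * v = v * y := mem_centralizer_singleton_iff.1 hyv
  rcases sq_eq_one_of_mem_closure_pair h.ii h.jj h.ij v hv with rfl | rfl | rfl | rfl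
  · exact absurd rfl hv1
  · exact h1 y hy hyv'
  · exact h2 y hy hyv'
  · exact h3 y hy hyv'

/-- If nothing nontrivial of `Y` commutes with `j` or with `i j`, then `i` centralizes `Y`. -/
theorem Fpf.comm_all [Finite G] (h : Fpf i j Y) (hj : ∀ y ∈ Y, y * j = j * y → y = 1)
    (hk : ∀ y ∈ Y, y * (i * j) = (i * j) * y → y = 1) : ∀ y ∈ Y, y * i = i * y := fun y hy =>
  mem_centralizer_singleton_iff.1 (h.le_of (K := centralizer ({i} : Set G))
    (fun _ _ e => mem_centralizer_singleton_iff.2 e)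
    (fun y hy e => by rw [hj y hy e]; exact one_mem _)
    (fun y hy e => by rw [hk y hy e]; exact one_mem _) hy)

/-- Images under homomorphisms keep the fixed-point-free action. -/
theorem Fpf.map [Finite G] (h : Fpf i j Y) {H : Type*} [Group H] (f : G →* H) :
    Fpf (f i) (f j) (Y.map f) := by
  refine ⟨by rw [← map_mul, h.ii, map_one], by rw [← map_mul, h.jj, map_one],
    by rw [← map_mul, h.ij, map_mul], ?_, ?_, h.odd.of_dvd_nat (card_map_dvd Y f), ?_⟩
  · rintro _ ⟨y, hy, rfl⟩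
    exact ⟨_, h.normI y hy, by simp⟩
  · rintro _ ⟨y, hy, rfl⟩
    exact ⟨_, h.normJ y hy, by simp⟩
  · intro z hz hzi hzj
    have key := CfsgLib.Coprime.map_inf_centralizer (G := Y) (A := closure ({i, j} : Set G)) f
      h.closure_le_normalizer (h.coprime.coprime_dvd_right (card_dvd_of_le inf_le_left))
      (Or.inr (by haveI := h.solvable; exact CfsgLib.Coprime.isSolvable_of_le inf_le_left))
    have hzC : z ∈ Y.map f ⊓ centralizer (((closure ({i, j} : Set G)).map f : Subgroup H) : Set H) := by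
      refine ⟨hz, ?_⟩
      rw [MonoidHom.map_closure, centralizer_closure]
      rintro _ ⟨v, (rfl | rfl), rfl⟩
      · exact hzi.symm
      · exact hzj.symm
    rw [← key] at hzC
    obtain ⟨y, ⟨hy, hyC⟩, rfl⟩ := hzC
    rw [h.fpf y hy (mem_centralizer_iff.1 hyC i (subset_closure (by simp))).symm
      (mem_centralizer_iff.1 hyC j (subset_closure (by simp))).symm, map_one]

/-- There is a largest invariant `p`-subgroup, and it is a Sylow subgroup. -/
theorem Fpf.exists_sylow [Finite G] (h : Fpf i j Y) (p : ℕ) [Fact p.Prime] :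
    ∃ P : Subgroup G, P ≤ Y ∧ IsPGroup p P ∧ ¬ p ∣ P.relIndex Y ∧
      (∀ y ∈ P, i * y * i⁻¹ ∈ P) ∧ (∀ y ∈ P, j * y * j⁻¹ ∈ P) ∧
      ∀ U : Subgroup G, U ≤ Y → IsPGroup p U → (∀ y ∈ U, i * y * i⁻¹ ∈ U) →
        (∀ y ∈ U, j * y * j⁻¹ ∈ U) → U ≤ P := by
  set V := closure ({i, j} : Set G) with hV
  have hYn := h.closure_le_normalizer
  obtain ⟨P, -, hP⟩ := CfsgLib.Coprime.exists_invariant_sylow_ge (p := p) hYn h.coprime (Or.inr h.solvable)
    (U := (⊥ : Subgroup G)) bot_le IsPGroup.of_bot (fun v _ => Subgroup.mem_normalizer_iff.2 fun n => by simp)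
  refine ⟨(P : Subgroup Y).map Y.subtype, map_subtype_le _, P.isPGroup'.map _, ?_,
    fun y hy => (mem_normalizer_iff.1 (hP (subset_closure (by simp))) y).1 hy,
    fun y hy => (mem_normalizer_iff.1 (hP (subset_closure (by simp))) y).1 hy, ?_⟩
  · rw [relIndex, subgroupOf, comap_map_eq_self_of_injective Y.subtype_injective]
    exact P.not_dvd_index
  intro U hUY hU hUi hUj
  have hUn : V ≤ normalizer (U : Set G) :=
    (h.mono hUY hUi hUj).closure_le_normalizer
  obtain ⟨Q, hUQ, hQ⟩ := CfsgLib.Coprime.exists_invariant_sylow_ge hYn h.coprime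
    (Or.inr h.solvable) hUY hU hUn
  obtain ⟨g, hg, hgPQ⟩ := CfsgLib.Coprime.exists_conj_map_sylow Q P
  obtain ⟨c, ⟨hcY, hcV⟩, hc⟩ := CfsgLib.Coprime.exists_conj_eq_of_invariant hYn h.coprime
    (Or.inr h.solvable) hQ hP hg hgPQ
  have hc1 : c = 1 := h.fpf c hcY (mem_centralizer_iff.1 hcV i (subset_closure (by simp))).symm
    (mem_centralizer_iff.1 hcV j (subset_closure (by simp))).symm
  rw [hc1, CfsgLib.Coprime.conj_one_smul] at hc
  exact hc ▸ hUQ

/-! ### A module `W` and an abelian-by-trivial operator group `Z` -/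

/-- `W` is an abelian subgroup of `Y` on which `Z ≤ Y` induces an abelian group without fixed
points. -/
structure Module' (i j : G) (Y W Z : Subgroup G) : Prop where
  fpf : Fpf i j Y
  WY : W ≤ Y
  ZY : Z ≤ Y
  Wcomm : ∀ v ∈ W, ∀ w ∈ W, v * w = w * v
  WI : ∀ w ∈ W, i * w * i⁻¹ ∈ W
  WJ : ∀ w ∈ W, j * w * j⁻¹ ∈ W
  ZI : ∀ w ∈ Z, i * w * i⁻¹ ∈ Z
  ZJ : ∀ w ∈ Z, j * w * j⁻¹ ∈ Z
  ZW : ∀ z ∈ Z, ∀ w ∈ W, z * w * z⁻¹ ∈ W
  Zab : ∀ a ∈ Z, ∀ b ∈ Z, ∀ w ∈ W, a * b * w * (a * b)⁻¹ = b * a * w * (b * a)⁻¹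
  nofix : ∀ w ∈ W, (∀ z ∈ Z, z * w = w * z) → w = 1

variable {W Z : Subgroup G}

theorem Module'.symm (h : Module' i j Y W Z) : Module' j i Y W Z :=
  ⟨h.fpf.symm, h.WY, h.ZY, h.Wcomm, h.WJ, h.WI, h.ZJ, h.ZI, h.ZW, h.Zab, h.nofix⟩

theorem Module'.third (h : Module' i j Y W Z) : Module' i (i * j) Y W Z := by
  refine ⟨h.fpf.third, h.WY, h.ZY, h.Wcomm, h.WI, fun w hw => ?_, h.ZI, fun w hw => ?_, h.ZW,
    h.Zab, h.nofix⟩
  · simpa [mul_assoc] using h.WI _ (h.WJ w hw)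
  · simpa [mul_assoc] using h.ZI _ (h.ZJ w hw)

/-- Commutation with an element is multiplicative on `W`. -/
theorem cc_mul (hc : ∀ v ∈ W, ∀ w ∈ W, v * w = w * v) {a : G}
    (ha : ∀ w ∈ W, a * w * a⁻¹ ∈ W) {v w : G} (hv : v ∈ W) (hw : w ∈ W) :
    cc a (v * w) = cc a v * cc a w := by
  have h1 : a * w * a⁻¹ * w⁻¹ ∈ W := mul_mem (ha w hw) (inv_mem hw)
  calc cc a (v * w) = (a * v * a⁻¹) * ((a * w * a⁻¹ * w⁻¹) * v⁻¹) := by unfold cc; group
    _ = (a * v * a⁻¹) * (v⁻¹ * (a * w * a⁻¹ * w⁻¹)) := by rw [hc _ h1 _ (inv_mem hv)]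
    _ = cc a v * cc a w := by unfold cc; group

theorem Module'.cc_mem (h : Module' i j Y W Z) {a w : G} (ha : a ∈ Z) (hw : w ∈ W) : cc a w ∈ W :=
  mul_mem (h.ZW a ha w hw) (inv_mem hw)

theorem Module'.cc_inv (h : Module' i j Y W Z) {a w : G} (ha : a ∈ Z) (hw : w ∈ W) :
    cc a w⁻¹ = (cc a w)⁻¹ := by
  refine eq_inv_of_mul_eq_one_left ?_
  rw [← cc_mul h.Wcomm (h.ZW a ha) (inv_mem hw) hw, inv_mul_cancel]
  simp [cc]

theorem Module'.cc_comm (h : Module' i j Y W Z) {a b w : G} (ha : a ∈ Z) (hb : b ∈ Z)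
    (hw : w ∈ W) : cc a (cc b w) = cc b (cc a w) := by
  have hA := h.ZW a ha w hw
  have hB := h.ZW b hb w hw
  have e := h.Zab a ha b hb w hw
  calc cc a (cc b w) = a * b * w * (a * b)⁻¹ * ((a * w * a⁻¹)⁻¹ * (w * (b * w * b⁻¹)⁻¹)) := by
        unfold cc; group
    _ = b * a * w * (b * a)⁻¹ * ((a * w * a⁻¹)⁻¹ * (w * (b * w * b⁻¹)⁻¹)) := by rw [e]
    _ = b * a * w * (b * a)⁻¹ * ((b * w * b⁻¹)⁻¹ * (w * (a * w * a⁻¹)⁻¹)) := by
        congr 1
        rw [h.Wcomm _ (inv_mem hA) _ (mul_mem hw (inv_mem hB)),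
          h.Wcomm w hw _ (inv_mem hB), mul_assoc]
    _ = cc b (cc a w) := by unfold cc; group

/-- The key identity: `[W, b, a] = 1` for `a` fixed by `i` and `b` fixed by `j`. -/
theorem Module'.cc_cc_eq_one [Finite G] (h : Module' i j Y W Z) {a b v : G} (ha : a ∈ Z)
    (hb : b ∈ Z) (hai : a * i = i * a) (hbj : b * j = j * b) (hv : v ∈ W) :
    cc a (cc b v) = 1 := by
  have hA : ∀ v ∈ W, cc a (i * v * i⁻¹) = (cc a v)⁻¹ := by
    intro v hv
    have hiv := h.WI v hv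
    have hfix : (v * (i * v * i⁻¹)) * i = i * (v * (i * v * i⁻¹)) := by
      have hi : i⁻¹ = i := inv_eq_of_mul_eq_one_right h.fpf.ii
      conv_rhs => rw [h.Wcomm v hv _ hiv]
      rw [hi]
      calc v * (i * v * i) * i = v * i * v * (i * i) := by group
        _ = v * i * v := by rw [h.fpf.ii, mul_one]
        _ = (i * i) * v * i * v := by rw [h.fpf.ii, one_mul]
        _ = i * (i * v * i * v) := by group
    have h1 : cc a (v * (i * v * i⁻¹)) = 1 := by
      unfold cc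
      rw [h.fpf.comm_of_comm (h.ZY ha) (h.WY (mul_mem hv hiv)) hai hfix]
      group
    rw [cc_mul h.Wcomm (h.ZW a ha) hv hiv] at h1
    exact eq_inv_of_mul_eq_one_right h1
  have hib : i * b * i⁻¹ = b⁻¹ := h.fpf.symm.inv_of_comm (h.ZY hb) hbj
  have hM : ∀ v ∈ W, cc a (cc b (b⁻¹ * v * b)) = (cc a (cc b v))⁻¹ := by
    intro v hv
    have hbv : b⁻¹ * v * b ∈ W := by simpa using h.ZW _ (inv_mem hb) v hv
    have h1 : cc b (i * v * i⁻¹) = i * (cc b⁻¹ v) * i⁻¹ := by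
      have e : i * b⁻¹ * i⁻¹ = b := by
        rw [show i * b⁻¹ * i⁻¹ = (i * b * i⁻¹)⁻¹ by group, hib, inv_inv]
      calc cc b (i * v * i⁻¹)
          = (i * b⁻¹ * i⁻¹) * (i * v * i⁻¹) * (i * b * i⁻¹) * (i * v * i⁻¹)⁻¹ := by
            rw [e, hib]; rfl
        _ = i * cc b⁻¹ v * i⁻¹ := by unfold cc; group
    have h2 : cc b⁻¹ v = (cc b (b⁻¹ * v * b))⁻¹ := by unfold cc; group
    have e1 : cc a (cc b (i * v * i⁻¹)) = (cc a (cc b v))⁻¹ := by
      rw [h.cc_comm ha hb (h.WI v hv), hA v hv, h.cc_inv hb (h.cc_mem ha hv), h.cc_comm hb ha hv]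
    rw [← e1, h1, hA _ (h.cc_mem (inv_mem hb) hv), h2, h.cc_inv ha (h.cc_mem hb hbv), inv_inv]
  have hmem : cc a (cc b v) ∈ W := h.cc_mem ha (h.cc_mem hb hv)
  have hpow : ∀ n : ℕ, Odd n → cc a (cc b ((b ^ n)⁻¹ * v * b ^ n)) = (cc a (cc b v))⁻¹ := by
    have hstep : ∀ n : ℕ, (b ^ n)⁻¹ * v * b ^ n ∈ W := fun n => by
      simpa using h.ZW _ (inv_mem (pow_mem hb n)) v hv
    rintro n ⟨k, rfl⟩
    induction k with
    | zero => simpa using hM v hv
    | succ k ih =>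
      have hcj : ∀ n : ℕ, (b ^ (n + 1))⁻¹ * v * b ^ (n + 1)
          = b⁻¹ * ((b ^ n)⁻¹ * v * b ^ n) * b := fun n => by rw [pow_succ]; group
      rw [show 2 * (k + 1) + 1 = 2 * k + 1 + 1 + 1 by ring, hcj, hM _ (hstep _), hcj,
        hM _ (hstep _), inv_inv, ih]
  have h2 := hpow _ (odd_orderOf h.fpf.odd (h.ZY hb))
  rw [pow_orderOf_eq_one, inv_one, one_mul, mul_one] at h2
  exact eq_one_of_odd h.fpf.odd (h.WY hmem) (mul_eq_one_iff_eq_inv.2 h2)

/-- `K` contains the kernel of the action of `Z` on `W` and fixes a nontrivial element of `W`,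
and is maximal with this property. -/
structure IsMaxFix (W Z K : Subgroup G) : Prop where
  le : K ≤ Z
  ker : Z ⊓ centralizer (W : Set G) ≤ K
  fix : ∃ w ∈ W, w ≠ 1 ∧ ∀ k ∈ K, k * w = w * k
  max : ∀ K' : Subgroup G, K ≤ K' → K' ≤ Z → (∃ w ∈ W, w ≠ 1 ∧ ∀ k ∈ K', k * w = w * k) → K' ≤ K

theorem exists_isMaxFix [Finite G] (hW : W ≠ ⊥) : ∃ K, IsMaxFix W Z K := by
  obtain ⟨w, hw, hw1⟩ := (Subgroup.bot_or_exists_ne_one W).resolve_left hW
  obtain ⟨K, hK, hmax⟩ := (Set.toFinite {K : Subgroup G | K ≤ Z ∧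
    Z ⊓ centralizer (W : Set G) ≤ K ∧ ∃ w ∈ W, w ≠ 1 ∧ ∀ k ∈ K, k * w = w * k}).exists_maximal
      ⟨_, inf_le_left, le_rfl, w, hw, hw1, fun k hk => (mem_centralizer_iff.1 hk.2 w hw).symm⟩
  exact ⟨K, hK.1, hK.2.1, hK.2.2, fun K' h1 h2 h3 => hmax ⟨h2, hK.2.1.trans h1, h3⟩ h1⟩

theorem Module'.not_le (h : Module' i j Y W Z) {K : Subgroup G} (hK : IsMaxFix W Z K) :
    ¬ Z ≤ K := fun hle => by
  obtain ⟨w, hw, hw1, hwK⟩ := hK.fix
  exact hw1 (h.nofix w hw fun z hz => hwK z (hle hz))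

theorem Module'.mem_of_not_mem [Finite G] (h : Module' i j Y W Z) {K : Subgroup G}
    (hK : IsMaxFix W Z K) {a b : G} (ha : a ∈ Z) (hai : a * i = i * a) (haK : a ∉ K) (hb : b ∈ Z)
    (hbj : b * j = j * b) : b ∈ K := by
  obtain ⟨v, hv, hv1, hvK⟩ := hK.fix
  have hext : ∀ {c w : G}, c ∈ Z → w ∈ W → w ≠ 1 → (∀ k ∈ K, k * w = w * k) → c * w = w * c →
      c ∈ K := by
    intro c w hc hw hw1 hwK hcw
    have h1 : K ⊔ zpowers c ≤ K := hK.max _ le_sup_left (sup_le hK.le (zpowers_le.2 hc))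
      ⟨w, hw, hw1, fun k hk => by
        have : K ⊔ zpowers c ≤ centralizer ({w} : Set G) := sup_le
          (fun k hk => mem_centralizer_singleton_iff.2 (hwK k hk))
          (zpowers_le.2 (mem_centralizer_singleton_iff.2 hcw))
        exact mem_centralizer_singleton_iff.1 (this hk)⟩
    exact h1 (mem_sup_right (mem_zpowers c))
  have hu1 : cc a v ≠ 1 := fun e => haK (hext ha hv hv1 hvK (by
    have := mul_inv_eq_one.1 e
    exact mul_inv_eq_iff_eq_mul.1 this))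
  have huK : ∀ k ∈ K, k * cc a v = cc a v * k := by
    intro k hk
    have e1 : k * v * k⁻¹ = v := by rw [hvK k hk]; group
    have e2 : k * (a * v * a⁻¹) * k⁻¹ = a * v * a⁻¹ := by
      calc k * (a * v * a⁻¹) * k⁻¹ = k * a * v * (k * a)⁻¹ := by group
        _ = a * k * v * (a * k)⁻¹ := h.Zab k (hK.le hk) a ha v hv
        _ = a * (k * v * k⁻¹) * a⁻¹ := by group
        _ = a * v * a⁻¹ := by rw [e1]
    refine mul_inv_eq_iff_eq_mul.1 ?_
    calc k * cc a v * k⁻¹ = (k * (a * v * a⁻¹) * k⁻¹) * (k * v * k⁻¹)⁻¹ := by unfold cc; group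
      _ = cc a v := by rw [e1, e2]; rfl
  refine hext hb (h.cc_mem ha hv) hu1 huK ?_
  have h3 : cc b (cc a v) = 1 := by rw [h.cc_comm hb ha hv]; exact h.cc_cc_eq_one ha hb hai hbj hv
  exact mul_inv_eq_iff_eq_mul.1 (mul_inv_eq_one.1 h3)

/-- If some element of `Z` fixed by `i` lies outside `K`, then `i` and `j` normalize `K`, all of
`Z` fixed by `j` or `i j` lies in `K`, and `i` centralizes `Z` modulo `K`. -/
theorem Module'.shape [Finite G] (h : Module' i j Y W Z) {K : Subgroup G} (hK : IsMaxFix W Z K)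
    {a : G} (ha : a ∈ Z) (hai : a * i = i * a) (haK : a ∉ K) :
    (∀ k ∈ K, i * k * i⁻¹ ∈ K) ∧ (∀ k ∈ K, j * k * j⁻¹ ∈ K) ∧
      ∀ z ∈ Z, ∃ c ∈ Z, c * i = i * c ∧ c⁻¹ * z ∈ K := by
  have hj' : ∀ b ∈ Z, b * j = j * b → b ∈ K := fun b hb e => h.mem_of_not_mem hK ha hai haK hb e
  have hk' : ∀ b ∈ Z, b * (i * j) = i * j * b → b ∈ K := fun b hb e =>
    h.third.mem_of_not_mem hK ha hai haK hb e
  set C0 := Z ⊓ centralizer (W : Set G) with hC0
  set M0 := C0 ⊔ (Z ⊓ centralizer ({j} : Set G)) ⊔ (Z ⊓ centralizer ({i * j} : Set G)) with hM0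
  have hM0K : M0 ≤ K := sup_le (sup_le hK.ker
    fun b hb => hj' b hb.1 (mem_centralizer_singleton_iff.1 hb.2))
    fun b hb => hk' b hb.1 (mem_centralizer_singleton_iff.1 hb.2)
  have hM0Z : M0 ≤ Z := sup_le (sup_le inf_le_left inf_le_left) inf_le_left
  -- `M0` is normalized by `Z`
  have hZM : Z ≤ normalizer (M0 : Set G) := by
    intro z hz
    refine mem_normalizer_iff.2 fun m => ?_
    have key : ∀ z ∈ Z, ∀ m ∈ M0, z * m * z⁻¹ ∈ M0 := by
      intro z hz m hm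
      have h1 : z * m * z⁻¹ * m⁻¹ ∈ C0 := by
        refine Subgroup.mem_inf.2
          ⟨mul_mem (mul_mem (mul_mem hz (hM0Z hm)) (inv_mem hz)) (inv_mem (hM0Z hm)),
          mem_centralizer_iff.2 fun w hw => ?_⟩
        have hw' : z⁻¹ * (m⁻¹ * w * m⁻¹⁻¹) * z⁻¹⁻¹ ∈ W :=
          h.ZW _ (inv_mem hz) _ (h.ZW _ (inv_mem (hM0Z hm)) w hw)
        refine (mul_inv_eq_iff_eq_mul.1 ?_).symm
        calc z * m * z⁻¹ * m⁻¹ * w * (z * m * z⁻¹ * m⁻¹)⁻¹
            = z * m * (z⁻¹ * (m⁻¹ * w * m⁻¹⁻¹) * z⁻¹⁻¹) * (z * m)⁻¹ := by group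
          _ = m * z * (z⁻¹ * (m⁻¹ * w * m⁻¹⁻¹) * z⁻¹⁻¹) * (m * z)⁻¹ :=
            h.Zab z hz m (hM0Z hm) _ hw'
          _ = w := by group
      have h2 : z * m * z⁻¹ * m⁻¹ * m ∈ M0 := mul_mem (mem_sup_left (mem_sup_left h1)) hm
      rwa [inv_mul_cancel_right] at h2
    exact ⟨key z hz m, fun hm => by
      simpa [mul_assoc] using key _ (inv_mem hz) _ hm⟩
  have hdec : ∀ z ∈ Z, ∃ c ∈ Z, c * i = i * c ∧ c⁻¹ * z ∈ M0 := by
    intro z hz
    have hle : Z ≤ M0 ⊔ (Z ⊓ centralizer ({i} : Set G)) :=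
      (h.fpf.mono h.ZY h.ZI h.ZJ).le_of
        (fun y hy e => mem_sup_right ⟨hy, mem_centralizer_singleton_iff.2 e⟩)
        (fun y hy e => mem_sup_left (mem_sup_left (mem_sup_right
          ⟨hy, mem_centralizer_singleton_iff.2 e⟩)))
        (fun y hy e => mem_sup_left (mem_sup_right ⟨hy, mem_centralizer_singleton_iff.2 e⟩))
    have hcn : Z ⊓ centralizer ({i} : Set G) ≤ normalizer (M0 : Set G) := inf_le_left.trans hZM
    obtain ⟨m, hm, c, hc, rfl⟩ := CfsgLib.Coprime.exists_mul_of_mem_sup hcn (hle hz)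
    refine ⟨c, hc.1, mem_centralizer_singleton_iff.1 hc.2, ?_⟩
    rw [← mul_assoc]
    exact (Subgroup.mem_normalizer_iff''.1 (hcn hc) m).1 hm
  -- `M0` is invariant under `i` and `j`
  have hinv : ∀ s : G, s * s = 1 → (∀ w ∈ W, s * w * s⁻¹ ∈ W) → (∀ w ∈ Z, s * w * s⁻¹ ∈ Z) →
      s * j = j * s → s * (i * j) = i * j * s → ∀ m ∈ M0, s * m * s⁻¹ ∈ M0 := by
    intro s hs hsW hsZ hsj hsk m hm
    have hle : M0 ≤ M0.comap (MulAut.conj s).toMonoidHom := by
      refine sup_le (sup_le (fun m hm => ?_) fun m hm => ?_) fun m hm => ?_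
      · refine mem_sup_left (mem_sup_left ⟨hsZ m hm.1, mem_centralizer_iff.2 fun w hw => ?_⟩)
        have hw' : s⁻¹ * w * s ∈ W := by
          rw [inv_eq_of_mul_eq_one_right hs]
          simpa [inv_eq_of_mul_eq_one_right hs] using hsW w hw
        show w * (s * m * s⁻¹) = s * m * s⁻¹ * w
        calc w * (s * m * s⁻¹) = s * ((s⁻¹ * w * s) * m) * s⁻¹ := by group
          _ = s * (m * (s⁻¹ * w * s)) * s⁻¹ := by rw [mem_centralizer_iff.1 hm.2 _ hw']
          _ = s * m * s⁻¹ * w := by group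
      · refine mem_sup_left (mem_sup_right ⟨hsZ m hm.1, mem_centralizer_singleton_iff.2 ?_⟩)
        have hmj := mem_centralizer_singleton_iff.1 hm.2
        show s * m * s⁻¹ * j = j * (s * m * s⁻¹)
        have e : s⁻¹ * j = j * s⁻¹ := by rw [inv_eq_of_mul_eq_one_right hs, hsj]
        calc s * m * s⁻¹ * j = s * m * (s⁻¹ * j) := by group
          _ = s * (m * j) * s⁻¹ := by rw [e]; group
          _ = (s * j) * m * s⁻¹ := by rw [hmj]; group
          _ = j * (s * m * s⁻¹) := by rw [hsj]; group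
      · refine mem_sup_right ⟨hsZ m hm.1, mem_centralizer_singleton_iff.2 ?_⟩
        have hmj := mem_centralizer_singleton_iff.1 hm.2
        show s * m * s⁻¹ * (i * j) = i * j * (s * m * s⁻¹)
        have e : s⁻¹ * (i * j) = i * j * s⁻¹ := by rw [inv_eq_of_mul_eq_one_right hs, hsk]
        calc s * m * s⁻¹ * (i * j) = s * m * (s⁻¹ * (i * j)) := by group
          _ = s * (m * (i * j)) * s⁻¹ := by rw [e]; group
          _ = (s * (i * j)) * m * s⁻¹ := by rw [hmj]; group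
          _ = i * j * (s * m * s⁻¹) := by rw [hsk]; group
    exact hle hm
  have hMi := hinv i h.fpf.ii h.WI h.ZI h.fpf.ij h.fpf.third.ij
  have hMj := hinv j h.fpf.jj h.WJ h.ZJ rfl (by rw [← mul_assoc, ← h.fpf.ij])
  refine ⟨fun k hk => ?_, fun k hk => ?_, fun z hz => ?_⟩
  · obtain ⟨c, hc, hci, hcm⟩ := hdec k (hK.le hk)
    have hcK : c ∈ K := by
      have := mul_mem hk (inv_mem (hM0K hcm))
      simpa using this
    have e : i * k * i⁻¹ = c * (i * (c⁻¹ * k) * i⁻¹) := by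
      calc i * k * i⁻¹ = (i * c) * (c⁻¹ * k) * i⁻¹ := by group
        _ = c * (i * (c⁻¹ * k) * i⁻¹) := by rw [← hci]; group
    rw [e]
    exact mul_mem hcK (hM0K (hMi _ hcm))
  · obtain ⟨c, hc, hci, hcm⟩ := hdec k (hK.le hk)
    have hcK : c ∈ K := by
      have := mul_mem hk (inv_mem (hM0K hcm))
      simpa using this
    have e : j * k * j⁻¹ = c⁻¹ * (j * (c⁻¹ * k) * j⁻¹) := by
      calc j * k * j⁻¹ = (j * c * j⁻¹) * (j * (c⁻¹ * k) * j⁻¹) := by group
        _ = _ := by rw [h.fpf.inv_of_comm (h.ZY hc) hci]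
    rw [e]
    exact mul_mem (inv_mem hcK) (hM0K (hMj _ hcm))
  · obtain ⟨c, hc, hci, hcm⟩ := hdec z hz
    exact ⟨c, hc, hci, hM0K hcm⟩

/-- A maximal `K` leaves out an element of `Z` fixed by one of `i`, `j`, `i j`. -/
theorem Module'.exists_outside [Finite G] (h : Module' i j Y W Z) {K : Subgroup G}
    (hK : IsMaxFix W Z K) :
    ∃ a ∈ Z, a ∉ K ∧ (a * i = i * a ∨ a * j = j * a ∨ a * (i * j) = i * j * a) := by
  by_contra hne
  push Not at hne
  refine h.not_le hK ((h.fpf.mono h.ZY h.ZI h.ZJ).le_of ?_ ?_ ?_) <;> intro a ha e <;>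
    by_contra haK
  · exact (hne a ha haK).1 e
  · exact (hne a ha haK).2.1 e
  · exact (hne a ha haK).2.2 e

/-- `i` and `j` normalize a maximal `K`. -/
theorem Module'.normalizes [Finite G] (h : Module' i j Y W Z) {K : Subgroup G}
    (hK : IsMaxFix W Z K) :
    (∀ k ∈ K, i * k * i⁻¹ ∈ K) ∧ ∀ k ∈ K, j * k * j⁻¹ ∈ K := by
  obtain ⟨a, ha, haK, e | e | e⟩ := h.exists_outside hK
  · exact ⟨(h.shape hK ha e haK).1, (h.shape hK ha e haK).2.1⟩
  · exact ⟨(h.symm.shape hK ha e haK).2.1, (h.symm.shape hK ha e haK).1⟩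
  · obtain ⟨h1, h2, -⟩ := h.third.symm.shape hK ha e haK
    refine ⟨h2, fun k hk => ?_⟩
    have h3 := h2 _ (h1 k hk)
    have e2 : i * (i * j * k * (i * j)⁻¹) * i⁻¹ = (i * i) * (j * k * j⁻¹) * (i * i)⁻¹ := by group
    rwa [e2, h.fpf.ii, one_mul, inv_one, mul_one] at h3

end CfsgLib.DGroupCent
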