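import Mathlib.Algebra.BigOperators.Group.Finset.Basic
import Mathlib.Algebra.BigOperators.GroupWithZero.Finset
import Mathlib.GroupTheory.QuotientGroup.Basic
import Mathlib.GroupTheory.Index
import Mathlib.Algebra.GroupWithZero.Units.Equiv
import Mathlib.GroupTheory.OrderOfElement
import Mathlib.Algebra.Field.Basic
import Mathlib.Data.Fintype.BigOperators
import Mathlib.Tactic.Group
import Mathlib.Tactic.LinearCombination
import Mathlib.GroupTheory.SemidirectProduct
import Cfsg.Agent.S1545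
import Cfsg.Agent.Coprime.Basic

/-!
# Operators on a finite abelian group

Two lemmas: a torus centralizing all fixed points of an involution forces a unipotent group to act
trivially, and a bound on fixed points of an element inverted by an involution of a four group.
-/

set_option autoImplicit false
set_option linter.style.haveILetI false

namespace CfsgLib.DGroupCent.Free

open Finset

variable {X M : Type*} [Group X] [CommGroup M] (ρ : X →* MulAut M)

theorem free_trivial [Finite M] {F : Type*} [Field F] [Fintype F] (φ : F → X)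
    (hφ : ∀ a b : F, φ (a + b) = φ a * φ b) {k j : X} {α : F} (hα : α ≠ 1) (hα' : α ≠ -1)
    (h2 : (2 : F) ≠ 0) (hk : ∀ b, k * φ b = φ (α * b) * k) (hj : ∀ b, j * φ b = φ (-b) * j)
    (hjj : j * j = 1) (hfix : ∀ m, ρ j m = m → ρ k m = m)
    (hcop : (Fintype.card F).Coprime (Nat.card M)) : ∀ (b : F) (m : M), ρ (φ b) m = m := by
  classical
  have h0 : φ 0 = 1 := by
    have h := hφ 0 0
    rw [add_zero] at h
    exact left_eq_mul.1 h
  have hcomp : ∀ (x y : X) (m : M), ρ x (ρ y m) = ρ (x * y) m := fun x y m => by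
    rw [map_mul]; rfl
  let P : M → M := fun x => ∏ b : F, ρ (φ b) x
  have hshift : ∀ (c : F) (x : M), ρ (φ c) (P x) = P x := by
    intro c x
    show ρ (φ c) (∏ b : F, ρ (φ b) x) = ∏ b : F, ρ (φ b) x
    rw [map_prod]
    exact Fintype.prod_equiv (Equiv.addLeft c) _ _ fun b => by
      rw [hcomp, ← hφ]; rfl
  have hre : ∀ γ : F, γ ≠ 0 → ∀ x : M, (∏ b : F, ρ (φ (γ * b)) x) = P x := fun γ hγ x =>
    Fintype.prod_equiv (Equiv.mulLeft₀ γ hγ) _ _ fun b => rfl
  intro c m
  have main : ∀ b : F, ρ (φ ((1 - α) * b)) (ρ k m) * ρ (φ ((1 + α) * b)) (ρ (k * j) m) =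
      m * ρ (φ (2 * b)) (ρ j m) := by
    intro b
    have hf : ∀ u : M, ρ j (u * ρ j u) = u * ρ j u := fun u => by
      rw [map_mul (ρ j), hcomp, hjj, map_one, MulAut.one_apply, mul_comm]
    have h := congrArg (ρ (φ b)) (hfix _ (hf (ρ (φ (-b)) m)))
    rw [map_mul, map_mul, map_mul] at h
    have e1 : φ b * (k * φ (-b)) = φ ((1 - α) * b) * k := by
      rw [hk, ← mul_assoc, ← hφ, show b + α * -b = (1 - α) * b by ring]
    have e2 : φ b * (k * (j * φ (-b))) = φ ((1 + α) * b) * (k * j) := by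
      rw [hj, neg_neg, ← mul_assoc k, hk, mul_assoc, ← mul_assoc (φ b), ← hφ,
        show b + α * b = (1 + α) * b by ring]
    have e3 : φ b * (j * φ (-b)) = φ (2 * b) * j := by
      rw [hj, neg_neg, ← mul_assoc, ← hφ, two_mul]
    have e4 : φ b * φ (-b) = 1 := by rw [← hφ, add_neg_cancel, h0]
    simp only [hcomp] at h
    rw [e1, e2, e3, e4, map_one, MulAut.one_apply] at h
    rw [hcomp, hcomp, hcomp]
    exact h
  have hprod : P (ρ k m) * P (ρ (k * j) m) = m ^ Fintype.card F * P (ρ j m) := by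
    rw [← hre (1 - α) (sub_ne_zero.2 hα.symm), ← hre (1 + α)
      (fun e => hα' (by linear_combination e)), ← hre 2 h2, ← prod_mul_distrib]
    rw [Fintype.prod_congr _ _ main, prod_mul_distrib]
    congr 1
    rw [prod_const, Finset.card_univ]
  have hfixq : ρ (φ c) (m ^ Fintype.card F) = m ^ Fintype.card F := by
    rw [show m ^ Fintype.card F = P (ρ k m) * P (ρ (k * j) m) * (P (ρ j m))⁻¹ by
      rw [hprod, mul_inv_cancel_right]]
    rw [map_mul, map_mul, map_inv, hshift, hshift, hshift]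
  rw [map_pow] at hfixq
  exact (powCoprime hcop.symm).injective hfixq

/-- The fixed points of `ρ x`. -/
def fix (x : X) : Subgroup M := (ρ x).toMonoidHom.eqLocus (MonoidHom.id M)

theorem mem_fix {x : X} {m : M} : m ∈ fix ρ x ↔ ρ x m = m := Iff.rfl

/-- `m ↦ m * ρ x m`. -/
def sumHom (x : X) : M →* M := MonoidHom.id M * (ρ x).toMonoidHom

theorem sumHom_apply (x : X) (m : M) : sumHom ρ x m = m * ρ x m := rfl

/-- The elements inverted by `ρ x`. -/
def neg (x : X) : Subgroup M := (sumHom ρ x).ker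

theorem mem_neg {x : X} {m : M} : m ∈ neg ρ x ↔ ρ x m = m⁻¹ := by
  rw [neg, MonoidHom.mem_ker, sumHom_apply, mul_comm, mul_eq_one_iff_eq_inv]

theorem card_le_of_hom [Finite M] {A K R : Subgroup M} (g : A →* M) (hg : ∀ a, g a ∈ R)
    (hker : ∀ a : A, g a = 1 → (a : M) ∈ K) : Nat.card A ≤ Nat.card K * Nat.card R := by
  rw [← g.ker.index_mul_card, Subgroup.index_ker, mul_comm]
  refine Nat.mul_le_mul ?_ (Subgroup.card_le_of_le (by rintro _ ⟨a, rfl⟩; exact hg a))
  exact Nat.card_le_card_of_injective (fun a => (⟨(a.1 : M), hker a.1 a.2⟩ : K))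
    fun a b e => Subtype.ext (Subtype.ext (congrArg Subtype.val e :))

theorem card_fix_conj (g x : X) : Nat.card (fix ρ (g * x * g⁻¹)) = Nat.card (fix ρ x) := by
  symm
  refine Nat.card_congr ((ρ g).toEquiv.subtypeEquiv fun m => ?_)
  show ρ x m = m ↔ ρ (g * x * g⁻¹) (ρ g m) = ρ g m
  constructor
  · intro h
    simp only [map_mul, MulAut.mul_apply, map_inv, MulAut.inv_apply_self, h]
  · intro h
    simp only [map_mul, MulAut.mul_apply, map_inv, MulAut.inv_apply_self] at h
    exact (ρ g).injective h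

theorem bound [Finite M] {w v δ : X} (hwv : w * v = v * w) (hvv : v * v = 1)
    (hfpf : ∀ m, ρ w m = m → ρ v m = m → m = 1) (hδ : w * δ = δ⁻¹ * w)
    (hδodd : Odd (orderOf δ))
    (hc1 : Nat.card (fix ρ v) = Nat.card (fix ρ w))
    (hc2 : Nat.card (fix ρ (w * v)) = Nat.card (fix ρ w)) (hww : w * w = 1) :
    Nat.card M ≤ Nat.card (fix ρ w) ^ 3 ∧ Nat.card (fix ρ w) ≤ Nat.card (fix ρ δ) := by
  have hcomp : ∀ (x y : X) (m : M), ρ x (ρ y m) = ρ (x * y) m := fun x y m => by
    rw [map_mul]; rfl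
  set c := Nat.card (fix ρ w) with hc
  have hc0 : 0 < c := Nat.card_pos
  -- everything fixed by `v` or `w v` is inverted by `w`
  have hsum_fix : ∀ (x : X), x * x = 1 → ∀ m, sumHom ρ x m ∈ fix ρ x := fun x hx m => by
    rw [mem_fix, sumHom_apply, map_mul, hcomp, hx, map_one, MulAut.one_apply, mul_comm]
  have hsub : ∀ x : X, (∀ m, ρ w m = m → ρ x m = m → m = 1) → w * x = x * w →
      fix ρ x ≤ neg ρ w := by
    intro x hx hwx m hm
    rw [mem_fix] at hm
    rw [mem_neg]
    refine eq_inv_of_mul_eq_one_right (hx _ (hsum_fix w hww m) ?_)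
    rw [map_mul, hcomp, ← hwx, ← hcomp, hm]
  have hfpf' : ∀ m, ρ w m = m → ρ (w * v) m = m → m = 1 := fun m h1 h2 => hfpf m h1 (by
    calc ρ v m = ρ (w * (w * v)) m := by rw [← mul_assoc, hww, one_mul]
      _ = m := by rw [← hcomp, h2, h1])
  have hs1 : fix ρ v ≤ neg ρ w := hsub v hfpf hwv
  have hs2 : fix ρ (w * v) ≤ neg ρ w := hsub _ hfpf' (by rw [mul_assoc w v w, hwv])
  have hlow : c * c ≤ Nat.card (neg ρ w) := by
    conv_lhs => arg 1; rw [← hc1]
    conv_lhs => arg 2; rw [← hc2]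
    rw [← Nat.card_prod]
    refine Nat.card_le_card_of_injective
      (fun p : fix ρ v × fix ρ (w * v) => (⟨(p.1 : M) * p.2,
        mul_mem (hs1 p.1.2) (hs2 p.2.2)⟩ : neg ρ w)) ?_
    rintro ⟨a, b⟩ ⟨a', b'⟩ e
    have e' : (a : M) * b = a' * b' := congrArg Subtype.val e
    have e2 : (a' : M)⁻¹ * a = b' * (b : M)⁻¹ := by
      rw [eq_mul_inv_iff_mul_eq, mul_assoc, e', inv_mul_cancel_left]
    have h1 : ρ v ((a' : M)⁻¹ * a) = (a' : M)⁻¹ * a := (fix ρ v).mul_mem (inv_mem a'.2) a.2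
    have h2 : ρ (w * v) ((a' : M)⁻¹ * a) = (a' : M)⁻¹ * a := by
      rw [e2]; exact (fix ρ (w * v)).mul_mem b'.2 (inv_mem b.2)
    have h3 : (a' : M)⁻¹ * a = 1 := hfpf _ (by
      calc ρ w _ = ρ (w * v * v) ((a' : M)⁻¹ * a) := by rw [mul_assoc, hvv, mul_one]
        _ = _ := by rw [← hcomp, h1, h2]) h1
    have ha : a' = a := Subtype.ext (inv_mul_eq_one.1 h3)
    subst ha
    rw [mul_right_inj] at e'
    exact Prod.ext rfl (Subtype.ext e')
  have hup : Nat.card (neg ρ w) ≤ c * c := by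
    conv_rhs => arg 1; rw [← hc2]
    conv_rhs => arg 2; rw [← hc1]
    refine card_le_of_hom ((sumHom ρ v).comp (neg ρ w).subtype) (fun a => hsum_fix v hvv _)
      fun a ha => ?_
    have ha' : (a : M) * ρ v a = 1 := ha
    rw [mem_fix, ← hcomp, eq_inv_of_mul_eq_one_right ha', map_inv, (mem_neg ρ).1 a.2, inv_inv]
  constructor
  · have h : Nat.card M ≤ Nat.card (neg ρ w) * c := by
      rw [← Subgroup.card_top (G := M)]
      exact card_le_of_hom ((sumHom ρ w).comp (⊤ : Subgroup M).subtype)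
        (fun a => hsum_fix w hww _) fun a ha => ha
    calc Nat.card M ≤ Nat.card (neg ρ w) * c := h
      _ ≤ c * c * c := Nat.mul_le_mul_right _ hup
      _ = c ^ 3 := by ring
  · let g : neg ρ w →* M :=
      ((ρ δ).toMonoidHom * ((ρ δ⁻¹).toMonoidHom)⁻¹).comp (neg ρ w).subtype
    have hg : ∀ a, g a = ρ δ a * (ρ δ⁻¹ a)⁻¹ := fun a => rfl
    have h : Nat.card (neg ρ w) ≤ Nat.card (fix ρ δ) * c := by
      refine card_le_of_hom g (fun a => ?_) fun a ha => ?_
      · have hδ' : w * δ⁻¹ = δ * w := by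
          calc w * δ⁻¹ = δ * (δ⁻¹ * w) * δ⁻¹ := by group
            _ = δ * (w * δ) * δ⁻¹ := by rw [hδ]
            _ = δ * w := by group
        have ha := (mem_neg ρ).1 a.2
        rw [mem_fix, hg, map_mul (ρ w), map_inv (ρ w), hcomp, hcomp, hδ, hδ', ← hcomp, ← hcomp, ha,
          map_inv (ρ δ⁻¹), map_inv (ρ δ), inv_inv, mul_comm]
      · rw [hg, mul_inv_eq_one] at ha
        have h2 : ρ (δ * δ) a = a := by rw [← hcomp, ha, hcomp, mul_inv_cancel, map_one, MulAut.one_apply]
        obtain ⟨n, hn⟩ := hδodd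
        have hpow : ∀ e : ℕ, ρ ((δ * δ) ^ e) a = a := fun e => by
          induction e with
          | zero => simp
          | succ e ih => rw [pow_succ, ← hcomp, h2, ih]
        have h3 : (δ * δ) ^ (n + 1) = δ := by
          rw [← sq, ← pow_mul, show 2 * (n + 1) = 2 * n + 1 + 1 by ring, ← hn, pow_succ,
            pow_orderOf_eq_one, one_mul]
        have := hpow (n + 1)
        rwa [h3, ← mem_fix] at this
    exact Nat.le_of_mul_le_mul_right (hlow.trans h) hc0

open Subgroup in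
/-- The consequence of the fixed point formula of a Frobenius group: if the whole group fixes
nothing, the fixed points of the complement are few. -/
theorem fix_pow_le [Finite M] [Finite X] (U E : Subgroup X) (hU1 : U ≠ ⊥) (hE1 : E ≠ ⊥)
    (hUE : U ⊓ E = ⊥) (hUn : ∀ e ∈ E, ∀ u ∈ U, e * u * e⁻¹ ∈ U)
    (hfpf : ∀ e ∈ E, e ≠ 1 → ∀ u ∈ U, e * u = u * e → u = 1)
    (hcop : (Nat.card M).Coprime (Nat.card U * Nat.card E))
    (hB : ∀ m : M, (∀ u ∈ U, ρ u m = m) → (∀ e ∈ E, ρ e m = m) → m = 1)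
    (R : Subgroup M) (hR : ∀ m ∈ R, ∀ e ∈ E, ρ e m = m) :
    Nat.card R ^ Nat.card E ≤ Nat.card M := by
  haveI : Finite (SemidirectProduct M X ρ) := Finite.of_equiv _ SemidirectProduct.equivProd.symm
  let inl : M →* SemidirectProduct M X ρ := SemidirectProduct.inl
  let inr : X →* SemidirectProduct M X ρ := SemidirectProduct.inr
  have hinl : Function.Injective inl := SemidirectProduct.inl_injective
  have hinr : Function.Injective inr := SemidirectProduct.inr_injective
  have hcomm : ∀ (x : X) (m : M), inl m * inr x = inr x * inl m ↔ ρ x m = m := by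
    intro x m
    rw [← hinl.eq_iff, show inl (ρ x m) = inr x * inl m * inr x⁻¹ from SemidirectProduct.inl_aut x m,
      map_inv, mul_inv_eq_iff_eq_mul, eq_comm]
  have hsup : U.map inr ⊔ E.map inr = (U ⊔ E).map inr := (map_sup U E inr).symm
  have hdisj : inl.range ⊓ (U ⊔ E).map inr = ⊥ := by
    refine le_bot_iff.1 ?_
    rintro _ ⟨⟨m, rfl⟩, x, _, e⟩
    have hx : x = 1 := by
      have := congrArg SemidirectProduct.rightHom e
      rwa [SemidirectProduct.rightHom_inr, SemidirectProduct.rightHom_inl] at this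
    rw [mem_bot, ← e, hx, map_one]
  have hEn : E ≤ normalizer (U : Set X) := fun e he => mem_normalizer_iff.2 fun u =>
    ⟨hUn e he u, fun h => by simpa [mul_assoc] using hUn e⁻¹ (inv_mem he) _ h⟩
  have h := Cfsg.Agent.S1545.result (U.map inr) (E.map inr) inl.range
    (fun e => hU1 ((Subgroup.map_eq_bot_iff_of_injective U hinr).1 e))
    (fun e => hE1 ((Subgroup.map_eq_bot_iff_of_injective E hinr).1 e))
    (by rw [← map_inf U E inr hinr, hUE, Subgroup.map_bot])
    (by
      rintro _ ⟨e, he, rfl⟩ _ ⟨u, hu, rfl⟩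
      exact ⟨e * u * e⁻¹, hUn e he u hu, by simp⟩)
    (by
      rintro _ ⟨e, he, rfl⟩ he1 _ ⟨u, hu, rfl⟩ huv
      rw [← map_mul, ← map_mul] at huv
      rw [hfpf e he (fun h => he1 (h ▸ map_one inr)) u hu (hinr huv), map_one])
    (by
      rw [hsup]
      rintro _ ⟨x, _, rfl⟩ _ ⟨m, rfl⟩
      exact ⟨ρ x m, by rw [← map_inv]; exact SemidirectProduct.inl_aut x m⟩)
    (by rw [hsup, hdisj])
    (Group.isSolvable_of_comm (by
      rintro ⟨_, a, rfl⟩ ⟨_, b, rfl⟩
      exact Subtype.ext (by show inl a * inl b = inl b * inl a; rw [← map_mul, ← map_mul, mul_comm])))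
    (by
      rw [hsup, card_map_of_injective hinr, CfsgLib.Coprime.card_sup_eq hEn hUE,
        Nat.card_congr (MonoidHom.ofInjective hinl).toEquiv.symm]
      exact hcop)
  have hB' : inl.range ⊓ centralizer ((U.map inr ⊔ E.map inr : Subgroup _) : Set _) = ⊥ := by
    refine le_bot_iff.1 ?_
    rintro _ ⟨⟨m, rfl⟩, hm⟩
    rw [mem_bot, hB m (fun u hu => (hcomm u m).1
        (mem_centralizer_iff.1 hm _ (mem_sup_left ⟨u, hu, rfl⟩)).symm)
      (fun e he => (hcomm e m).1
        (mem_centralizer_iff.1 hm _ (mem_sup_right ⟨e, he, rfl⟩)).symm), map_one]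
  rw [hB', card_bot, one_pow, one_mul, card_map_of_injective hinr,
    Nat.card_congr (MonoidHom.ofInjective hinl).toEquiv.symm] at h
  rw [h]
  refine le_trans (Nat.pow_le_pow_left ?_ _) (Nat.le_mul_of_pos_right _ Nat.card_pos)
  rw [← card_map_of_injective (f := inl) hinl]
  refine card_le_of_le ?_
  rintro _ ⟨m, hm, rfl⟩
  refine ⟨⟨m, rfl⟩, mem_centralizer_iff.2 ?_⟩
  rintro _ ⟨e, he, rfl⟩
  exact ((hcomm e m).2 (hR m hm e he)).symm

end CfsgLib.DGroupCent.Free
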