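import Cfsg.Agent.S0202
import Cfsg.Agent.S0203
import Cfsg.Agent.S0948
import Cfsg.Agent.S4479
import Cfsg.Agent.S4481
import Cfsg.Agent.S4482
import Cfsg.Agent.Blocks.LocalRing
import Cfsg.Agent.Blocks.Height
import Cfsg.Agent.TwoGroups.DihedralLocal
import Cfsg.Agent.Small.StronglyEmbedded

/-!
# A consequence of the order formulas for dihedral Sylow 2-subgroups

If all involutions are conjugate in `X` and in a subgroup `M` containing a Sylow 2-subgroup and
the centralizer of an involution, then `|X : M| ≤ 5`.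
-/

set_option autoImplicit false
set_option linter.style.haveILetI false

namespace CfsgLib.DGroupCent

open Subgroup
open DihedralGroup (r sr)

variable {X : Type*} [Group X]

/-- The multiplicity of the trivial character in the restriction to a cyclic subgroup. -/
theorem dvd_sub_of_constant [Finite X] (χ : Cfsg.IrrCharacter X) {σ : X} (δ : ℤ)
    (hval : ∀ l : ℕ, 0 < l → l < orderOf σ → (χ : X → ℂ) (σ ^ l) = δ) :
    (orderOf σ : ℤ) ∣ (Cfsg.charDegree (χ : X → ℂ) : ℤ) - δ := by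
  classical
  letI := Fintype.ofFinite X
  obtain ⟨d, ρ, -, hρ⟩ := χ.2
  set H := zpowers σ
  letI := Fintype.ofFinite H
  haveI : Invertible (Nat.card H : ℂ) := invertibleOfNonzero (by simp [Nat.card_pos.ne'])
  let ρH : Representation ℂ H (Fin d → ℂ) := ρ.comp H.subtype
  have key := Representation.card_inv_mul_sum_char_eq_finrank ρH
  set m := Module.finrank ℂ (Representation.invariants ρH)
  have hN : (Nat.card H : ℂ) ≠ 0 := by simp [Nat.card_pos.ne']
  rw [inv_mul_eq_iff_eq_mul₀ hN] at key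
  have hs : ∀ g : H, ρH.character g
      = (δ : ℂ) + if g = 1 then ((χ : X → ℂ) 1 - δ) else 0 := by
    intro g
    have e : ρH.character g = (χ : X → ℂ) g := by rw [← hρ]; rfl
    rw [e]
    split_ifs with hg
    · rw [hg]; simp
    · obtain ⟨l, hl, hl'⟩ := (IsOfFinOrder.mem_zpowers_iff_mem_range_orderOf
        (isOfFinOrder_of_finite σ)).1 g.2 |> Finset.mem_image.1
      rw [add_zero, ← hl', hval l (Nat.pos_of_ne_zero fun h => hg (Subtype.ext ?_))
        (Finset.mem_range.1 hl)]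
      rw [← hl', h, pow_zero]
      rfl
  rw [Finset.sum_congr rfl fun g _ => hs g, Finset.sum_add_distrib, Finset.sum_const,
    Finset.card_univ, ← Nat.card_eq_fintype_card, Finset.sum_ite_eq' Finset.univ (1 : H),
    if_pos (Finset.mem_univ _), nsmul_eq_mul, ← CfsgLib.Blocks.charDegree_cast,
    Nat.card_zpowers] at key
  refine ⟨(m : ℤ) - δ, ?_⟩
  have : ((Cfsg.charDegree (χ : X → ℂ) : ℤ) - δ : ℂ) = ((orderOf σ : ℤ) * ((m : ℤ) - δ) : ℂ) := by
    push_cast
    linear_combination key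
  exact_mod_cast this

/-- Bounds for the factor in the formula for a four group. -/
theorem alpha_bounds {u v w : ℕ} {ε : ℤ} (hε : ε = 1 ∨ ε = -1) (hu0 : 0 < u) (hv0 : 0 < v)
    (hw0 : 0 < w) (hu : (4 : ℤ) ∣ (u : ℤ) - 1) (hv : (4 : ℤ) ∣ (v : ℤ) - ε)
    (hw : (4 : ℤ) ∣ (w : ℤ) + 1) (hsum : 1 + (u : ℤ) + ε * v - w = 0) :
    (3 / 8 : ℚ) ≤ (u : ℚ) * v * w / (((u : ℚ) + 1) * ((v : ℚ) + ε) * ((w : ℚ) + (-1 : ℤ))) ∧
      (u : ℚ) * v * w / (((u : ℚ) + 1) * ((v : ℚ) + ε) * ((w : ℚ) + (-1 : ℤ))) ≤ 9 / 4 := by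
  have hu1 : (1 : ℚ) ≤ u := by exact_mod_cast hu0
  have hsum' : (1 : ℚ) + u + ε * v - w = 0 := by exact_mod_cast hsum
  rcases hε with rfl | rfl
  · have hv1 : (1 : ℚ) ≤ v := by exact_mod_cast hv0
    have hwe : (w : ℚ) = 1 + u + v := by push_cast at hsum'; linarith
    have hd : (0 : ℚ) < ((u : ℚ) + 1) * ((v : ℚ) + (1 : ℤ)) * ((w : ℚ) + (-1 : ℤ)) := by
      push_cast; rw [hwe]; exact mul_pos (mul_pos (by linarith) (by linarith)) (by linarith)
    rw [le_div_iff₀ hd, div_le_iff₀ hd]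
    push_cast
    rw [hwe]
    constructor
    · by_cases h1 : u = 1 ∧ v = 1
      · norm_num [h1.1, h1.2]
      rcases not_and_or.1 h1 with h | h
      · have : (5 : ℚ) ≤ u := by
          have : 5 ≤ u := by omega
          exact_mod_cast this
        nlinarith [mul_nonneg (sub_nonneg.2 this) (sub_nonneg.2 hv1), mul_pos hd hd]
      · have : (5 : ℚ) ≤ v := by
          have : 5 ≤ v := by omega
          exact_mod_cast this
        nlinarith [mul_nonneg (sub_nonneg.2 this) (sub_nonneg.2 hu1), mul_pos hd hd]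
    · nlinarith [mul_nonneg (sub_nonneg.2 hu1) (sub_nonneg.2 hv1),
        mul_nonneg (mul_nonneg (sub_nonneg.2 hu1) (sub_nonneg.2 hv1)) (sub_nonneg.2 hu1)]
  · have hv3 : (3 : ℚ) ≤ v := by
      have : 3 ≤ v := by omega
      exact_mod_cast this
    have hw3 : (3 : ℚ) ≤ w := by
      have : 3 ≤ w := by omega
      exact_mod_cast this
    have hue : (u : ℚ) = v + w - 1 := by push_cast at hsum'; linarith
    have hd : (0 : ℚ) < ((u : ℚ) + 1) * ((v : ℚ) + (-1 : ℤ)) * ((w : ℚ) + (-1 : ℤ)) := by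
      push_cast
      exact mul_pos (mul_pos (by linarith) (by linarith)) (by linarith)
    rw [le_div_iff₀ hd, div_le_iff₀ hd]
    push_cast
    rw [hue]
    constructor
    · nlinarith [mul_nonneg (sub_nonneg.2 hv3) (sub_nonneg.2 hw3)]
    · nlinarith [mul_nonneg (sub_nonneg.2 hv3) (sub_nonneg.2 hw3),
        mul_nonneg (mul_nonneg (sub_nonneg.2 hv3) (sub_nonneg.2 hw3)) (sub_nonneg.2 hw3),
        mul_nonneg (mul_nonneg (sub_nonneg.2 hv3) (sub_nonneg.2 hw3)) (sub_nonneg.2 hv3)]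

/-- The order formula with bounds, four group case. -/
theorem exists_factor_four [Finite X] (P : Sylow 2 X) (hP : IsKleinFour (P : Subgroup X))
    (hone : ∀ a b : X, orderOf a = 2 → orderOf b = 2 → IsConj a b) {J : X}
    (hJ : J ∈ (P : Subgroup X)) (hJ2 : orderOf J = 2) :
    ∃ F : ℚ, 3 / 8 ≤ F ∧ F ≤ 9 / 4 ∧ (Nat.card X : ℚ) = F *
      (8 * (Nat.card (centralizer ({J} : Set X)) : ℚ) ^ 3
        / (Nat.card (centralizer ((P : Subgroup X) : Set X)) : ℚ) ^ 2) := by
  classical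
  letI := Fintype.ofFinite X
  haveI : Fact (Nat.Prime 2) := ⟨Nat.prime_two⟩
  obtain ⟨M, hM⟩ := CfsgLib.Blocks.exists_isPModular 2 Nat.prime_two
  haveI := CfsgLib.Blocks.IsPModular.isPrime hM
  obtain ⟨z2, z3, z4, ε, hε, h2, h3, h23, h24, h34, hB, hz, hd2, hd3, hd4, hsum⟩ :=
    Cfsg.Agent.S0948.result M hM P hP hone
  have h4 : (z4 : X → ℂ) ≠ fun _ => 1 := fun e => by
    have h := (hz J hJ2).2.2
    rw [e] at h
    norm_num at h
  have hidx : Odd (P : Subgroup X).index := by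
    rw [← Nat.not_even_iff_odd, even_iff_two_dvd]
    exact P.not_dvd_index
  have hX : Nat.card X = 4 * (P : Subgroup X).index := by
    rw [← (P : Subgroup X).card_mul_index, hP.card_four]
  have hnc : ¬ ∃ N : Subgroup X, N.Normal ∧ Nat.card N = (P : Subgroup X).index := by
    rintro ⟨N, hN, hcN⟩
    have hc : IsComplement' N (P : Subgroup X) := by
      refine isComplement'_of_coprime ?_ ?_
      · rw [hcN, hP.card_four, hX, mul_comm]
      · rw [hcN, hP.card_four, show 4 = 2 ^ 2 from rfl]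
        exact (Nat.coprime_two_right.2 hidx).pow_right 2
    have h3c := (Cfsg.Agent.S0203.result P hP).2 ⟨N, hN, hc⟩
    have h1c : Nat.card {C : ConjClasses X // ∃ t : X, orderOf t = 2 ∧ ConjClasses.mk t = C}
        ≤ 1 := by
      haveI : Subsingleton {C : ConjClasses X // ∃ t : X, orderOf t = 2 ∧ ConjClasses.mk t = C} :=
        ⟨fun ⟨_, a, ha, e⟩ ⟨_, b, hb, e'⟩ => Subtype.ext
          (e.symm.trans ((ConjClasses.mk_eq_mk_iff_isConj.2 (hone a b ha hb)).trans e'))⟩
      exact Finite.card_le_one_iff_subsingleton.2 inferInstance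
    omega
  have hy := hsum 1 (by simp)
  obtain ⟨hu, hv, hw⟩ : (z2 : X → ℂ) J = ((1 : ℤ) : ℂ) ∧ (z3 : X → ℂ) J = (ε : ℂ) ∧
      (z4 : X → ℂ) J = ((-1 : ℤ) : ℂ) := by
    obtain ⟨a, b, c⟩ := hz J hJ2
    exact ⟨by simpa using a, b, by simpa using c⟩
  have key := Cfsg.Agent.S4479.result M hM _ hidx hX hnc P J hJ hJ2 z2 z3 z4 1 ε (-1) hB
    ⟨h2, h3, h4, h23, h24, h34⟩ ⟨Or.inl rfl, hε, Or.inr rfl⟩ ⟨hu, hv, hw⟩
  rw [← CfsgLib.Blocks.charDegree_cast, ← CfsgLib.Blocks.charDegree_cast,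
    ← CfsgLib.Blocks.charDegree_cast] at hy
  have hy' : 1 + (Cfsg.charDegree (z2 : X → ℂ) : ℤ) + ε * Cfsg.charDegree (z3 : X → ℂ)
      - Cfsg.charDegree (z4 : X → ℂ) = 0 := by exact_mod_cast hy
  have hb := alpha_bounds hε (Nat.pos_of_ne_zero (CfsgLib.Blocks.charDegree_ne_zero z2))
    (Nat.pos_of_ne_zero (CfsgLib.Blocks.charDegree_ne_zero z3))
    (Nat.pos_of_ne_zero (CfsgLib.Blocks.charDegree_ne_zero z4)) hd2 hd3 hd4 hy'
  refine ⟨_, hb.1, hb.2, ?_⟩
  rw [key]
  push_cast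
  ring

/-- The generators of a dihedral group. -/
theorem closure_gens (n : ℕ) :
    closure ({r 1, sr 0} : Set (DihedralGroup n)) = ⊤ := by
  rw [eq_top_iff]
  intro g _
  have hr : ∀ i : ZMod n, r i ∈ closure ({r 1, sr 0} : Set (DihedralGroup n)) := fun i => by
    rw [← ZMod.intCast_zmod_cast i, ← DihedralGroup.r_one_zpow]
    exact zpow_mem (subset_closure (by simp)) _
  cases g with
  | r i => exact hr i
  | sr i =>
    rw [show sr i = sr 0 * r i by rw [DihedralGroup.sr_mul_r, zero_add]]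
    exact mul_mem (subset_closure (by simp)) (hr i)

/-- The order formula with bounds, dihedral case of order at least 8. -/
theorem exists_factor_dihedral [Finite X] (P : Sylow 2 X) {k : ℕ}
    (eS : (P : Subgroup X) ≃* DihedralGroup (2 ^ (k + 2)))
    (hone : ∀ a b : X, orderOf a = 2 → orderOf b = 2 → IsConj a b) {σ τ : X}
    (hσ : σ ∈ (P : Subgroup X)) (hτ : τ ∈ (P : Subgroup X)) (hσo : orderOf σ = 2 ^ (k + 2))
    (hτo : orderOf τ = 2) (hrel : τ * σ * τ⁻¹ = σ⁻¹) (hgen : closure ({σ, τ} : Set X) = P) :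
    ∃ F : ℚ, 3 / 8 ≤ F ∧ F ≤ 9 / 4 ∧ (Nat.card X : ℚ) = F *
      (2 * (Nat.card (centralizer ({σ ^ (2 ^ (k + 1))} : Set X)) : ℚ) ^ 3 *
        (1 / (Nat.card (centralizer ({σ ^ (2 ^ (k + 1)), τ} : Set X)) : ℚ)
          + 1 / (Nat.card (centralizer ({σ ^ (2 ^ (k + 1)), σ * τ} : Set X)) : ℚ)) ^ 2) := by
  classical
  letI := Fintype.ofFinite X
  obtain ⟨M, hM⟩ := CfsgLib.Blocks.exists_isPModular 2 Nat.prime_two
  haveI := CfsgLib.Blocks.IsPModular.isPrime hM
  have hprim := Complex.isPrimitiveRoot_exp (2 ^ (k + 2)) (by positivity)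
  obtain ⟨-, χ₁, χ₂, χ₃, χ', δ₁, δ₂, δ₃, hδ, -, -, -, h1, -, -, -, -, -, -, hB, hval, -⟩ :=
    Cfsg.Agent.S4481.result M hM (k + 3) (by omega) P ⟨eS⟩ σ hσ hσo _ hprim
  have hpk : 2 ^ (k + 2) = 2 * 2 ^ (k + 1) := by ring
  have hJ2 : orderOf (σ ^ (2 ^ (k + 1))) = 2 := by
    rw [orderOf_pow' _ (by positivity), hσo, hpk, Nat.gcd_eq_right ⟨2, mul_comm _ _⟩,
      Nat.mul_div_cancel _ (by positivity)]
  have hστ : orderOf (σ * τ) = 2 := by
    refine orderOf_eq_prime ?_ fun e => ?_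
    · rw [sq]
      calc σ * τ * (σ * τ) = σ * (τ * σ * τ⁻¹) * (τ * τ) := by group
        _ = 1 := by rw [hrel, mul_inv_cancel, one_mul, ← sq, ← hτo, pow_orderOf_eq_one]
    · have e' : σ = τ⁻¹ := eq_inv_of_mul_eq_one_left e
      have : orderOf σ = 2 := by rw [e', orderOf_inv, hτo]
      rw [hσo, hpk] at this
      have : 2 ≤ 2 ^ (k + 1) := by
        calc 2 = 2 ^ 1 := rfl
          _ ≤ 2 ^ (k + 1) := Nat.pow_le_pow_right (by norm_num) (by omega)
      omega
  have hmem : χ₁ ∈ Cfsg.principalBlock M X := by rw [hB]; exact Or.inr (Or.inl rfl)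
  have key := Cfsg.Agent.S4482.result M hM (k + 3) (by omega) P σ τ hσ hτ hσo hτo hrel hgen
    ⟨hone _ _ hJ2 hτo, hone _ _ hJ2 hστ⟩ χ₁ hmem h1 δ₁ hδ fun l h0 hl => (hval l h0 hl).1
  obtain ⟨hne, hord⟩ := key
  have hdvd := dvd_sub_of_constant χ₁ δ₁ fun l h0 hl => (hval l h0 (hσo ▸ hl)).1
  rw [hσo] at hdvd
  have h4 : (4 : ℤ) ∣ (Cfsg.charDegree (χ₁ : X → ℂ) : ℤ) - δ₁ :=
    dvd_trans ⟨2 ^ k, by push_cast; ring⟩ hdvd
  have hx0 := Nat.pos_of_ne_zero (CfsgLib.Blocks.charDegree_ne_zero χ₁)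
  simp only [show k + 3 - 2 = k + 1 by omega] at hord
  generalize Cfsg.charDegree (χ₁ : X → ℂ) = x at hne hord h4 hx0
  have hd : (0 : ℚ) < ((x : ℚ) - δ₁) ^ 2 :=
    sq_pos_iff.2 (sub_ne_zero.2 fun e => hne (by exact_mod_cast e))
  refine ⟨(x : ℚ) * ((x : ℚ) + δ₁) / ((x : ℚ) - δ₁) ^ 2, ?_, ?_, ?_⟩
  · rw [le_div_iff₀ hd]
    rcases hδ with rfl | rfl
    · have : (1 : ℚ) ≤ x := by exact_mod_cast hx0
      push_cast; nlinarith
    · have : (3 : ℚ) ≤ x := by
        have : 3 ≤ x := by omega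
        exact_mod_cast this
      push_cast; nlinarith
  · rw [div_le_iff₀ hd]
    rcases hδ with rfl | rfl
    · have : (5 : ℚ) ≤ x := by
        have : 5 ≤ x := by omega
        exact_mod_cast this
      push_cast; nlinarith
    · have : (1 : ℚ) ≤ x := by exact_mod_cast hx0
      push_cast; nlinarith
  · rw [div_mul_eq_mul_div, eq_div_iff hd.ne', hord]
    ring

theorem card_centralizer_preimage (M : Subgroup X) (s : Set M)
    (h : centralizer (Subtype.val '' s) ≤ M) :
    Nat.card (centralizer s) = Nat.card (centralizer (Subtype.val '' s)) := by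
  have e : centralizer s = (centralizer (Subtype.val '' s)).subgroupOf M := by
    ext g
    simp only [mem_subgroupOf, mem_centralizer_iff, Set.forall_mem_image]
    exact ⟨fun h m hm => congrArg Subtype.val (h m hm), fun h m hm => Subtype.ext (h hm)⟩
  rw [e, Nat.card_congr (subgroupOfEquivOfLe h).toEquiv]

/-- `|X : M| ≤ 5`. -/
theorem index_le_five [Finite X] (P : Sylow 2 X) {n : ℕ} (hn : 2 ≤ n)
    (eS : (P : Subgroup X) ≃* DihedralGroup n)
    (hone : ∀ a b : X, orderOf a = 2 → orderOf b = 2 → IsConj a b) (M : Subgroup X)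
    (hPM : (P : Subgroup X) ≤ M)
    (hM : ∀ a ∈ M, ∀ b ∈ M, orderOf a = 2 → orderOf b = 2 → ∃ g ∈ M, g * a * g⁻¹ = b)
    (hC : ∀ a ∈ M, orderOf a = 2 → centralizer ({a} : Set X) ≤ M) : M.index ≤ 5 := by
  classical
  haveI : Fact (Nat.Prime 2) := ⟨Nat.prime_two⟩
  haveI : NeZero n := ⟨by omega⟩
  have honeM : ∀ a b : M, orderOf a = 2 → orderOf b = 2 → IsConj a b := by
    intro a b ha hb
    obtain ⟨g, hg, e⟩ := hM a a.2 b b.2 (by rw [orderOf_coe, ha]) (by rw [orderOf_coe, hb])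
    exact isConj_iff.2 ⟨⟨g, hg⟩, Subtype.ext e⟩
  let Q : Sylow 2 M := P.subtype hPM
  have hQ : (Q : Subgroup M) = (P : Subgroup X).subgroupOf M := rfl
  let eQ : (Q : Subgroup M) ≃* DihedralGroup n :=
    (MulEquiv.subgroupCongr hQ).trans ((subgroupOfEquivOfLe hPM).trans eS)
  suffices h : ∃ F F' K : ℚ, 3 / 8 ≤ F' ∧ F ≤ 9 / 4 ∧ (Nat.card X : ℚ) = F * K ∧
      (Nat.card M : ℚ) = F' * K by
    obtain ⟨F, F', K, h1, h2, h3, h4⟩ := h
    by_contra hlt
    have hodd : ¬ 2 ∣ M.index := fun h2 =>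
      P.not_dvd_index (h2.trans (index_dvd_of_le hPM))
    have h7 : (7 : ℚ) ≤ M.index := by
      have : 7 ≤ M.index := by omega
      exact_mod_cast this
    have hMpos : (0 : ℚ) < Nat.card M := by exact_mod_cast Nat.card_pos
    have hK : (0 : ℚ) < K := by nlinarith
    have hcard : (Nat.card X : ℚ) = Nat.card M * M.index := by
      exact_mod_cast (M.card_mul_index).symm
    nlinarith [mul_le_mul_of_nonneg_right h2 hK.le, mul_le_mul_of_nonneg_right h1 hK.le]
  by_cases hn2 : n = 2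
  · subst hn2
    have hP4 := CfsgLib.DihedralLocal.isKleinFour_of_two eS rfl
    have hQ4 := CfsgLib.DihedralLocal.isKleinFour_of_two eQ rfl
    obtain ⟨J, hJQ, hJ2⟩ := CfsgLib.Small.exists_invol_mem (K := (Q : Subgroup M))
      (by rw [hQ4.card_four]; decide)
    obtain ⟨F, -, hF, e⟩ := exists_factor_four P hP4 hone (J := (J : X)) (hQ ▸ hJQ :)
      (by rw [orderOf_coe, hJ2])
    obtain ⟨F', hF', -, e'⟩ := exists_factor_four Q hQ4 honeM hJQ hJ2
    refine ⟨F, F', _, hF', hF, e, ?_⟩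
    have hc1 : Nat.card (centralizer ({J} : Set M)) = Nat.card (centralizer ({(J : X)} : Set X)) := by
      have := card_centralizer_preimage M ({J} : Set M)
        (by rw [Set.image_singleton]; exact hC _ J.2 (by rw [orderOf_coe, hJ2]))
      rwa [Set.image_singleton] at this
    have hc2 : Nat.card (centralizer ((Q : Subgroup M) : Set M))
        = Nat.card (centralizer ((P : Subgroup X) : Set X)) := by
      have himg : Subtype.val '' ((Q : Subgroup M) : Set M) = ((P : Subgroup X) : Set X) := by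
        ext x
        exact ⟨fun ⟨y, hy, e⟩ => e ▸ hy, fun hx => ⟨⟨x, hPM hx⟩, hx, rfl⟩⟩
      have hle : centralizer ((P : Subgroup X) : Set X) ≤ M := fun g hg =>
        hC _ J.2 (by rw [orderOf_coe, hJ2]) (mem_centralizer_singleton_iff.2
          (mem_centralizer_iff.1 hg _ hJQ).symm)
      have := card_centralizer_preimage M ((Q : Subgroup M) : Set M) (by rw [himg]; exact hle)
      rwa [himg] at this
    rw [e', hc1, hc2]
  · obtain ⟨j, hj⟩ := CfsgLib.DihedralLocal.exists_pow_two eS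
    obtain ⟨k, rfl⟩ : ∃ k, j = k + 2 := by
      refine ⟨j - 2, ?_⟩
      rcases j with _ | _ | j
      · rw [hj] at hn; norm_num at hn
      · exact absurd hj (by simpa using hn2)
      · omega
    subst hj
    have h4 : 2 ≤ 2 ^ (k + 1) := by
      calc 2 = 2 ^ 1 := rfl
        _ ≤ 2 ^ (k + 1) := Nat.pow_le_pow_right (by norm_num) (by omega)
    set σ : M := ((eQ.symm (r 1) : (Q : Subgroup M)) : M)
    set τ : M := ((eQ.symm (sr 0) : (Q : Subgroup M)) : M)
    have hσQ : σ ∈ (Q : Subgroup M) := (eQ.symm (r 1)).2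
    have hτQ : τ ∈ (Q : Subgroup M) := (eQ.symm (sr 0)).2
    have hσo : orderOf σ = 2 ^ (k + 2) := by
      rw [orderOf_coe, MulEquiv.orderOf_eq, DihedralGroup.orderOf_r_one]
    have hτo : orderOf τ = 2 := by
      rw [orderOf_coe, MulEquiv.orderOf_eq, DihedralGroup.orderOf_sr]
    have hrel : τ * σ * τ⁻¹ = σ⁻¹ := by
      have h : (sr 0 : DihedralGroup (2 ^ (k + 2))) * r 1 * (sr 0)⁻¹ = (r 1)⁻¹ := by simp
      have := congrArg (fun g => ((eQ.symm g : (Q : Subgroup M)) : M)) h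
      simpa only [map_mul, map_inv, Subgroup.coe_mul, InvMemClass.coe_inv] using this
    have hgen : closure ({σ, τ} : Set M) = Q := by
      have h1 := congrArg (fun T => Subgroup.map (Q : Subgroup M).subtype
        (Subgroup.map eQ.symm.toMonoidHom T)) (closure_gens (2 ^ (k + 2)))
      simp only [MonoidHom.map_closure, Set.image_insert_eq, Set.image_singleton] at h1
      rw [Subgroup.map_top_of_surjective _ eQ.symm.surjective, ← MonoidHom.range_eq_map,
        range_subtype] at h1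
      exact h1
    obtain ⟨F', hF', -, e'⟩ := exists_factor_dihedral Q eQ honeM hσQ hτQ hσo hτo hrel hgen
    have hgenX : closure ({(σ : X), (τ : X)} : Set X) = P := by
      have h := congrArg (Subgroup.map M.subtype) hgen
      rw [MonoidHom.map_closure, hQ, map_subgroupOf_eq_of_le hPM] at h
      simpa [Set.image_insert_eq, Set.image_singleton] using h
    obtain ⟨F, -, hF, e⟩ := exists_factor_dihedral P eS hone (σ := (σ : X)) (τ := (τ : X)) hσQ hτQ
      (by rw [orderOf_coe, hσo]) (by rw [orderOf_coe, hτo])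
      (by exact_mod_cast congrArg Subtype.val hrel) hgenX
    refine ⟨F, F', _, hF', hF, e, ?_⟩
    have hJ : orderOf (σ ^ (2 ^ (k + 1))) = 2 := by
      rw [orderOf_pow' _ (by positivity), hσo, show 2 ^ (k + 2) = 2 * 2 ^ (k + 1) by ring,
        Nat.gcd_eq_right ⟨2, mul_comm _ _⟩, Nat.mul_div_cancel _ (by positivity)]
    have hle : centralizer ({(σ : X) ^ (2 ^ (k + 1))} : Set X) ≤ M := by
      have := hC _ (σ ^ (2 ^ (k + 1))).2 (by rw [orderOf_coe, hJ])
      simpa using this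
    have hc : ∀ g : M, Nat.card (centralizer ({σ ^ (2 ^ (k + 1)), g} : Set M))
        = Nat.card (centralizer ({(σ : X) ^ (2 ^ (k + 1)), (g : X)} : Set X)) := by
      intro g
      have himg : Subtype.val '' ({σ ^ (2 ^ (k + 1)), g} : Set M)
          = ({(σ : X) ^ (2 ^ (k + 1)), (g : X)} : Set X) := by
        simp [Set.image_insert_eq, Set.image_singleton]
      have := card_centralizer_preimage M ({σ ^ (2 ^ (k + 1)), g} : Set M) (by
        rw [himg]
        exact (centralizer_le (Set.singleton_subset_iff.2 (Set.mem_insert _ _))).trans hle)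
      rwa [himg] at this
    have hc0 : Nat.card (centralizer ({σ ^ (2 ^ (k + 1))} : Set M))
        = Nat.card (centralizer ({(σ : X) ^ (2 ^ (k + 1))} : Set X)) := by
      have := card_centralizer_preimage M ({σ ^ (2 ^ (k + 1))} : Set M)
        (by simpa [Set.image_singleton] using hle)
      simpa [Set.image_singleton] using this
    rw [e', hc0, hc τ, hc (σ * τ), Subgroup.coe_mul]

end CfsgLib.DGroupCent
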