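import Cfsg.Agent.DGroupCent.Index
import Cfsg.Agent.TwoGroups.IsolatedZStar
import Mathlib.GroupTheory.Perm.ViaEmbedding

/-!
# Odd elements commuting with an involution in the presence of a one-class overgroup
-/

set_option autoImplicit false
set_option linter.style.haveILetI false

namespace CfsgLib.DGroupCent

open Subgroup Equiv
open DihedralGroup (r sr)

/-- In `Perm (Fin 5)` an element commuting with an even involution has order dividing `4`. -/
theorem perm_five : ∀ t : Perm (Fin 5), t * t = 1 → Perm.sign t = 1 → t ≠ 1 →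
    ∀ a : Perm (Fin 5), a * t = t * a → a ^ 4 = 1 := by
  decide +kernel

variable {X : Type*} [Group X] [Finite X]

/-- With a proper one-class subgroup containing a Sylow subgroup and involution centralizers,
no nontrivial element of odd order commutes with an involution. -/
theorem odd_commuting_eq_one (hO : Cfsg.oddCore X = ⊥) (P : Sylow 2 X) {n : ℕ} (hn : 2 ≤ n)
    (eS : (P : Subgroup X) ≃* DihedralGroup n)
    (hone : ∀ a b : X, orderOf a = 2 → orderOf b = 2 → IsConj a b) (M : Subgroup X)
    (hPM : (P : Subgroup X) ≤ M) (hMtop : M ≠ ⊤)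
    (hM : ∀ a ∈ M, ∀ b ∈ M, orderOf a = 2 → orderOf b = 2 → ∃ g ∈ M, g * a * g⁻¹ = b)
    (hC : ∀ a ∈ M, orderOf a = 2 → centralizer ({a} : Set X) ≤ M)
    {t a : X} (ht : orderOf t = 2) (ha : Odd (orderOf a)) (hat : a * t = t * a) : a = 1 := by
  classical
  haveI : Fact (Nat.Prime 2) := ⟨Nat.prime_two⟩
  haveI : NeZero n := ⟨by omega⟩
  -- two commuting involutions with involution product
  have hPcard : Nat.card (P : Subgroup X) = 2 * n := by
    rw [Nat.card_congr eS.toEquiv, DihedralGroup.nat_card]
  haveI : Nontrivial (P : Subgroup X) := Finite.one_lt_card_iff_nontrivial.1 (by omega)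
  haveI := P.isPGroup'.center_nontrivial
  obtain ⟨z, hz⟩ := exists_prime_orderOf_dvd_card' (G := center (P : Subgroup X)) 2 (by
    obtain ⟨k, hk, hk'⟩ := (P.isPGroup'.to_subgroup
      (center (P : Subgroup X))).nontrivial_iff_card.1 inferInstance
    exact hk' ▸ dvd_pow_self 2 hk.ne')
  have hz2 : orderOf ((z : (P : Subgroup X)) : X) = 2 := by rw [orderOf_coe, orderOf_coe, hz]
  obtain ⟨s, hs, hsz⟩ : ∃ s : (P : Subgroup X), orderOf s = 2 ∧ s ≠ (z : (P : Subgroup X)) := by
    by_contra h
    push Not at h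
    have h0 := h (eS.symm (sr 0)) (by rw [MulEquiv.orderOf_eq, DihedralGroup.orderOf_sr])
    have h1 := h (eS.symm (sr 1)) (by rw [MulEquiv.orderOf_eq, DihedralGroup.orderOf_sr])
    have : (sr 0 : DihedralGroup n) = sr 1 := eS.symm.injective (h0.trans h1.symm)
    have h01 : (0 : ZMod n) = 1 := DihedralGroup.sr.inj this
    haveI : Fact (1 < n) := ⟨hn⟩
    exact zero_ne_one h01
  have hcomm : (s : X) * (z : (P : Subgroup X)) = (z : (P : Subgroup X)) * (s : X) :=
    congrArg Subtype.val (mem_center_iff.1 z.2 s)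
  have hs2 : orderOf (s : X) = 2 := by rw [orderOf_coe, hs]
  have hsz' : (s : X) ≠ (z : (P : Subgroup X)) := fun e => hsz (Subtype.ext e)
  have hsq : ∀ {v : X}, orderOf v = 2 → v * v = 1 := fun {v} hv => by
    rw [← sq, ← hv, pow_orderOf_eq_one]
  have hprod : orderOf ((s : X) * (z : (P : Subgroup X))) = 2 := by
    refine orderOf_eq_prime ?_ fun e => hsz' ?_
    · rw [sq]
      calc (s : X) * (z : (P : Subgroup X)) * ((s : X) * (z : (P : Subgroup X)))
          = (s : X) * ((z : (P : Subgroup X)) * (s : X)) * (z : (P : Subgroup X)) := by group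
        _ = ((s : X) * s) * (((z : (P : Subgroup X)) : X) * (z : (P : Subgroup X))) := by
            rw [← hcomm]; group
        _ = 1 := by rw [hsq hs2, hsq hz2, one_mul]
    · rw [eq_inv_of_mul_eq_one_left e, inv_eq_of_mul_eq_one_right (hsq hz2)]
  -- the coset action is faithful
  set φ := MulAction.toPermHom X (X ⧸ M) with hφ
  have hinj : Function.Injective φ := by
    rw [← MonoidHom.ker_eq_bot_iff, hφ, ← normalCore_eq_ker]
    rcases Nat.even_or_odd (Nat.card M.normalCore) with he | ho
    · exfalso
      obtain ⟨u, hu, huo⟩ := CfsgLib.Small.exists_invol_mem he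
      refine hMtop (eq_top_iff.2 fun g _ => ?_)
      have huM : u ∈ M := normalCore_le M hu
      have hgu : g * u * g⁻¹ ∈ M := normalCore_le M ((normalCore_normal M).conj_mem u hu g)
      obtain ⟨m, hm, hmu⟩ := hM u huM _ hgu huo (by
        have := orderOf_injective (MulAut.conj g).toMonoidHom (MulAut.conj g).injective u
        simpa [huo] using this)
      have : m⁻¹ * g ∈ centralizer ({u} : Set X) := mem_centralizer_singleton_iff.2 (by
        calc m⁻¹ * g * u = m⁻¹ * (g * u * g⁻¹) * g := by group
          _ = m⁻¹ * (m * u * m⁻¹) * g := by rw [hmu]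
          _ = u * (m⁻¹ * g) := by group)
      have := mul_mem hm (hC u huM huo this)
      rwa [mul_inv_cancel_left] at this
    · exact le_bot_iff.1 (hO ▸ CfsgLib.PLocal.le_pPrimeCore (Nat.coprime_two_right.2 ho))
  haveI := Fintype.ofFinite (X ⧸ M)
  have h5 : Fintype.card (X ⧸ M) ≤ Fintype.card (Fin 5) := by
    rw [← Nat.card_eq_fintype_card, ← index_eq_card, Fintype.card_fin]
    exact index_le_five P hn eS hone M hPM hM hC
  obtain ⟨ι⟩ := Function.Embedding.nonempty_of_card_le h5
  set ψ : X →* Perm (Fin 5) := (Perm.viaEmbeddingHom ι).comp φ with hψ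
  have hψi : Function.Injective ψ := (Perm.viaEmbeddingHom_injective ι).comp hinj
  have hsign : ∀ {v : X}, orderOf v = 2 → Perm.sign (ψ v) = 1 := by
    intro v hv
    have hconst : ∀ {w : X}, orderOf w = 2 → Perm.sign (ψ w) = Perm.sign (ψ v) := fun {w} hw => by
      obtain ⟨g, rfl⟩ := isConj_iff.1 (hone v w hv hw)
      rw [map_mul, map_mul, map_inv, map_mul, map_mul, map_inv, mul_comm (Perm.sign _) _,
        mul_inv_cancel_right]
    have h := hconst hprod
    rw [map_mul, map_mul, hconst hs2, hconst hz2] at h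
    exact mul_eq_left.1 h
  have h4 := perm_five (ψ t) (by rw [← map_mul, hsq ht, map_one]) (hsign ht)
    (fun e => by
      have : t = 1 := hψi (e.trans (map_one ψ).symm)
      rw [this, orderOf_one] at ht
      omega) (ψ a) (by rw [← map_mul, ← map_mul, hat])
  rw [← map_pow, ← map_one ψ] at h4
  refine orderOf_eq_one_iff.1 (Nat.eq_one_of_dvd_coprimes ?_ (orderOf_dvd_of_pow_eq_one (hψi h4))
    dvd_rfl)
  exact (Nat.coprime_two_left.2 ha).pow_left 2

end CfsgLib.DGroupCent
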