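import Cfsg.Agent.DGroupCent.Trans
import Cfsg.Agent.DGroupCent.SmallIndex

/-!
# Trivial intersection of involution centralizers

In the minimal situation with one class of involutions, an element of odd order different from `1`
commutes with at most one involution.
-/

set_option autoImplicit false
set_option linter.style.haveILetI false

open scoped commutatorElement

namespace CfsgLib.DGroupCent

open Subgroup

variable {G : Type*} [Group G]

theorem mem_of_coprime_pow {K : Subgroup G} {x : G} {u w : ℕ} (h : u.Coprime w) (hu : x ^ u ∈ K)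
    (hw : x ^ w ∈ K) : x ∈ K := by
  have h1 : (x ^ u) ^ Nat.gcdA u w * (x ^ w) ^ Nat.gcdB u w = x := by
    rw [← zpow_natCast x u, ← zpow_natCast x w, ← zpow_mul, ← zpow_mul, ← zpow_add,
      ← Nat.gcd_eq_gcd_ab, h.gcd_eq_one, Nat.cast_one, zpow_one]
  exact h1 ▸ mul_mem (zpow_mem hu _) (zpow_mem hw _)

/-- A subgroup containing the elements of prime power order in a subgroup contains it. -/
theorem le_of_forall_prime_pow [Finite G] {H K : Subgroup G}
    (h : ∀ r : ℕ, r.Prime → ∀ x ∈ H, ∀ n, x ^ r ^ n = 1 → x ∈ K) : H ≤ K := by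
  suffices hs : ∀ m, ∀ x ∈ H, orderOf x = m → x ∈ K from fun x hx => hs _ x hx rfl
  intro m
  induction m using Nat.strong_induction_on with
  | _ m ih =>
    intro x hx hm
    by_cases h1 : m = 1
    · rw [orderOf_eq_one_iff.1 (hm.trans h1)]; exact one_mem K
    have hm0 : m ≠ 0 := hm ▸ (orderOf_pos x).ne'
    obtain ⟨r, hr, hrm⟩ := Nat.exists_prime_and_dvd h1
    set u := r ^ m.factorization r
    set w := m / u
    have huw : u * w = m := Nat.ordProj_mul_ordCompl_eq_self m r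
    by_cases hw1 : w = 1
    · refine h r hr x hx (m.factorization r) ?_
      rw [hw1, mul_one] at huw
      rw [show r ^ m.factorization r = orderOf x from huw.trans hm.symm, pow_orderOf_eq_one]
    have hu1 : 1 < u := Nat.one_lt_pow (hr.factorization_pos_of_dvd hm0 hrm).ne' hr.one_lt
    have hw0 : 0 < w := Nat.pos_of_ne_zero fun e => hm0 (by rw [← huw, e, mul_zero])
    have hcop : u.Coprime w := (Nat.coprime_ordCompl hr hm0).pow_left _
    refine mem_of_coprime_pow hcop (ih w (by nlinarith) _ (pow_mem hx u) ?_)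
      (ih u (by nlinarith [show 1 < w by omega]) _ (pow_mem hx w) ?_)
    · rw [orderOf_pow' x (by omega), hm, ← huw, Nat.gcd_eq_right (dvd_mul_right u w),
        Nat.mul_div_cancel_left w (by omega)]
    · rw [orderOf_pow' x (by omega), hm, ← huw, Nat.gcd_eq_right (dvd_mul_left w u),
        Nat.mul_div_cancel u hw0]

/-- A nilpotent subgroup has a subgroup consisting of its `r`-elements. -/
theorem exists_component [Finite G] {N : Subgroup G} (hN : Group.IsNilpotent N) (r : ℕ)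
    [hr : Fact r.Prime] :
    ∃ E : Subgroup G, E ≤ N ∧ IsPGroup r E ∧ (∀ x, x ∈ E ↔ x ∈ N ∧ ∃ n, x ^ r ^ n = 1) ∧
      ∀ s : G, (∀ x ∈ N, s * x * s⁻¹ ∈ N) → ∀ x ∈ E, s * x * s⁻¹ ∈ E := by
  obtain ⟨P⟩ : Nonempty (Sylow r N) := inferInstance
  haveI := hN
  have hPn : (P : Subgroup N).Normal :=
    ((Group.isNilpotent_of_finite_tfae (G := N)).out 0 3 rfl rfl).mp hN r hr P
  have hmem : ∀ x, x ∈ (P : Subgroup N).map N.subtype ↔ x ∈ N ∧ ∃ n, x ^ r ^ n = 1 := by
    intro x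
    constructor
    · rintro ⟨y, hy, rfl⟩
      obtain ⟨n, hn⟩ := P.isPGroup' ⟨y, hy⟩
      exact ⟨y.2, n, congrArg (fun z : (P : Subgroup N) => ((z : N) : G)) hn⟩
    · rintro ⟨hx, n, hn⟩
      obtain ⟨k, -, hk⟩ := (Nat.dvd_prime_pow hr.out).1
        (orderOf_dvd_of_pow_eq_one (Subtype.ext hn : (⟨x, hx⟩ : N) ^ r ^ n = 1))
      obtain ⟨Q, hQ⟩ := (isPGroup_zpowers hk).exists_le_sylow
      haveI := Sylow.unique_of_normal P hPn
      exact ⟨⟨x, hx⟩, Subsingleton.elim Q P ▸ hQ (mem_zpowers _), rfl⟩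
  refine ⟨_, map_subtype_le _, P.isPGroup'.map _, hmem, fun s hs x hx => ?_⟩
  obtain ⟨h1, n, hn⟩ := (hmem x).1 hx
  exact (hmem _).2 ⟨hs x h1, n, by rw [conj_pow, hn, mul_one, mul_inv_cancel]⟩

variable [Finite G]

/-- The elements of odd order commuting with an element of odd order of an involution
centralizer form a subgroup. -/
theorem Ctx.exists_oddPart (C : Ctx G) {i e : G} (hi : orderOf i = 2) (he : e ≠ 1)
    (heo : Odd (orderOf e)) (hei : e * i = i * e) :
    ∃ Y : Subgroup G, Odd (Nat.card Y) ∧ (∀ x, x ∈ Y ↔ Odd (orderOf x) ∧ x * e = e * x) ∧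
      ∀ x, x * e = e * x → ∃ k : ℕ, x ^ 2 ^ k ∈ Y := by
  haveI : Fact (Nat.Prime 2) := ⟨Nat.prime_two⟩
  obtain ⟨A, hA⟩ := C.all i hi
  have heA : e ∈ A := hA.mem_of_odd (mem_centralizer_singleton_iff.2 hei) heo
  set H := centralizer ({e} : Set G)
  have hiH : i ∈ H := mem_centralizer_singleton_iff.2 hei.symm
  have hHA : ∀ g ∈ H, g * i = i * g → g ∈ A := by
    intro g hg hgi
    by_contra hgA
    have h := hA.inverts (mem_centralizer_singleton_iff.2 hgi) hgA heA
    rw [mem_centralizer_singleton_iff.1 hg, mul_inv_cancel_right] at h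
    have h2 : orderOf e ∣ 2 := orderOf_dvd_of_pow_eq_one (by rw [sq, mul_eq_one_iff_eq_inv]; exact h)
    exact he (orderOf_eq_one_iff.1 (Nat.eq_one_of_dvd_coprimes (Nat.coprime_two_left.2 heo) h2
      dvd_rfl))
  obtain ⟨S, hS⟩ := (isPGroup_zpowers (p := 2) (n := 1)
    (show orderOf (⟨i, hiH⟩ : H) = 2 ^ 1 by rw [orderOf_mk, hi, pow_one])).exists_le_sylow
  have hiS : (⟨i, hiH⟩ : H) ∈ (S : Subgroup H) := hS (mem_zpowers _)
  haveI : Nontrivial (S : Subgroup H) := ⟨⟨⟨_, hiS⟩, 1, fun h =>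
    ne_one_of_orderOf hi (congrArg Subtype.val (congrArg Subtype.val h))⟩⟩
  obtain ⟨z, hz⟩ : ∃ z : center (S : Subgroup H), orderOf z = 2 := by
    haveI := S.isPGroup'.center_nontrivial
    obtain ⟨k, hk, hk'⟩ := (S.isPGroup'.to_subgroup (center (S : Subgroup H))).nontrivial_iff_card.1
      inferInstance
    exact exists_prime_orderOf_dvd_card' 2 (hk' ▸ dvd_pow_self 2 hk.ne')
  have hzi : (((z : (S : Subgroup H)) : H) : G) = i := by
    have h1 : orderOf (((z : (S : Subgroup H)) : H) : G) = 2 := by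
      rw [orderOf_coe, orderOf_coe, orderOf_coe, hz]
    have h2 := congrArg (fun x : (S : Subgroup H) => ((x : H) : G)) (mem_center_iff.1 z.2 ⟨_, hiS⟩)
    exact (hA.uniq _ (hHA _ (z : (S : Subgroup H)).1.2 h2.symm)
      (mul_self_of_orderOf h1)).resolve_left (ne_one_of_orderOf h1)
  have hSA : ∀ x : (S : Subgroup H), ((x : H) : G) ∈ A := fun x => by
    have h := congrArg (fun x : (S : Subgroup H) => ((x : H) : G)) (mem_center_iff.1 z.2 x)
    exact hHA _ x.1.2 (by simpa [hzi] using h)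
  haveI : IsCyclic (S : Subgroup H) := CfsgLib.TwoGroupsQ.isCyclic_of_comm S.isPGroup'
    (CfsgLib.TwoGroupsQ.hasUniqueOrderP_two fun a b ha ha1 hb hb1 => by
      have key : ∀ a : (S : Subgroup H), a ^ 2 = 1 → a ≠ 1 → ((a : H) : G) = i := fun a ha ha1 =>
        (hA.uniq _ (hSA a) (by
          have h := congrArg (fun x : (S : Subgroup H) => ((x : H) : G)) ha
          simpa [sq] using h)).resolve_left fun e => ha1 (Subtype.ext (Subtype.ext e))
      exact Subtype.ext (Subtype.ext ((key a ha ha1).trans (key b hb hb1).symm)))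
    fun a b => Subtype.ext (Subtype.ext (hA.comm _ (hSA a) _ (hSA b)))
  have h2 : (Nat.card H).minFac = 2 := (Nat.minFac_eq_two_iff _).2 (by
    have h := orderOf_dvd_natCard (⟨i, hiH⟩ : H)
    rwa [orderOf_mk, hi] at h)
  have hP := IsCyclic.normalizer_le_centralizer h2 (inferInstance : IsCyclic (S : Subgroup H))
  set M := (MonoidHom.transferSylow S hP).ker with hM
  have hMcomp := MonoidHom.ker_transferSylow_isComplement' S hP
  have hModd : Odd (Nat.card M) := Nat.not_even_iff_odd.1 fun he =>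
    MonoidHom.not_dvd_card_ker_transferSylow S hP he.two_dvd
  obtain ⟨k, hk⟩ : ∃ k, M.index = 2 ^ k := by
    obtain ⟨k, hk⟩ := S.isPGroup'.exists_card_eq
    exact ⟨k, hMcomp.symm.index_eq_card.trans hk⟩
  have hmemM : ∀ x : H, Odd (orderOf x) → x ∈ M := fun x hx => by
    rw [← QuotientGroup.eq_one_iff (N := M), ← orderOf_eq_one_iff]
    exact Nat.eq_one_of_dvd_coprimes ((Nat.coprime_two_right.2 hx).pow_right k)
      (orderOf_map_dvd (QuotientGroup.mk' M) x)
      (hk ▸ M.index_eq_card ▸ orderOf_dvd_natCard (x : H ⧸ M))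
  refine ⟨M.map H.subtype, by rw [card_map_of_injective H.subtype_injective]; exact hModd,
    fun x => ⟨?_, fun ⟨hxo, hxe⟩ => ?_⟩, fun x hxe => ⟨k, ?_⟩⟩
  · rintro ⟨y, hy, rfl⟩
    exact ⟨(orderOf_coe y).symm ▸ odd_orderOf hModd hy, mem_centralizer_singleton_iff.1 y.2⟩
  · exact ⟨⟨x, mem_centralizer_singleton_iff.2 hxe⟩, hmemM _ (by rwa [orderOf_mk]), rfl⟩
  · exact ⟨⟨x, mem_centralizer_singleton_iff.2 hxe⟩ ^ 2 ^ k, hk ▸ M.pow_index_mem _, rfl⟩

omit [Finite G] in
/-- A conjugation fixing or inverting `e` normalizes its odd part. -/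
theorem conj_mem_oddPart {e s : G} {Y : Subgroup G}
    (hY : ∀ x, x ∈ Y ↔ Odd (orderOf x) ∧ x * e = e * x)
    (hs : s * e * s⁻¹ = e ∨ s * e * s⁻¹ = e⁻¹) : ∀ y ∈ Y, s * y * s⁻¹ ∈ Y := by
  intro y hy
  obtain ⟨h1, h2⟩ := (hY y).1 hy
  refine (hY _).2 ⟨by rwa [orderOf_conj], ?_⟩
  have h3 : s * y * s⁻¹ * (s * e * s⁻¹) = (s * e * s⁻¹) * (s * y * s⁻¹) := by
    rw [show s * y * s⁻¹ * (s * e * s⁻¹) = s * (y * e) * s⁻¹ by group, h2]; group
  rcases hs with h | h <;> rw [h] at h3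
  · exact h3
  · simpa using (show Commute (s * y * s⁻¹) e⁻¹ from h3).inv_right.eq

omit [Finite G] in
theorem eq_one_of_inverts_comm {v a : G} (ha : Odd (orderOf a)) (hinv : v * a * v⁻¹ = a⁻¹)
    (hc : a * v = v * a) : a = 1 := by
  rw [← hc, mul_inv_cancel_right] at hinv
  exact orderOf_eq_one_iff.1 (Nat.eq_one_of_dvd_coprimes (Nat.coprime_two_left.2 ha)
    (orderOf_dvd_of_pow_eq_one (by rw [sq, mul_eq_one_iff_eq_inv]; exact hinv)) dvd_rfl)

omit [Finite G] in
theorem conj_fix_or_inv {A : Subgroup G} {v s e : G}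
    (hA : GD (centralizer ({v} : Set G)) A v) (hs : s * v = v * s) (he : e ∈ A) :
    s * e * s⁻¹ = e ∨ s * e * s⁻¹ = e⁻¹ := by
  by_cases hsA : s ∈ A
  · exact Or.inl (mul_inv_eq_iff_eq_mul.2 (hA.comm s hsA e he))
  · exact Or.inr (hA.inverts (mem_centralizer_singleton_iff.2 hs) hsA he)

/-- An element of odd order commuting with two involutions yields a linked subgroup. -/
theorem Ctx.exists_linked (C : Ctx G) {t t' a : G} (ht : orderOf t = 2) (ht' : orderOf t' = 2)
    (hne : t ≠ t') (ha : Odd (orderOf a)) (ha1 : a ≠ 1) (hat : a * t = t * a)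
    (hat' : a * t' = t' * a) :
    ∃ p : ℕ, p.Prime ∧ p ≠ 2 ∧ ∃ i j Q, Four (G := G) i j ∧ Linked i j p Q := by
  haveI : Fact (Nat.Prime 2) := ⟨Nat.prime_two⟩
  obtain ⟨r, hr, hra⟩ := Nat.exists_prime_and_dvd fun h => ha1 (orderOf_eq_one_iff.1 h)
  haveI := Fact.mk hr
  have hr2 : r ≠ 2 := by rintro rfl; exact ha.not_two_dvd_nat hra
  set b := a ^ (orderOf a / r) with hb
  have hbo : orderOf b = r := orderOf_pow_orderOf_div (orderOf_pos a).ne' hra
  have hb1 : b ≠ 1 := fun h => by rw [h, orderOf_one] at hbo; exact hr.ne_one hbo.symm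
  have hbt : b * t = t * b := ((show Commute a t from hat).pow_left _).eq
  have hbt' : b * t' = t' * b := ((show Commute a t' from hat').pow_left _).eq
  have hbodd : Odd (orderOf b) := hbo ▸ hr.odd_of_ne_two hr2
  obtain ⟨A, hA⟩ := C.all t ht
  have hbA : b ∈ A := hA.mem_of_odd (mem_centralizer_singleton_iff.2 hbt) hbodd
  obtain ⟨τ, hτ, hτA⟩ := hA.out
  obtain ⟨Y, hYodd, hY, hYpow⟩ := C.exists_oddPart ht hb1 hbodd hbt
  have hτt : τ * t = t * τ := mem_centralizer_singleton_iff.1 hτ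
  have hV : Four t τ := ⟨ht, hA.orderOf_out hτ hτA, fun e => hτA (e ▸ hA.tA), hτt.symm⟩
  have hfpf : Fpf t τ Y := hV.fpf C.gdall hYodd
    (conj_mem_oddPart hY (conj_fix_or_inv hA rfl hbA))
    (conj_mem_oddPart hY (conj_fix_or_inv hA hτt hbA))
  -- `Y` is not centralized by `t`
  have hYt : ¬ Y ≤ centralizer ({t} : Set G) := by
    intro hle
    set x := t * t'
    have hinv : t * x * t⁻¹ = x⁻¹ := by
      rw [mul_inv_rev, inv_eq_of_mul_eq_one_right (mul_self_of_orderOf ht'),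
        inv_eq_of_mul_eq_one_right (mul_self_of_orderOf ht), show x = t * t' from rfl,
        show t * (t * t') * t = (t * t) * t' * t by group, mul_self_of_orderOf ht, one_mul]
    have hxb : x * b = b * x := ((show Commute t b from hbt.symm).mul_left
      (show Commute t' b from hbt'.symm)).eq
    obtain ⟨k, hk⟩ := hYpow x hxb
    have hk1 : x ^ 2 ^ k = 1 := eq_one_of_inverts_comm (v := t) ((hY _).1 hk).1
      (by rw [← conj_pow, hinv, inv_pow]) (mem_centralizer_singleton_iff.1 (hle hk))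
    obtain ⟨m, -, hm⟩ := (Nat.dvd_prime_pow Nat.prime_two).1 (orderOf_dvd_of_pow_eq_one hk1)
    rcases m with _ | m
    · rw [pow_zero, orderOf_eq_one_iff] at hm
      exact hne (by rw [eq_inv_of_mul_eq_one_left hm,
        inv_eq_of_mul_eq_one_right (mul_self_of_orderOf ht')])
    set z := x ^ 2 ^ m
    have hz : orderOf z = 2 := by
      rw [orderOf_pow' x (by positivity), hm, Nat.gcd_eq_right (pow_dvd_pow 2 (Nat.le_succ m)),
        Nat.pow_div (Nat.le_succ m) two_pos]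
      simp
    have hzt : z * t = t * z := by
      refine (mul_inv_eq_iff_eq_mul.1 ?_).symm
      rw [← conj_pow, hinv, inv_pow, inv_eq_of_mul_eq_one_right (mul_self_of_orderOf hz)]
    have hzb : z * b = b * z := ((show Commute x b from hxb).pow_left _).eq
    have hzA : z ∈ A := by
      by_contra h
      exact hb1 (eq_one_of_inverts_comm hbodd
        (hA.inverts (mem_centralizer_singleton_iff.2 hzt) h hbA) hzb.symm)
    have hzt1 : z = t :=
      (hA.uniq z hzA (mul_self_of_orderOf hz)).resolve_left (ne_one_of_orderOf hz)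
    have hxt : x * t = t * x := by
      rw [← hzt1]; exact ((Commute.refl x).pow_right _).eq
    have ht'A : t' ∈ A := by
      have ht't : t' * t = t * t' := by
        have h2 : t * (t' * t) = t * (t * t') := by rw [← mul_assoc]; exact hxt
        exact mul_left_cancel h2
      by_contra h
      exact hb1 (eq_one_of_inverts_comm hbodd
        (hA.inverts (mem_centralizer_singleton_iff.2 ht't) h hbA) hbt')
    rcases hA.uniq t' ht'A (mul_self_of_orderOf ht') with e | e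
    · exact ne_one_of_orderOf ht' e
    · exact hne e.symm
  -- a fixed element at another involution
  obtain ⟨v, hv, hvA, c, hcY, hc1, hcv⟩ : ∃ v, Four t v ∧ v ∉ A ∧
      ∃ c ∈ Y, c ≠ 1 ∧ c * v = v * c := by
    by_contra hno
    push Not at hno
    refine hYt fun y hy => mem_centralizer_singleton_iff.2 (hfpf.comm_all (fun c hc e => ?_)
      (fun c hc e => ?_) y hy) <;> by_contra hc1
    · exact hno τ hV hτA c hc hc1 e
    · exact hno (t * τ) hV.third (fun h => hτA (by simpa using mul_mem (inv_mem hA.tA) h)) c hc hc1 e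
  have hvt : v * t = t * v := hv.comm.symm
  have hvinv : v * b * v⁻¹ = b⁻¹ := hA.inverts (mem_centralizer_singleton_iff.2 hvt) hvA hbA
  obtain ⟨hco, hcb⟩ := (hY c).1 hcY
  obtain ⟨Av, hAv⟩ := C.all v hv.hj
  have htAv : t ∉ Av := fun h => by
    rcases hAv.uniq t h (mul_self_of_orderOf ht) with e | e
    · exact ne_one_of_orderOf ht e
    · exact hv.ne e
  have hcAv : c ∈ Av := hAv.mem_of_odd (mem_centralizer_singleton_iff.2 hcv) hco
  obtain ⟨Y', hY'odd, hY', -⟩ := C.exists_oddPart hv.hj hc1 hco hcv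
  have hfpf' : Fpf t v Y' := hv.fpf C.gdall hY'odd
    (conj_mem_oddPart hY' (conj_fix_or_inv hAv hv.comm hcAv))
    (conj_mem_oddPart hY' (conj_fix_or_inv hAv rfl hcAv))
  obtain ⟨g, hg⟩ := isConj_iff.1 (C.one t v ht hv.hj)
  set b' := g * b * g⁻¹
  have hb'v : b' * v = v * b' := by
    show g * b * g⁻¹ * v = v * (g * b * g⁻¹)
    rw [← hg, show g * b * g⁻¹ * (g * t * g⁻¹) = g * (b * t) * g⁻¹ by group, hbt]; group
  have hb'o : orderOf b' = r := (orderOf_conj g b).trans hbo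
  have hb'odd : Odd (orderOf b') := hb'o ▸ hr.odd_of_ne_two hr2
  have hb'Av : b' ∈ Av := hAv.mem_of_odd (mem_centralizer_singleton_iff.2 hb'v) hb'odd
  have hb'1 : b' ≠ 1 := fun h => by rw [h, orderOf_one] at hb'o; exact hr.ne_one hb'o.symm
  have hpv : ∀ {x : G} {v' w : G}, v' * x * v'⁻¹ = x ∨ v' * x * v'⁻¹ = x⁻¹ →
      w * x * w⁻¹ = x ∨ w * x * w⁻¹ = x⁻¹ → orderOf x = r → PV v' w r (zpowers x) := by
    intro x v' w hv' hw hx
    refine ⟨isPGroup_zpowers (n := 1) (by rw [hx, pow_one]), ?_, ?_⟩ <;>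
      rintro _ ⟨n, rfl⟩ <;> simp only [← conj_zpow]
    · rcases hv' with e | e <;> rw [e]
      · exact zpow_mem (mem_zpowers x) n
      · exact zpow_mem (inv_mem (mem_zpowers x)) n
    · rcases hw with e | e <;> rw [e]
      · exact zpow_mem (mem_zpowers x) n
      · exact zpow_mem (inv_mem (mem_zpowers x)) n
  obtain ⟨R, -, hRp, -, hRi, hRj, hR⟩ := hfpf'.exists_sylow r
  have h1 := hpv (conj_fix_or_inv hA rfl hbA) (Or.inr hvinv) hbo
  have h2 := hpv (conj_fix_or_inv hAv hv.comm hb'Av) (conj_fix_or_inv hAv rfl hb'Av) hb'o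
  have hbR : b ∈ R := hR _ (zpowers_le.2 ((hY' b).2 ⟨hbodd, hcb.symm⟩)) h1.isP h1.hi h1.hj
    (mem_zpowers b)
  have hb'R : b' ∈ R := hR _ (zpowers_le.2 ((hY' b').2 ⟨hb'odd, hAv.comm _ hb'Av _ hcAv⟩))
    h2.isP h2.hi h2.hj (mem_zpowers b')
  obtain ⟨M, hM, hRM⟩ := exists_maxPV (⟨hRp, hRi, hRj⟩ : PV t v r R)
  refine ⟨r, hr, hr2, t, v, M, hv, hM, fun h => hb'1 ?_, fun h => hb1 ?_, fun h => hb1 ?_⟩
  · exact eq_one_of_inverts_comm hb'odd
      (hAv.inverts (mem_centralizer_singleton_iff.2 hv.comm) htAv hb'Av)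
      (mem_centralizer_singleton_iff.1 (h (hRM hb'R)))
  · exact eq_one_of_inverts_comm hbodd hvinv (mem_centralizer_singleton_iff.1 (h (hRM hbR)))
  · refine eq_one_of_inverts_comm hbodd ?_ (mem_centralizer_singleton_iff.1 (h (hRM hbR)))
    refine hA.inverts (mem_centralizer_singleton_iff.2 ?_) (fun h' => hvA ?_) hbA
    · rw [mul_assoc, hvt]
    · simpa using mul_mem (inv_mem hA.tA) h'

/-- The Sylow subgroup is dihedral. -/
theorem dihedral_of_gd {t τ : G} {A : Subgroup G} (hA : GD (centralizer ({t} : Set G)) A t)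
    (hV : Four t τ) (hτA : τ ∉ A) (S : Sylow 2 G)
    (hS : (S : Subgroup G) ≤ centralizer ({t} : Set G)) (htS : t ∈ (S : Subgroup G))
    (hτS : τ ∈ (S : Subgroup G)) :
    ∃ n, 2 ≤ n ∧ Nonempty ((S : Subgroup G) ≃* DihedralGroup n) := by
  haveI : Fact (Nat.Prime 2) := ⟨Nat.prime_two⟩
  set B := (S : Subgroup G) ⊓ A
  haveI : IsCyclic B := CfsgLib.TwoGroupsQ.isCyclic_of_comm (S.isPGroup'.to_le inf_le_left)
    (CfsgLib.TwoGroupsQ.hasUniqueOrderP_two fun a b ha ha1 hb hb1 => by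
      have key : ∀ a : B, a ^ 2 = 1 → a ≠ 1 → (a : G) = t := fun a ha ha1 =>
        (hA.uniq _ a.2.2 (by simpa [sq] using congrArg Subtype.val ha)).resolve_left
          fun e => ha1 (Subtype.ext e)
      exact Subtype.ext ((key a ha ha1).trans (key b hb hb1).symm))
    fun a b => Subtype.ext (hA.comm _ a.2.2 _ b.2.2)
  obtain ⟨⟨g, hg⟩, hgen⟩ := IsCyclic.exists_generator (α := B)
  have hτC : τ ∈ centralizer ({t} : Set G) := hS hτS
  have hτgA : τ * g ∉ A := hA.notA_mul hτA hg.2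
  have hτgC : τ * g ∈ centralizer ({t} : Set G) := hS (mul_mem hτS hg.1)
  have hy : orderOf (τ * g) = 2 := hA.orderOf_out hτgC hτgA
  have hg1 : g ≠ 1 := by
    intro e
    obtain ⟨n, hn⟩ := mem_zpowers_iff.1 (hgen ⟨t, htS, hA.tA⟩)
    refine ne_one_of_orderOf hV.hi ?_
    have h : g ^ n = t := congrArg Subtype.val hn
    rw [← h, e, one_zpow]
  have hxy : τ * (τ * g) = g := by rw [← mul_assoc, mul_self_of_orderOf hV.hj, one_mul]
  have hcl : closure ({τ, τ * g} : Set G) = (S : Subgroup G) := by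
    refine le_antisymm (by rw [closure_le]; rintro x (rfl | rfl); exacts [hτS, mul_mem hτS hg.1])
      fun y hy => ?_
    have hgmem : g ∈ closure ({τ, τ * g} : Set G) := by
      have h := mul_mem (subset_closure (by simp) : τ ∈ closure ({τ, τ * g} : Set G))
        (subset_closure (by simp) : τ * g ∈ closure ({τ, τ * g} : Set G))
      rwa [hxy] at h
    have hB : ∀ z ∈ B, z ∈ closure ({τ, τ * g} : Set G) := fun z hz => by
      obtain ⟨n, hn⟩ := mem_zpowers_iff.1 (hgen ⟨z, hz⟩)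
      have hn' : g ^ n = z := congrArg Subtype.val hn
      rw [← hn']
      exact zpow_mem hgmem n
    by_cases hyA : y ∈ A
    · exact hB y ⟨hy, hyA⟩
    · have h := hB _ ⟨mul_mem hτS hy, hA.prod τ hτC hτA y (hS hy) hyA⟩
      have h2 := mul_mem (subset_closure (by simp) : τ ∈ closure ({τ, τ * g} : Set G)) h
      rwa [← mul_assoc, mul_self_of_orderOf hV.hj, one_mul] at h2
  refine ⟨orderOf (τ * (τ * g)), ?_, ⟨(MulEquiv.subgroupCongr hcl.symm).trans
    (CfsgLib.Small.closurePairEquivDihedral hV.hj hy (fun e => hg1 (mul_eq_left.1 e.symm)))⟩⟩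
  rw [hxy]
  have := orderOf_pos g
  have h1 : orderOf g ≠ 1 := fun e => hg1 (orderOf_eq_one_iff.1 e)
  omega

theorem Ctx.dihedral (C : Ctx G) {t τ : G} (hV : Four t τ) (S : Sylow 2 G)
    (hS : (S : Subgroup G) ≤ centralizer ({t} : Set G)) (htS : t ∈ (S : Subgroup G))
    (hτS : τ ∈ (S : Subgroup G)) :
    ∃ n, 2 ≤ n ∧ Nonempty ((S : Subgroup G) ≃* DihedralGroup n) := by
  obtain ⟨A, hA, hτA⟩ := C.gdall t τ hV.hi hV.hj hV.ne hV.comm
  exact dihedral_of_gd hA hV hτA S hS htS hτS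

/-- The final step: a suitable invariant odd subgroup contradicts the order formulas. -/
theorem Ctx.false_of_invariant (C : Ctx G) {t τ : G} (hV : Four t τ) (S : Sylow 2 G)
    (hS : (S : Subgroup G) ≤ centralizer ({t} : Set G)) (htS : t ∈ (S : Subgroup G))
    (hτS : τ ∈ (S : Subgroup G)) {X : Subgroup G} (hX : Odd (Nat.card X)) (hX1 : X ≠ ⊥)
    (hXS : ∀ s ∈ (S : Subgroup G), ∀ x ∈ X, s * x * s⁻¹ ∈ X)
    (hXR : ∀ r : G, Odd (orderOf r) → r * t = t * r → ∀ x ∈ X, r * x * r⁻¹ ∈ X)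
    (hXg : ∀ k ∈ (S : Subgroup G), Four t k →
      ∃ g, g * t * g⁻¹ = k ∧ ∀ x ∈ X, g * x * g⁻¹ ∈ X)
    {a t₀ : G} (ht₀ : orderOf t₀ = 2) (ha : Odd (orderOf a)) (ha1 : a ≠ 1)
    (hat : a * t₀ = t₀ * a) : False := by
  haveI : Fact (Nat.Prime 2) := ⟨Nat.prime_two⟩
  set M := normalizer (X : Set G) with hM
  have hSM : (S : Subgroup G) ≤ M := fun s hs => mem_normalizer_of_conj (hXS s hs)
  obtain ⟨A, hA, hτA⟩ := C.gdall t τ hV.hi hV.hj hV.ne hV.comm
  have hCM : centralizer ({t} : Set G) ≤ M := by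
    have hAM : ∀ a ∈ A, a ∈ M := by
      intro x hx
      obtain ⟨k, m, hm, hxm⟩ := Nat.exists_eq_two_pow_mul_odd (orderOf_pos x).ne'
      refine mem_of_coprime_pow ((Nat.coprime_two_left.2 hm).pow_left k) ?_ ?_
      · refine mem_normalizer_of_conj (hXR _ (hm.of_dvd_nat (orderOf_dvd_of_pow_eq_one ?_)) ?_)
        · rw [← pow_mul, ← hxm, pow_orderOf_eq_one]
        · exact hA.comm _ (pow_mem hx _) t hA.tA
      · have hp : orderOf (x ^ m) ∣ 2 ^ k := orderOf_dvd_of_pow_eq_one (by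
          rw [← pow_mul, mul_comm, ← hxm, pow_orderOf_eq_one])
        obtain ⟨l, -, hl⟩ := (Nat.dvd_prime_pow Nat.prime_two).1 hp
        have hnorm : (S : Subgroup G) ≤ normalizer (zpowers (x ^ m) : Set G) := by
          intro s hs
          refine mem_normalizer_of_conj ?_
          rintro _ ⟨n, rfl⟩
          simp only [← conj_zpow]
          rcases conj_fix_or_inv hA (mem_centralizer_singleton_iff.1 (hS hs)) (pow_mem hx m) with
            e | e <;> rw [e]
          · exact zpow_mem (mem_zpowers _) n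
          · exact zpow_mem (inv_mem (mem_zpowers _)) n
        exact hSM ((S.is_maximal' (S.isPGroup'.to_sup_of_normal_right' (isPGroup_zpowers hl) hnorm)
          le_sup_left).le (mem_sup_right (mem_zpowers _)))
    intro y hy
    by_cases hyA : y ∈ A
    · exact hAM y hyA
    · have := mul_mem (hSM hτS) (hAM _ (hA.prod τ (hS hτS) hτA y hy hyA))
      rwa [← mul_assoc, mul_self_of_orderOf hV.hj, one_mul] at this
  have hfuse : ∀ k ∈ M, orderOf k = 2 → ∃ g ∈ M, g * t * g⁻¹ = k := by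
    intro k hk hko
    obtain ⟨T, hT⟩ := (isPGroup_zpowers (p := 2) (n := 1)
      (show orderOf (⟨k, hk⟩ : M) = 2 ^ 1 by rw [orderOf_mk, hko, pow_one])).exists_le_sylow
    obtain ⟨m, hm⟩ := MulAction.exists_smul_eq M (S.subtype hSM) T
    have hkT := hT (mem_zpowers _)
    rw [← hm, Sylow.coe_subgroup_smul] at hkT
    obtain ⟨s, hs, hse⟩ := hkT
    have hse' : (m : G) * s * (m : G)⁻¹ = k := congrArg Subtype.val hse
    have hsS : (s : G) ∈ (S : Subgroup G) := hs
    have hso : orderOf (s : G) = 2 := by rw [← hse', orderOf_conj] at hko; exact hko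
    by_cases hst : (s : G) = t
    · exact ⟨m, m.2, by rw [← hst]; exact hse'⟩
    · obtain ⟨g, hgt, hgX⟩ := hXg s hsS
        ⟨hV.hi, hso, fun e => hst e.symm, (mem_centralizer_singleton_iff.1 (hS hsS)).symm⟩
      refine ⟨m * g, mul_mem m.2 (mem_normalizer_of_conj hgX), ?_⟩
      rw [← hse', ← hgt]; group
  obtain ⟨n, hn, ⟨eS⟩⟩ := C.dihedral hV S hS htS hτS
  refine ha1 (odd_commuting_eq_one C.core S hn eS C.one M hSM (fun e => hX1 ?_) ?_ ?_ ht₀ ha hat)
  · haveI : X.Normal := normalizer_eq_top_iff.1 e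
    exact le_bot_iff.1 (C.core ▸ CfsgLib.PLocal.le_pPrimeCore (Nat.coprime_two_right.2 hX))
  · intro x hx y hy hxo hyo
    obtain ⟨g, hg, hgx⟩ := hfuse x hx hxo
    obtain ⟨h, hh, hhy⟩ := hfuse y hy hyo
    exact ⟨h * g⁻¹, mul_mem hh (inv_mem hg), by rw [← hgx, ← hhy]; group⟩
  · intro x hx hxo y hy
    obtain ⟨g, hg, hgx⟩ := hfuse x hx hxo
    have h1 : g⁻¹ * y * g ∈ centralizer ({t} : Set G) := mem_centralizer_singleton_iff.2 (by
      have hy' := mem_centralizer_singleton_iff.1 hy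
      calc g⁻¹ * y * g * t = g⁻¹ * (y * (g * t * g⁻¹)) * g := by group
        _ = g⁻¹ * ((g * t * g⁻¹) * y) * g := by rw [hgx, hy']
        _ = t * (g⁻¹ * y * g) := by group)
    have := mul_mem (mul_mem hg (hCM h1)) (inv_mem hg)
    rwa [show g * (g⁻¹ * y * g) * g⁻¹ = y by group] at this

/-- A maximal invariant `p`-subgroup of an invariant odd subgroup is a Sylow subgroup of it,
normalized by a two-group normalizing it. -/
theorem MaxPV.sylow_of_le {i j : G} {p : ℕ} [Fact p.Prime] {Q Y : Subgroup G}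
    (hQ : MaxPV i j p Q) (hQY : Q ≤ Y) (hfpf : Fpf i j Y) :
    ¬ p ∣ Q.relIndex Y ∧
      ∀ U, U ≤ Y → PV i j p U → U ≤ Q := by
  obtain ⟨R, hRY, hRp, hRs, hRi, hRj, hR⟩ := hfpf.exists_sylow p
  have h : Q ≤ R := hR Q hQY hQ.isP hQ.hi hQ.hj
  have e : R = Q := le_antisymm (hQ.max R ⟨hRp, hRi, hRj⟩ h) h
  exact ⟨e ▸ hRs, fun U hU hP => e ▸ hR U hU hP.isP hP.hi hP.hj⟩

theorem MaxPV.conj_mem_of_le {i j : G} {p : ℕ} [Fact p.Prime] {Q Y : Subgroup G}
    (hQ : MaxPV i j p Q) (hQY : Q ≤ Y) (hfpf : Fpf i j Y) (S : Sylow 2 G)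
    (hi : i ∈ (S : Subgroup G)) (hj : j ∈ (S : Subgroup G))
    (hSY : ∀ s ∈ (S : Subgroup G), ∀ y ∈ Y, s * y * s⁻¹ ∈ Y) :
    ∀ s ∈ (S : Subgroup G), ∀ u ∈ Q, s * u * s⁻¹ ∈ Q := by
  haveI : Fact (Nat.Prime 2) := ⟨Nat.prime_two⟩
  obtain ⟨k, hk⟩ := S.isPGroup'.exists_card_eq
  have hSn : (S : Subgroup G) ≤ normalizer (Y : Set G) :=
    fun s hs => mem_normalizer_of_conj (hSY s hs)
  obtain ⟨P, -, hP⟩ := CfsgLib.Coprime.exists_invariant_sylow_ge (p := p) hSn
    (by rw [hk]; exact (Nat.coprime_two_left.2 hfpf.odd).pow_left k) (Or.inr hfpf.solvable)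
    (U := (⊥ : Subgroup G)) bot_le IsPGroup.of_bot
    (fun v _ => Subgroup.mem_normalizer_iff.2 fun n => by simp)
  set P' := (P : Subgroup Y).map Y.subtype
  have hinv : ∀ s ∈ (S : Subgroup G), ∀ u ∈ P', s * u * s⁻¹ ∈ P' :=
    fun s hs u hu => (mem_normalizer_iff.1 (hP hs) u).1 hu
  obtain ⟨hQs, hQmax⟩ := hQ.sylow_of_le hQY hfpf
  have hP'Q : P' ≤ Q :=
    hQmax P' (map_subtype_le _) ⟨P.isPGroup'.map _, hinv i hi, hinv j hj⟩
  have hQP : Q ≤ P' := by
    have h : Q.subgroupOf Y ≤ (P : Subgroup Y) := (P.is_maximal'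
      (hQ.isP.of_equiv (subgroupOfEquivOfLe hQY).symm)
      (fun y hy => mem_subgroupOf.2 (hP'Q ⟨y, hy, rfl⟩))).le
    intro u hu
    exact ⟨⟨u, hQY hu⟩, h (mem_subgroupOf.2 hu), rfl⟩
  intro s hs u hu
  exact hP'Q (hinv s hs u (hQP hu))

/-- The case of a nonabelian linked subgroup. -/
theorem Ctx.false_of_nonabelian (C : Ctx G) {p : ℕ} [hp : Fact p.Prime] (hp2 : p ≠ 2) {i j : G}
    {Q : Subgroup G} (hV : Four i j) (hQ : Linked i j p Q)
    (hna : ¬ ∀ u ∈ Q, ∀ v ∈ Q, u * v = v * u)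
    {a t₀ : G} (ht₀ : orderOf t₀ = 2) (ha : Odd (orderOf a)) (ha1 : a ≠ 1)
    (hat : a * t₀ = t₀ * a) : False := by
  haveI : Fact (Nat.Prime 2) := ⟨Nat.prime_two⟩
  obtain ⟨g, hgi, hgj⟩ := C.exists_cycle hV
  have hgQ := hQ.cycle_mem C hV hp2 hgi hgj
  have hgn : g ∈ normalizer (Q : Set G) := mem_normalizer_of_conj hgQ
  set Z := Q ⊓ centralizer (Q : Set G)
  have hZs : ∀ {s : G}, s ∈ normalizer (Q : Set G) → ∀ z ∈ Z, s * z * s⁻¹ ∈ Z := by
    intro s hs z hz
    refine mem_inf.2 ⟨(mem_normalizer_iff.1 hs z).1 hz.1, conj_mem_centralizer ?_ hz.2⟩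
    intro w hw
    simpa using (mem_normalizer_iff.1 (inv_mem hs) w).1 hw
  have hin := mem_normalizer_of_conj hQ.hi
  have hjn := mem_normalizer_of_conj hQ.hj
  -- a central element fixed by `i`
  obtain ⟨z, hzZ, hz1, hzi⟩ : FixedIn i Z := by
    have hfz : Fpf i j Z :=
      (hQ.toPV.fpf hV C.gdall hp2).mono inf_le_left (hZs hin) (hZs hjn)
    have hZ1 : Z ≠ ⊥ := by
      haveI : Nontrivial Q := Q.nontrivial_iff_ne_bot.2 hQ.ne_bot
      haveI := hQ.isP.center_nontrivial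
      obtain ⟨c, hc⟩ := exists_ne (1 : center Q)
      intro e
      refine hc (Subtype.ext (Subtype.ext (mem_bot.1 (e ▸ ⟨(c : Q).2, mem_centralizer_iff.2
        fun u hu => ?_⟩ : ((c : Q) : G) ∈ (⊥ : Subgroup G)))))
      exact congrArg Subtype.val (mem_center_iff.1 c.2 ⟨u, hu⟩)
    have hgk : g * (i * j) * g⁻¹ = i := by
      rw [show g * (i * j) * g⁻¹ = (g * i * g⁻¹) * (g * j * g⁻¹) by group, hgi, hgj, hV.comm,
        ← mul_assoc, mul_self_of_orderOf hV.hj, one_mul]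
    have hki : FixedIn (i * j) Z → FixedIn i Z := fixedIn_map hgk (hZs hgn)
    have hjk : FixedIn j Z → FixedIn (i * j) Z := fixedIn_map hgj (hZs hgn)
    by_contra hno
    refine hZ1 (le_bot_iff.1 (hfz.le_of ?_ ?_ ?_)) <;>
      intro y hy e <;> refine mem_bot.2 ?_ <;> by_contra hy1
    · exact hno ⟨y, hy, hy1, e⟩
    · exact hno (hki (hjk ⟨y, hy, hy1, e⟩))
    · exact hno (hki ⟨y, hy, hy1, e⟩)
  have hzo : Odd (orderOf z) := odd_orderOf (hQ.toPV.odd hp2) hzZ.1
  obtain ⟨Y, hYodd, hY, -⟩ := C.exists_oddPart hV.hi hz1 hzo hzi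
  obtain ⟨A, hA, hjA⟩ := C.gdall i j hV.hi hV.hj hV.ne hV.comm
  have hzA : z ∈ A := hA.mem_of_odd (mem_centralizer_singleton_iff.2 hzi) hzo
  obtain ⟨S, hVS, hSi⟩ := C.exists_sylow hV.hi hV.isPGroup (by
    rw [closure_le]
    rintro x (rfl | rfl)
    · exact mem_centralizer_singleton_iff.2 rfl
    · exact mem_centralizer_singleton_iff.2 hV.comm.symm)
  have hiS : i ∈ (S : Subgroup G) := hVS (subset_closure (by simp))
  have hjS : j ∈ (S : Subgroup G) := hVS (subset_closure (by simp))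
  have hSY : ∀ s ∈ (S : Subgroup G), ∀ y ∈ Y, s * y * s⁻¹ ∈ Y := fun s hs =>
    conj_mem_oddPart hY (conj_fix_or_inv hA (mem_centralizer_singleton_iff.1 (hSi hs)) hzA)
  have hfpf : Fpf i j Y := hV.fpf C.gdall hYodd (hSY i hiS) (hSY j hjS)
  have hQY : Q ≤ Y := fun u hu => (hY u).2
    ⟨odd_orderOf (hQ.toPV.odd hp2) hu, mem_centralizer_iff.1 hzZ.2 u hu⟩
  have hQS := hQ.toMaxPV.conj_mem_of_le hQY hfpf S hiS hjS hSY
  obtain ⟨hQsyl, hQmax⟩ := hQ.toMaxPV.sylow_of_le hQY hfpf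
  set X : Subgroup G := ⁅Q, Q⁆
  have hX1 : X ≠ ⊥ := fun e => hna fun u hu v hv =>
    commutatorElement_eq_one_iff_mul_comm.1 (mem_bot.1 (e ▸ commutator_mem_commutator hu hv))
  have hXQ : X ≤ Q := Subgroup.commutator_le.2 fun u hu v hv =>
    mul_mem (mul_mem (mul_mem hu hv) (inv_mem hu)) (inv_mem hv)
  -- `Y` normalizes `X`
  set D : Subgroup G := ⁅Y, Y⁆
  have hDY : D ≤ Y := Subgroup.commutator_le.2 fun u hu v hv =>
    mul_mem (mul_mem (mul_mem hu hv) (inv_mem hu)) (inv_mem hv)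
  have hnorm : ∀ s : G, (∀ u ∈ Q, s * u * s⁻¹ ∈ Q) → s ∈ normalizer (X : Set G) := fun s hs =>
    mem_normalizer_of_conj fun x hx => conj_mem_commutator hs hs hx
  have hDn : D ≤ normalizer (X : Set G) := by
    refine le_of_forall_prime_pow fun r hr x hx n hxn => ?_
    haveI := Fact.mk hr
    obtain ⟨E, hED, hEp, hE, hEs⟩ := exists_component hfpf.derived_nilpotent r
    have hEY : ∀ y ∈ Y, ∀ e ∈ E, y * e * y⁻¹ ∈ E := fun y hy => hEs y fun d hd =>
      conj_mem_commutator (fun v hv => mul_mem (mul_mem hy hv) (inv_mem hy))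
        (fun v hv => mul_mem (mul_mem hy hv) (inv_mem hy)) hd
    have hxE : x ∈ E := (hE x).2 ⟨hx, n, hxn⟩
    by_cases hrp : r = p
    · subst hrp
      have hEQ : E ≤ Q := hQmax E (hED.trans hDY) ⟨hEp,
        hEs i fun d hd => conj_mem_commutator hfpf.normI hfpf.normI hd,
        hEs j fun d hd => conj_mem_commutator hfpf.normJ hfpf.normJ hd⟩
      exact hnorm x fun u hu => mul_mem (mul_mem (hEQ hxE) hu) (inv_mem (hEQ hxE))
    · obtain ⟨k, hk⟩ := hEp.exists_card_eq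
      have hc := hfpf.derived_centralizes_coprime hQY (hED.trans hDY) hQ.isP
        (by rw [hk]; exact ((Nat.coprime_primes hr hp.out).2 hrp).pow_left k)
        fun q hq e he => hEY q (hQY hq) e he
      exact mem_normalizer_of_conj fun u hu => by
        rw [mem_centralizer_iff.1 (hc hu) x hxE, mul_inv_cancel_right]
        exact hu
  have hYn : Y ≤ normalizer (X : Set G) := by
    set N0 := (Q ⊔ D).subgroupOf Y with hN0
    haveI : N0.Normal := ⟨fun n hn y => by
      rw [hN0, mem_subgroupOf] at hn ⊢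
      have h1 : ⁅(y : G), (n : G)⁆ ∈ D := commutator_mem_commutator y.2 n.2
      have h2 := mul_mem (mem_sup_right h1 : ⁅(y : G), (n : G)⁆ ∈ Q ⊔ D) hn
      rw [commutatorElement_def, inv_mul_cancel_right] at h2
      simpa using h2⟩
    let P : Sylow p Y :=
      (hQ.isP.of_equiv (subgroupOfEquivOfLe hQY).symm).toSylow hQsyl
    have htop := Sylow.normalizer_sup_eq_top' (N := N0) P
      (show Q.subgroupOf Y ≤ N0 from fun y hy => mem_subgroupOf.2 (mem_sup_left (mem_subgroupOf.1 hy)))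
    have hle : normalizer (P : Set Y) ⊔ N0 ≤ (normalizer (X : Set G)).subgroupOf Y := by
      refine sup_le (fun y hy => mem_subgroupOf.2 (hnorm y fun u hu => ?_)) fun y hy => ?_
      · exact mem_subgroupOf.1 ((mem_normalizer_iff.1 hy ⟨u, hQY hu⟩).1 (mem_subgroupOf.2 hu))
      · refine mem_subgroupOf.2 (sup_le ?_ hDn (mem_subgroupOf.1 hy))
        exact fun q hq => hnorm q fun u hu => mul_mem (mul_mem hq hu) (inv_mem hq)
    intro y hy
    exact mem_subgroupOf.1 (hle (htop ▸ mem_top (⟨y, hy⟩ : Y)))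
  refine C.false_of_invariant hV S hSi hiS hjS ((hQ.toPV.odd hp2).of_dvd_nat (card_dvd_of_le hXQ))
    hX1 (fun s hs => fun x hx => conj_mem_commutator (hQS s hs) (hQS s hs) hx) ?_ ?_ ht₀ ha ha1 hat
  · intro r hr hrt x hx
    have hrA : r ∈ A := hA.mem_of_odd (mem_centralizer_singleton_iff.2 hrt) hr
    exact (mem_normalizer_iff.1 (hYn ((hY r).2 ⟨hr, hA.comm r hrA z hzA⟩)) x).1 hx
  · intro k hk hVk
    have hQ' := hQ.change C hV hp2 hVk (hQS k hk)
    obtain ⟨h, hhi, hhk⟩ := C.exists_cycle hVk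
    have hh := hQ'.cycle_mem C hVk hp2 hhi hhk
    exact ⟨h, hhi, fun x hx => conj_mem_commutator hh hh hx⟩

theorem odd_card_sup {Y N : Subgroup G} (hY : Odd (Nat.card Y)) (hN : Odd (Nat.card N))
    (hYN : Y ≤ normalizer (N : Set G)) : Odd (Nat.card ↥(N ⊔ Y)) := by
  haveI : Fact (Nat.Prime 2) := ⟨Nat.prime_two⟩
  rw [← Nat.not_even_iff_odd, even_iff_two_dvd]
  intro h2
  obtain ⟨w, hw⟩ := exists_prime_orderOf_dvd_card' (G := ↥(N ⊔ Y)) 2 h2
  have hwo : orderOf (w : G) = 2 := by rw [orderOf_coe, hw]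
  obtain ⟨n, hn, y, hy, he⟩ := CfsgLib.Coprime.exists_mul_of_mem_sup hYN w.2
  have hwn : (w : G) ∈ normalizer (N : Set G) := (sup_le le_normalizer hYN) w.2
  have hy' : y = n⁻¹ * w := by rw [← he, inv_mul_cancel_left]
  have hyy : y * y ∈ N := by
    have h1 : (w : G) * n⁻¹ * (w : G)⁻¹ ∈ N := (mem_normalizer_iff.1 hwn _).1 (inv_mem hn)
    rw [inv_eq_of_mul_eq_one_right (mul_self_of_orderOf hwo)] at h1
    have h2 := mul_mem (inv_mem hn) h1
    rw [hy']
    simpa [mul_assoc] using h2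
  have hyN : y ∈ N := mem_of_sq_mem_of_odd (odd_orderOf hY hy) hyy
  exact ne_one_of_orderOf hwo (eq_one_of_odd hN (he ▸ mul_mem hn hyN) (mul_self_of_orderOf hwo))

omit [Finite G] in
/-- A subgroup centralizing everything commutes with the fixed elements at another involution. -/
theorem comm_of_inverts {v y e : G} (hy : Odd (orderOf y)) (hinv : v * y * v⁻¹ = y⁻¹)
    (he : e * v = v * e) (hf : y * e * y⁻¹ * v = v * (y * e * y⁻¹)) : y * e = e * y := by
  have h1 : y * e * y⁻¹ = y⁻¹ * e * y := by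
    have h2 : v * (y * e * y⁻¹) * v⁻¹ = y⁻¹ * e * y := by
      calc v * (y * e * y⁻¹) * v⁻¹ = (v * y * v⁻¹) * (v * e * v⁻¹) * (v * y * v⁻¹)⁻¹ := by group
        _ = y⁻¹ * e * y := by rw [hinv, ← he, mul_inv_cancel_right, inv_inv]
    rw [← h2, ← hf, mul_inv_cancel_right]
  have h3 : y * y * e = e * (y * y) := by
    calc y * y * e = y * (y * e * y⁻¹) * y := by group
      _ = y * (y⁻¹ * e * y) * y := by rw [h1]
      _ = e * (y * y) := by group
  obtain ⟨k, hk⟩ := hy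
  have h4 : (y * y) ^ (k + 1) = y := by
    rw [← sq, ← pow_mul, show 2 * (k + 1) = (2 * k + 1) + 1 by ring, ← hk, pow_succ,
      pow_orderOf_eq_one, one_mul]
  rw [← h4]
  exact (show Commute (y * y) e from h3).pow_left _

set_option maxHeartbeats 400000 in
/-- The case where all linked subgroups are abelian. -/
theorem Ctx.false_of_abelian (C : Ctx G)
    (hall : ∀ (r : ℕ) (i j : G) (Q : Subgroup G), r.Prime → r ≠ 2 → Four i j → Linked i j r Q →
      ∀ u ∈ Q, ∀ v ∈ Q, u * v = v * u)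
    {p : ℕ} [hp : Fact p.Prime] (hp2 : p ≠ 2) {i j : G} {Q : Subgroup G} (hV : Four i j)
    (hQ : Linked i j p Q) {a t₀ : G} (ht₀ : orderOf t₀ = 2) (ha : Odd (orderOf a)) (ha1 : a ≠ 1)
    (hat : a * t₀ = t₀ * a) : False := by
  haveI : Fact (Nat.Prime 2) := ⟨Nat.prime_two⟩
  obtain ⟨A, hA, -⟩ := C.gdall i j hV.hi hV.hj hV.ne hV.comm
  obtain ⟨S, hVS, hSi⟩ := C.exists_sylow hV.hi hV.isPGroup (by
    rw [closure_le]
    rintro x (rfl | rfl)
    · exact mem_centralizer_singleton_iff.2 rfl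
    · exact mem_centralizer_singleton_iff.2 hV.comm.symm)
  have hiS : i ∈ (S : Subgroup G) := hVS (subset_closure (by simp))
  have hjS : j ∈ (S : Subgroup G) := hVS (subset_closure (by simp))
  have hcomm := hall p i j Q hp.out hp2 hV hQ
  obtain ⟨e, heQ, he1, hei⟩ := hQ.fixed C hV hp2 (Or.inl rfl)
  have heo : Odd (orderOf e) := odd_orderOf (hQ.toPV.odd hp2) heQ
  obtain ⟨Y1, hY1odd, hY1, -⟩ := C.exists_oddPart hV.hi he1 heo hei
  set P := Q ⊓ centralizer ({i} : Set G) with hP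
  set Y0 := Y1 ⊓ centralizer (P : Set G)
  have hsc : ∀ s ∈ (S : Subgroup G), s * i = i * s :=
    fun s hs => mem_centralizer_singleton_iff.1 (hSi hs)
  have hPs : ∀ s : G, s * i = i * s → ∀ u ∈ P, s * u * s⁻¹ ∈ P := by
    intro s hs u hu
    obtain ⟨n, hn⟩ := hQ.isP ⟨u, hu.1⟩
    have hun : u ^ p ^ n = 1 := congrArg Subtype.val hn
    have hc : s * u * s⁻¹ * i = i * (s * u * s⁻¹) := by
      have e1 : s⁻¹ * i = i * s⁻¹ := (show Commute s i from hs).inv_left.eq
      calc s * u * s⁻¹ * i = s * (u * i) * s⁻¹ := by rw [mul_assoc _ s⁻¹, e1]; group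
        _ = (s * i) * u * s⁻¹ := by rw [mem_centralizer_singleton_iff.1 hu.2]; group
        _ = i * (s * u * s⁻¹) := by rw [hs]; group
    exact mem_inf.2 ⟨hQ.mem C hV hp2 (Or.inl rfl) (n := n)
      (by rw [conj_pow, hun, mul_one, mul_inv_cancel]) hc, mem_centralizer_singleton_iff.2 hc⟩
  have heA : e ∈ A := hA.mem_of_odd (mem_centralizer_singleton_iff.2 hei) heo
  have hY0s : ∀ s ∈ (S : Subgroup G), ∀ y ∈ Y0, s * y * s⁻¹ ∈ Y0 := fun s hs y hy => mem_inf.2
    ⟨conj_mem_oddPart hY1 (conj_fix_or_inv hA (hsc s hs) heA) y hy.1,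
      conj_mem_centralizer (fun w hw => by
        simpa using hPs _ ((show Commute s i from hsc s hs).inv_left.eq) w hw) hy.2⟩
  have hRY0 : ∀ r : G, Odd (orderOf r) → r * i = i * r → r ∈ Y0 := fun r hr hri => by
    have hrA := hA.mem_of_odd (mem_centralizer_singleton_iff.2 hri) hr
    exact mem_inf.2 ⟨(hY1 r).2 ⟨hr, hA.comm r hrA e heA⟩, mem_centralizer_iff.2 fun u hu =>
      hA.comm u (hA.mem_of_odd hu.2 (odd_orderOf (hQ.toPV.odd hp2) hu.1)) r hrA⟩
  have hQY0 : Q ≤ Y0 := fun u hu => mem_inf.2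
    ⟨(hY1 u).2 ⟨odd_orderOf (hQ.toPV.odd hp2) hu, hcomm u hu e heQ⟩,
      mem_centralizer_iff.2 fun w hw => hcomm w hw.1 u hu⟩
  obtain ⟨Y, ⟨hY0Y, hYodd, hYs⟩, hYmax⟩ := (Set.toFinite {Y : Subgroup G | Y0 ≤ Y ∧
    Odd (Nat.card Y) ∧ ∀ s ∈ (S : Subgroup G), ∀ y ∈ Y, s * y * s⁻¹ ∈ Y}).exists_maximal
      ⟨Y0, le_rfl, hY1odd.of_dvd_nat (card_dvd_of_le inf_le_left), hY0s⟩
  have hfpf : Fpf i j Y := hV.fpf C.gdall hYodd (hYs i hiS) (hYs j hjS)
  obtain ⟨X, hLX, hXle⟩ : ∃ X : Subgroup G,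
      (∀ {L : Subgroup G} {r : ℕ}, r.Prime → r ≠ 2 → Linked i j r L → L ≤ Y → L ≤ X) ∧
      ∀ Z : Subgroup G, (∀ L r, r.Prime → r ≠ 2 → Linked i j r L → L ≤ Y → L ≤ Z) → X ≤ Z :=
    ⟨sSup {L | ∃ r, r.Prime ∧ r ≠ 2 ∧ Linked i j r L ∧ L ≤ Y},
      fun {L r} h1 h2 h3 h4 => le_sSup ⟨r, h1, h2, h3, h4⟩,
      fun Z hZ => sSup_le fun L ⟨r, h1, h2, h3, h4⟩ => hZ L r h1 h2 h3 h4⟩
  have hXY : X ≤ Y := hXle Y fun _ _ _ _ _ h => h
  -- the elements central in `Y` of order prime to all linked primes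
  let U : Subgroup G :=
    { carrier := {x | x ∈ Y ∧ (∀ y ∈ Y, y * x = x * y) ∧
        ∀ r L, r.Prime → r ≠ 2 → Linked i j r L → L ≤ Y → (orderOf x).Coprime r}
      one_mem' := ⟨one_mem _, fun y _ => by simp, fun r _ _ _ _ _ => by
        simp⟩
      mul_mem' := by
        rintro x y ⟨hx, hxc, hxr⟩ ⟨hy, hyc, hyr⟩
        refine ⟨mul_mem hx hy, fun z hz => ((show Commute z x from hxc z hz).mul_right
          (show Commute z y from hyc z hz)).eq, fun r L h1 h2 h3 h4 => ?_⟩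
        exact Nat.Coprime.coprime_dvd_left
          ((show Commute x y from hyc x hx).orderOf_mul_dvd_lcm.trans (Nat.lcm_dvd_mul _ _))
          ((hxr r L h1 h2 h3 h4).mul_left (hyr r L h1 h2 h3 h4))
      inv_mem' := by
        rintro x ⟨hx, hxc, hxr⟩
        exact ⟨inv_mem hx, fun z hz => (show Commute z x from hxc z hz).inv_right.eq,
          fun r L h1 h2 h3 h4 => by rw [orderOf_inv]; exact hxr r L h1 h2 h3 h4⟩ }
  have hD : ⁅Y, Y⁆ ≤ U ⊔ X := by
    refine le_of_forall_prime_pow fun r hr x hx n hxn => ?_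
    haveI := Fact.mk hr
    have hxY : x ∈ Y := (Subgroup.commutator_le.2 fun u hu v hv =>
      mul_mem (mul_mem (mul_mem hu hv) (inv_mem hu)) (inv_mem hv)) hx
    by_cases hx1 : x = 1
    · rw [hx1]; exact one_mem _
    have hr2 : r ≠ 2 := by
      rintro rfl
      exact hx1 (orderOf_eq_one_iff.1 (Nat.eq_one_of_dvd_coprimes
        ((Nat.coprime_two_left.2 (odd_orderOf hYodd hxY)).pow_left n)
        (orderOf_dvd_of_pow_eq_one hxn) dvd_rfl))
    obtain ⟨E, hED, hEp, hE, hEs⟩ := exists_component hfpf.derived_nilpotent r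
    have hEY : E ≤ Y := hED.trans (Subgroup.commutator_le.2 fun u hu v hv =>
      mul_mem (mul_mem (mul_mem hu hv) (inv_mem hu)) (inv_mem hv))
    have hxE : x ∈ E := (hE x).2 ⟨hx, n, hxn⟩
    have hnorm : ∀ s : G, (∀ y ∈ Y, s * y * s⁻¹ ∈ Y) → ∀ y ∈ E, s * y * s⁻¹ ∈ E := fun s hs =>
      hEs s fun d hd => conj_mem_commutator hs hs hd
    have hpv : PV i j r E := ⟨hEp, hnorm i (hYs i hiS), hnorm j (hYs j hjS)⟩
    have hin : ∀ L, Linked i j r L → L ≤ Y → x ∈ U ⊔ X := fun L hL hLY =>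
      mem_sup_right (hLX hr hr2 hL hLY ((hL.toMaxPV.sylow_of_le hLY hfpf).2 E hEY hpv hxE))
    by_cases hPi : ∃ L, Linked i j r L ∧ L ≤ Y
    · obtain ⟨L, h1, h2⟩ := hPi; exact hin L h1 h2
    obtain ⟨M, hM, hEM⟩ := exists_maxPV hpv
    have hMl : ¬ Linked i j r M := by
      intro hMl
      have hMc := hall r i j M hr hr2 hV hMl
      have hE1 : E ≠ ⊥ := fun h => hx1 (mem_bot.1 (h ▸ hxE))
      obtain ⟨v, hv, e', he', he'1, he'v⟩ :
          ∃ v, (v = i ∨ v = j ∨ v = i * j) ∧ FixedIn v E := by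
        by_contra hno
        refine hE1 (le_bot_iff.1 ((hpv.fpf hV C.gdall hr2).le_of ?_ ?_ ?_)) <;>
          intro y hy h <;> refine mem_bot.2 ?_ <;> by_contra hy1
        · exact hno ⟨i, Or.inl rfl, y, hy, hy1, h⟩
        · exact hno ⟨j, Or.inr (Or.inl rfl), y, hy, hy1, h⟩
        · exact hno ⟨i * j, Or.inr (Or.inr rfl), y, hy, hy1, h⟩
      have hv2 : orderOf v = 2 := by
        rcases hv with rfl | rfl | rfl
        exacts [hV.hi, hV.hj, hV.hk]
      obtain ⟨N1, hN1odd, hN1, -⟩ :=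
        C.exists_oddPart hv2 he'1 (odd_orderOf (hpv.odd hr2) he') he'v
      set N := N1 ⊓ centralizer (E : Set G)
      have hNn : ∀ s : G, s ∈ normalizer (E : Set G) → ∀ y ∈ N, s * y * s⁻¹ ∈ N := by
        intro s hs y hy
        have hc : s * y * s⁻¹ ∈ centralizer (E : Set G) := conj_mem_centralizer
          (fun w hw => by simpa using (mem_normalizer_iff.1 (inv_mem hs) w).1 hw) hy.2
        exact mem_inf.2 ⟨(hN1 _).2 ⟨by rw [orderOf_conj]; exact ((hN1 y).1 hy.1).1,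
          (mem_centralizer_iff.1 hc e' he').symm⟩, hc⟩
      have hMN : M ≤ N := fun m hm => mem_inf.2
        ⟨(hN1 m).2 ⟨odd_orderOf (hM.toPV.odd hr2) hm, hMc m hm e' (hEM he')⟩,
          mem_centralizer_iff.2 fun w hw => hMc w (hEM hw) m hm⟩
      have hYE : ∀ y ∈ Y, y ∈ normalizer (E : Set G) := fun y hy => mem_normalizer_of_conj
        (hnorm y fun w hw => mul_mem (mul_mem hy hw) (inv_mem hy))
      have hle : N ⊔ Y ≤ Y := by
        refine hYmax ⟨hY0Y.trans le_sup_right, odd_card_sup hYodd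
          (hN1odd.of_dvd_nat (card_dvd_of_le inf_le_left))
          (fun y hy => mem_normalizer_of_conj (hNn y (hYE y hy))), fun s hs w hw => ?_⟩ le_sup_right
        exact conj_mem_closure_pair (hNn s (mem_normalizer_of_conj (hnorm s (hYs s hs))))
          (hYs s hs) hw
      exact hPi ⟨M, hMl, hMN.trans (le_sup_left.trans hle)⟩
    -- `E` is centralized by a single involution, hence central in `Y`
    obtain ⟨v, hv, hEv⟩ : ∃ v, (v = i ∨ v = j ∨ v = i * j) ∧ E ≤ centralizer ({v} : Set G) := by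
      by_contra hno
      push Not at hno
      exact hMl ⟨hM, fun h => hno i (Or.inl rfl) (hEM.trans h),
        fun h => hno j (Or.inr (Or.inl rfl)) (hEM.trans h),
        fun h => hno (i * j) (Or.inr (Or.inr rfl)) (hEM.trans h)⟩
    have hv2 : orderOf v = 2 := by
      rcases hv with rfl | rfl | rfl
      exacts [hV.hi, hV.hj, hV.hk]
    obtain ⟨Av, hAv⟩ := C.all v hv2
    have hYv : ∀ {w : G}, (w = i ∨ w = j ∨ w = i * j) → ∀ y ∈ Y, w * y * w⁻¹ ∈ Y := by
      intro w hw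
      rcases hw with rfl | rfl | rfl
      exacts [hYs _ hiS, hYs _ hjS, hYs _ (mul_mem hiS hjS)]
    have hclos : ∀ w, (w = i ∨ w = j ∨ w = i * j) → w ∈ closure ({i, j} : Set G) := by
      intro w hw
      rcases hw with rfl | rfl | rfl
      exacts [subset_closure (by simp), subset_closure (by simp),
        mul_mem (subset_closure (by simp)) (subset_closure (by simp))]
    have hYc : Y ≤ centralizer (E : Set G) := by
      have key : ∀ w, (w = i ∨ w = j ∨ w = i * j) → ∀ y ∈ Y, y * w = w * y →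
          y ∈ centralizer (E : Set G) := by
        intro w hw y hy hyw
        refine mem_centralizer_iff.2 fun u hu => ?_
        have huv : u * v = v * u := mem_centralizer_singleton_iff.1 (hEv hu)
        by_cases hwv : w = v
        · exact hAv.comm u (hAv.mem_of_odd (hEv hu) (odd_orderOf hYodd (hEY hu))) y
            (hAv.mem_of_odd (mem_centralizer_singleton_iff.2 (hwv ▸ hyw)) (odd_orderOf hYodd hy))
        · have hw2 : orderOf w = 2 := by
            rcases hw with rfl | rfl | rfl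
            exacts [hV.hi, hV.hj, hV.hk]
          have hwvc : w * v = v * w := by
            have hcl := hV.isPGroup
            have h1 : ∀ z ∈ closure ({i, j} : Set G), z * z = 1 := hfpf.closure_sq
            have ha := h1 w (hclos w hw)
            have hb := h1 v (hclos v hv)
            rw [eq_inv_of_mul_eq_one_left (h1 _ (mul_mem (hclos w hw) (hclos v hv))), mul_inv_rev,
              inv_eq_of_mul_eq_one_right ha, inv_eq_of_mul_eq_one_right hb]
          have hF : Four w v := ⟨hw2, hv2, hwv, hwvc⟩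
          have hinv := (hF.fpf C.gdall hYodd (hYv hw) (hYv hv)).inv_of_comm hy hyw
          have hconj : y * u * y⁻¹ ∈ E := hnorm y (fun z hz => mul_mem (mul_mem hy hz) (inv_mem hy)) u hu
          exact (comm_of_inverts (odd_orderOf hYodd hy) hinv huv
            (mem_centralizer_singleton_iff.1 (hEv hconj))).symm
      exact hfpf.le_of (key i (Or.inl rfl)) (key j (Or.inr (Or.inl rfl)))
        (key (i * j) (Or.inr (Or.inr rfl)))
    refine mem_sup_left ⟨hxY, fun y hy => (mem_centralizer_iff.1 (hYc hy) x hxE).symm,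
      fun r' L h1 h2 h3 h4 => ?_⟩
    refine Nat.Coprime.coprime_dvd_left (orderOf_dvd_of_pow_eq_one hxn) (Nat.Coprime.pow_left n ?_)
    refine (Nat.coprime_primes hr h1).2 ?_
    rintro rfl
    exact hPi ⟨L, h3, h4⟩
  -- `Y` normalizes `X`
  have hUX : X ≤ normalizer (U : Set G) := fun q hq => mem_normalizer_of_conj fun f hf => by
    rw [hf.2.1 q (hXY hq), mul_inv_cancel_right]; exact hf
  have hYn : ∀ y ∈ Y, ∀ q ∈ X, y * q * y⁻¹ ∈ X := by
    intro y hy q hq
    have hle : X ≤ X.comap (MulAut.conj y).toMonoidHom := hXle _ fun L r hr hr2 hL hLY => by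
      intro l hl
      have hc : ⁅y, l⁆ ∈ U ⊔ X := hD (commutator_mem_commutator hy (hLY hl))
      obtain ⟨f, hf, s, hs, hfs⟩ := CfsgLib.Coprime.exists_mul_of_mem_sup hUX hc
      have he : y * l * y⁻¹ = f * (s * l) := by
        rw [← mul_assoc, hfs, commutatorElement_def, inv_mul_cancel_right]
      have hlX : l ∈ X := hLX hr hr2 hL hLY hl
      have hsl : s * l ∈ X := mul_mem hs hlX
      obtain ⟨m, hm⟩ := hL.isP ⟨l, hl⟩
      have hlm : l ^ r ^ m = 1 := congrArg Subtype.val hm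
      have hfc : Commute f (s * l) := (hf.2.1 _ (hXY hsl)).symm
      have hpw : f ^ r ^ m * (s * l) ^ r ^ m = 1 := by
        rw [← hfc.mul_pow, ← he, conj_pow, hlm, mul_one, mul_inv_cancel]
      have hfm : f ^ r ^ m ∈ X := by
        rw [eq_inv_of_mul_eq_one_left hpw]; exact inv_mem (pow_mem hsl _)
      obtain ⟨k, hk⟩ := exists_pow_eq_self_of_coprime (x := f) (n := r ^ m)
        (((hf.2.2 r L hr hr2 hL hLY).symm).pow_left m)
      show y * l * y⁻¹ ∈ X
      rw [he]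
      exact mul_mem (hk ▸ pow_mem hfm k) hsl
    exact hle hq
  have hXg : ∀ g : G, (∀ r L, r.Prime → r ≠ 2 → Linked i j r L → L ≤ Y →
      ∀ u ∈ L, g * u * g⁻¹ ∈ L) → ∀ x ∈ X, g * x * g⁻¹ ∈ X := by
    intro g hg x hx
    have hle : X ≤ X.comap (MulAut.conj g).toMonoidHom := hXle _ fun L r hr hr2 hL hLY =>
      fun l hl => hLX hr hr2 hL hLY (hg r L hr hr2 hL hLY l hl)
    exact hle hx
  have hLS : ∀ r L, r.Prime → Linked i j r L → L ≤ Y →
      ∀ s ∈ (S : Subgroup G), ∀ u ∈ L, s * u * s⁻¹ ∈ L := fun r L hr hL hLY => by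
    haveI := Fact.mk hr
    exact hL.toMaxPV.conj_mem_of_le hLY hfpf S hiS hjS hYs
  refine C.false_of_invariant hV S hSi hiS hjS (hYodd.of_dvd_nat (card_dvd_of_le hXY))
    (fun h => hQ.ne_bot (le_bot_iff.1 (h ▸ hLX hp.out hp2 hQ (hQY0.trans hY0Y))))
    (fun s hs => hXg s fun r L hr _ hL hLY => hLS r L hr hL hLY s hs)
    (fun r hr hri => hYn r (hY0Y (hRY0 r hr hri))) ?_ ht₀ ha ha1 hat
  intro k hk hVk
  obtain ⟨h, hhi, hhk⟩ := C.exists_cycle hVk
  refine ⟨h, hhi, hXg h fun r L hr hr2 hL hLY => ?_⟩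
  haveI := Fact.mk hr
  exact (hL.change C hV hr2 hVk (hLS r L hr hL hLY k hk)).cycle_mem C hVk hr2 hhi hhk

/-- An element of odd order other than `1` commutes with at most one involution. -/
theorem Ctx.eq_of_comm (C : Ctx G) {t t' a : G} (ht : orderOf t = 2) (ht' : orderOf t' = 2)
    (ha : Odd (orderOf a)) (ha1 : a ≠ 1) (hat : a * t = t * a) (hat' : a * t' = t' * a) :
    t = t' := by
  by_contra hne
  obtain ⟨p, hp, hp2, i, j, Q, hV, hQ⟩ := C.exists_linked ht ht' hne ha ha1 hat hat'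
  haveI := Fact.mk hp
  by_cases hall : ∀ (r : ℕ) (i j : G) (Q : Subgroup G), r.Prime → r ≠ 2 → Four i j →
      Linked i j r Q → ∀ u ∈ Q, ∀ v ∈ Q, u * v = v * u
  · exact C.false_of_abelian hall hp2 hV hQ ht ha ha1 hat
  · simp only [not_forall] at hall
    obtain ⟨r, i', j', Q', hr, hr2, hV', hQ', u, hu, v, hv, huv⟩ := hall
    haveI := Fact.mk hr
    exact C.false_of_nonabelian hr2 hV' hQ' (fun h => huv (h u hu v hv)) ht ha ha1 hat

end CfsgLib.DGroupCent
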