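import Cfsg.Agent.DGroupCent.TwoClasses
import Cfsg.Agent.TwoGroups.Semidihedral
import Cfsg.Agent.Inv53.SmallCentralizer
import Cfsg.Agent.Inv54.CentralizerFour
import Cfsg.Agent.S0201

/-!
# An involution with generalised dihedral centraliser

A finite group with such an involution is solvable or, modulo its odd core, isomorphic to
`PSL(2, q)` or `PGL(2, q)`.
-/

set_option autoImplicit false
set_option linter.style.haveILetI false

namespace CfsgLib.DGroupCent

open Subgroup CfsgLib.TwoGroups

universe u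

variable {G : Type u} [Group G] [Finite G] {t z : G} {A : Subgroup G}

/-- One class of involutions. -/
theorem pslish_one (hO : Cfsg.oddCore G = ⊥) (hns : ¬ Group.IsSolvable G)
    (ih : ∀ M : Subgroup G, M ≠ ⊤ → D2 M → Good M) (hA : GD (centralizer ({t} : Set G)) A t)
    {s : G} (hV : Four t s) (one : ∀ a b : G, orderOf a = 2 → orderOf b = 2 → IsConj a b) :
    PSLish G := by
  refine Ctx.pslish ⟨hO, one, fun i hi => ?_, ih⟩ hV hns
  obtain ⟨g, rfl⟩ := isConj_iff.1 (one t i hA.ht hi)
  refine ⟨A.map (MulAut.conj g).toMonoidHom, ?_⟩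
  have h := hA.map (f := (MulAut.conj g).toMonoidHom) (MulAut.conj g).injective
  have e : (centralizer ({t} : Set G)).map (MulAut.conj g).toMonoidHom =
      centralizer ({g * t * g⁻¹} : Set G) := by
    ext x
    rw [mem_map_equiv, mem_centralizer_singleton_iff, mem_centralizer_singleton_iff]
    simp only [MulAut.conj_symm_apply]
    constructor <;> intro h
    · calc x * (g * t * g⁻¹) = g * (g⁻¹ * x * g * t) * g⁻¹ := by group
        _ = g * t * g⁻¹ * x := by rw [h]; group
    · calc g⁻¹ * x * g * t = g⁻¹ * (x * (g * t * g⁻¹)) * g := by group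
        _ = t * (g⁻¹ * x * g) := by rw [h]; group
  rwa [e] at h

/-- Quasidihedral Sylow subgroups do not occur. -/
theorem solvable_of_quasiDihedral (hO : Cfsg.oddCore G = ⊥)
    (hA : GD (centralizer ({t} : Set G)) A t) (hV : Four t z) (hzA : z ∉ A) (S : Sylow 2 G)
    (htS : t ∈ (S : Subgroup G)) (hzS : z ∈ (S : Subgroup G))
    (hzc : ∀ s ∈ (S : Subgroup G), s * z = z * s) (hnc : ¬ IsConj z t)
    (hqd : Cfsg.IsQuasiDihedral (S : Subgroup G)) : Group.IsSolvable G := by
  by_contra hns
  haveI : Fact (Nat.Prime 2) := ⟨Nat.prime_two⟩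
  obtain ⟨n, x, y, d⟩ := exists_sdPair hqd
  set zS : (S : Subgroup G) := ⟨z, hzS⟩
  set tS : (S : Subgroup G) := ⟨t, htS⟩
  have hzS2 : orderOf zS = 2 := by rw [orderOf_mk, hV.hj]
  have htS2 : orderOf tS = 2 := by rw [orderOf_mk, hV.hi]
  have hzh : zS = x ^ hh n := by
    have hc : zS ∈ center (S : Subgroup G) :=
      mem_center_iff.2 fun s => Subtype.ext (hzc s s.2)
    rw [d.center_eq] at hc
    obtain ⟨k, hk⟩ := mem_zpowers_iff.1 hc
    rcases Int.even_or_odd' k with ⟨m, rfl | rfl⟩
    · exfalso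
      refine ne_one_of_orderOf hzS2 ?_
      rw [← hk, ← zpow_mul, d.zpow_eq_one]
      exact ⟨m, by ring⟩
    · rw [← hk, ← zpow_mul, d.zpow_eq]
      exact ⟨-m, by ring⟩
  have htne : tS ≠ x ^ hh n := fun e => hV.ne (congrArg Subtype.val (e.trans hzh.symm))
  obtain ⟨i₀, hi₀, hti⟩ := (d.orderOf_eq_two_iff.1 htS2).resolve_left htne
  -- a subgroup of index two avoiding `t`
  set M := (zpowers x).map (S : Subgroup G).subtype with hM
  have hMidx : M.index = 2 * (S : Subgroup G).index := by
    rw [hM, index_map_subtype, d.index_zpowers]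
  have hnot : ∀ g : G, g⁻¹ * t * g ∉ M := by
    intro g hg
    obtain ⟨w, hw, hwe⟩ := hg
    have hw2 : orderOf w = 2 := by
      rw [← orderOf_coe, show (w : G) = g⁻¹ * t * g⁻¹⁻¹ by rw [inv_inv]; exact hwe, orderOf_conj,
        hV.hi]
    rcases d.orderOf_eq_two_iff.1 hw2 with rfl | ⟨i, -, rfl⟩
    · refine hnc (isConj_iff.2 ⟨g, ?_⟩)
      have hwz : z = g⁻¹ * t * g := (congrArg Subtype.val hzh).trans hwe
      rw [hwz]; group
    · exact d.zpow_y_notMem i hw
  obtain ⟨K, hK, htK⟩ := CfsgLib.Inv54.exists_index_two_not_mem M hV.hi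
    (Nat.odd_iff.2 (Nat.two_dvd_ne_zero.1 S.not_dvd_index)) hMidx hnot
  haveI := normal_of_index_eq_two hK
  have hnsK := nonsolvable_of_index_two hK hns
  have hOK := oddCore_normal_subgroup hO K
  have hzK : z ∈ K := by
    have h : zS = x ^ qq n * x ^ qq n := by rw [hzh, ← zpow_add, d.hh_eq]; congr 1; ring
    have h' : z = ((x ^ qq n : (S : Subgroup G)) : G) * ((x ^ qq n : (S : Subgroup G)) : G) :=
      congrArg Subtype.val h
    rw [h']; exact mul_self_mem_of_index_two hK _
  -- the only involution of `S` in `K` is `z`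
  have huniq : ∀ s ∈ (S : Subgroup G), s ∈ K → orderOf s = 2 → s = z := by
    intro s hs hsK hs2
    rcases d.orderOf_eq_two_iff.1 (show orderOf (⟨s, hs⟩ : (S : Subgroup G)) = 2 by
      rw [orderOf_mk, hs2]) with e | ⟨i, hi, e⟩
    · exact congrArg Subtype.val (e.trans hzh.symm)
    · refine absurd ?_ htK
      obtain ⟨j, hj⟩ := d.exists_conj (i := i) (i' := i₀) (dvd_sub hi₀ hi)
      rw [← hti, ← e] at hj
      have hj' : ((x ^ j : (S : Subgroup G)) : G) * s * ((x ^ j : (S : Subgroup G)) : G)⁻¹ = t :=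
        congrArg Subtype.val hj
      exact hj' ▸ (inferInstance : K.Normal).conj_mem s hsK _
  obtain ⟨⟨P, hP⟩, -⟩ := exists_sylow_index_two S hK
  have huP : ∀ p : G, ∀ hp : p ∈ K, (⟨p, hp⟩ : K) ∈ (P : Subgroup K) → orderOf p = 2 → p = z := by
    intro p hp hpP hp2
    rw [hP] at hpP
    exact huniq p hpP hp hp2
  have hu : CfsgLib.TwoGroupsQ.HasUniqueOrderP (P : Subgroup K) 2 :=
    CfsgLib.TwoGroupsQ.hasUniqueOrderP_two fun a b ha ha1 hb hb1 => by
      have key : ∀ a : (P : Subgroup K), a ^ 2 = 1 → a ≠ 1 → ((a : K) : G) = z :=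
        fun a ha ha1 => huP _ (a : K).2 a.2 (by
          rw [orderOf_coe, orderOf_coe]; exact orderOf_eq_prime ha ha1)
      exact Subtype.ext (Subtype.ext ((key a ha ha1).trans (key b hb hb1).symm))
  have h2K : 2 ∣ Nat.card K := by
    have h := orderOf_dvd_natCard (⟨z, hzK⟩ : K)
    rwa [orderOf_mk, hV.hj] at h
  rcases CfsgLib.TwoGroupsQ.isCyclic_or_quaternion P.isPGroup' hu with hcyc | ⟨-, m, hm, ⟨e⟩⟩
  · exact hnsK (solvable_of_complement hOK P
      (IsCyclic.isComplement' (P := P) ((Nat.minFac_eq_two_iff _).2 h2K) hcyc))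
  obtain ⟨m, rfl⟩ := Nat.exists_eq_add_of_le' hm
  have hcard := Cfsg.Agent.S0201.result P m e fun N hN hodd => by
    haveI := hN
    exact le_bot_iff.1 (hOK ▸ oddCore_le_of_odd hodd)
  obtain ⟨c, hc⟩ := exists_prime_orderOf_dvd_card' (G := center K) 2 (dvd_of_eq hcard.symm)
  have hzcen : (⟨z, hzK⟩ : K) ∈ center K := by
    have hZp : IsPGroup 2 (center K) := IsPGroup.of_card (n := 1) (by rw [hcard, pow_one])
    have hle : center K ≤ (P : Subgroup K) := by
      have := P.is_maximal' (P.isPGroup'.to_sup_of_normal_right hZp) le_sup_left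
      exact le_sup_right.trans this.le
    have hcz : ((c : K) : G) = z := huP _ (c : K).2 (hle c.2) (by rw [orderOf_coe, orderOf_coe, hc])
    exact (Subtype.ext hcz : (c : K) = ⟨z, hzK⟩) ▸ c.2
  have hzall : ∀ g : G, g * z = z * g := by
    intro g
    have hgz : g * z * g⁻¹ ∈ K := (inferInstance : K.Normal).conj_mem z hzK g
    have hcen : (⟨g * z * g⁻¹, hgz⟩ : K) ∈ center K := by
      refine mem_center_iff.2 fun k => Subtype.ext ?_
      have hk : g⁻¹ * k * g ∈ K := by
        simpa using (inferInstance : K.Normal).conj_mem k k.2 g⁻¹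
      have h := congrArg Subtype.val (mem_center_iff.1 hzcen ⟨_, hk⟩)
      change g⁻¹ * k * g * z = z * (g⁻¹ * k * g) at h
      show (k : G) * (g * z * g⁻¹) = g * z * g⁻¹ * k
      calc (k : G) * (g * z * g⁻¹) = g * (g⁻¹ * k * g * z) * g⁻¹ := by group
        _ = g * z * g⁻¹ * k := by rw [h]; group
    obtain ⟨w₀, -, hw₀⟩ := (Nat.card_eq_two_iff' (1 : center K)).1 hcard
    have hz1 : (⟨⟨z, hzK⟩, hzcen⟩ : center K) ≠ 1 := fun e =>
      ne_one_of_orderOf hV.hj (congrArg (fun v : center K => ((v : K) : G)) e)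
    have key : ∀ w : center K, w = 1 ∨ w = ⟨⟨z, hzK⟩, hzcen⟩ := fun w =>
      or_iff_not_imp_left.2 fun hw => (hw₀ w hw).trans (hw₀ _ hz1).symm
    rcases key ⟨_, hcen⟩ with e | e
    · have h : g * z * g⁻¹ = 1 := congrArg (fun v : center K => ((v : K) : G)) e
      exact absurd (conj_eq_one_iff.1 h) (ne_one_of_orderOf hV.hj)
    · have h : g * z * g⁻¹ = z := congrArg (fun v : center K => ((v : K) : G)) e
      exact mul_inv_eq_iff_eq_mul.1 h
  refine hns (CfsgLib.Inv54.isSolvable_of_index_two_centralizer_le_four (Nat.card G) le_rfl K hK t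
    hV.hi htK ?_)
  calc Nat.card (centralizer ({t} : Set G)) ≤ Nat.card (closure ({t, z} : Set G)) :=
        card_le_of_le fun c hc => by
          rcases hA.commute_out (mem_centralizer_singleton_iff.2 hV.comm.symm) hzA hc (hzall c)
            with e | e | e | e <;> rw [e]
          · exact one_mem _
          · exact subset_closure (by simp)
          · exact subset_closure (by simp)
          · exact mul_mem (subset_closure (by simp)) (subset_closure (by simp))
    _ = 4 := by
      rw [Nat.card_congr (CfsgLib.Small.closurePairEquivDihedral hV.hi hV.hj hV.ne).toEquiv,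
        DihedralGroup.nat_card, hV.hk]

/-- The reduced case. -/
theorem pslish_of_d2 (hO : Cfsg.oddCore G = ⊥) (hns : ¬ Group.IsSolvable G)
    (ih : ∀ M : Subgroup G, M ≠ ⊤ → D2 M → Good M) (hA : GD (centralizer ({t} : Set G)) A t) :
    PSLish G := by
  haveI : Fact (Nat.Prime 2) := ⟨Nat.prime_two⟩
  obtain ⟨τ, hτC, hτA⟩ := hA.out
  have hV : Four t τ := ⟨hA.ht, hA.orderOf_out hτC hτA, fun e => hτA (e ▸ hA.tA),
    (hA.t_comm hτC).symm⟩
  set C := centralizer ({t} : Set G)
  have hVC : closure ({t, τ} : Set G) ≤ C := by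
    rw [closure_le]
    rintro x (rfl | rfl)
    exacts [mem_centralizer_singleton_iff.2 rfl, hτC]
  obtain ⟨R, hR⟩ := (hV.isPGroup.comap_subtype (K := C)).exists_le_sylow
  obtain ⟨S, hS⟩ := (R.isPGroup'.map C.subtype).exists_le_sylow
  have hVS : closure ({t, τ} : Set G) ≤ (S : Subgroup G) := fun x hx =>
    hS ⟨⟨x, hVC hx⟩, hR (mem_subgroupOf.2 hx), rfl⟩
  have htS : t ∈ (S : Subgroup G) := hVS (subset_closure (by simp))
  have hτS : τ ∈ (S : Subgroup G) := hVS (subset_closure (by simp))
  by_cases hcen : (S : Subgroup G) ≤ C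
  · -- `t` is central in the Sylow subgroup
    obtain ⟨n, hn, ⟨eS⟩⟩ := dihedral_of_gd hA hV hτA S hcen htS hτS
    rcases classes_cases hO hns S hn eS with h | ⟨h4n, ⟨G0, hG0, hi⟩, h4⟩
    · exact pslish_one hO hns ih hA hV h
    haveI := hG0
    haveI : NeZero n := ⟨by omega⟩
    obtain ⟨σ, z, y, d, -⟩ := exists_twoData hO hns S eS h4n hi h4
    have htz : t = z := d.eq_z htS hA.ht fun s hs => mem_centralizer_singleton_iff.1 (hcen hs)
    subst htz
    have hyA : y ∉ A := fun h => by
      rcases hA.uniq y h (mul_self_of_orderOf (d.orderOf_out d.yS d.yσ)) with e | e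
      · exact ne_one_of_orderOf (d.orderOf_out d.yS d.yσ) e
      · exact d.yσ (e ▸ d.z_mem_zpowers)
    have hd2 : D2 G0 := hA.d2_subgroup G0 d.zG (d.central y d.yS) hyA d.yG
    refine pslish_of_index_two hO S eS hi h4
      (ih G0 (fun e => absurd (index_eq_one.2 e) (by omega)) hd2) hns
      (d.centralizer_eq_bot fun x hx => hA.commute_out (hcen d.yS) hyA
        (mem_centralizer_singleton_iff.2 (mem_centralizer_iff.1 hx t d.zG).symm)
        (mem_centralizer_iff.1 hx y d.yG).symm)
      (x := y * σ) (fun h => d.σG (by simpa using mul_mem (inv_mem d.yG) h)) ?_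
    exact ((d.cases _ (mul_mem d.yS d.σS)).resolve_left
      fun h => d.yσ (by simpa using mul_mem h (inv_mem (mem_zpowers σ)))).1
  -- a central involution of the Sylow subgroup is outside `A`
  haveI : Nontrivial (S : Subgroup G) :=
    ⟨⟨⟨t, htS⟩, 1, fun e => ne_one_of_orderOf hA.ht (congrArg Subtype.val e)⟩⟩
  haveI := S.isPGroup'.center_nontrivial
  obtain ⟨c, hc⟩ := exists_prime_orderOf_dvd_card' (G := center (S : Subgroup G)) 2 (by
    obtain ⟨k, hk, hk'⟩ := (S.isPGroup'.to_subgroup
      (center (S : Subgroup G))).nontrivial_iff_card.1 inferInstance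
    exact hk' ▸ dvd_pow_self 2 hk.ne')
  set z := ((c : (S : Subgroup G)) : G) with hz
  have hz2 : orderOf z = 2 := by rw [hz, orderOf_coe, orderOf_coe, hc]
  have hzS : z ∈ (S : Subgroup G) := SetLike.coe_mem _
  have hzc : ∀ s ∈ (S : Subgroup G), s * z = z * s := fun s hs =>
    congrArg Subtype.val (mem_center_iff.1 c.2 ⟨s, hs⟩)
  have hzt : z ≠ t := fun e => hcen fun s hs => mem_centralizer_singleton_iff.2 (e ▸ hzc s hs)
  have hzC : z ∈ C := mem_centralizer_singleton_iff.2 (hzc t htS).symm
  have hzA : z ∉ A := fun h => by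
    rcases hA.uniq z h (mul_self_of_orderOf hz2) with e | e
    · exact ne_one_of_orderOf hz2 e
    · exact hzt e
  have hVz : Four t z := ⟨hA.ht, hz2, hzt.symm, hzc t htS⟩
  have hnc : ¬ IsConj z t := by
    intro h
    obtain ⟨g, hg⟩ := isConj_iff.1 h
    have hgS : ((g • S : Sylow 2 G) : Subgroup G) ≤ C := by
      rw [Sylow.coe_subgroup_smul]
      rintro x ⟨s, hs, rfl⟩
      refine mem_centralizer_singleton_iff.2 ?_
      show g * s * g⁻¹ * t = t * (g * s * g⁻¹)
      rw [← hg, show g * s * g⁻¹ * (g * z * g⁻¹) = g * (s * z) * g⁻¹ by group, hzc s hs]; group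
    have h1 : Nat.card ((g • S : Sylow 2 G) : Subgroup G) = Nat.card R :=
      (Nat.card_congr (((g • S : Sylow 2 G).subtype hgS).equiv R).toEquiv).symm.trans
        ?_ |>.symm
    · have h2 : (R : Subgroup C).map C.subtype = (S : Subgroup G) := eq_of_le_of_card_ge hS (by
        rw [card_map_of_injective C.subtype_injective, ← h1,
          Nat.card_congr ((g • S : Sylow 2 G).equiv S).toEquiv])
      exact hcen (h2 ▸ map_subtype_le _)
    · exact Nat.card_congr (subgroupOfEquivOfLe hgS).toEquiv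
  have hC4 : Nat.card (centralizer ({(⟨t, htS⟩ : (S : Subgroup G))} : Set (S : Subgroup G))) = 4 := by
    rw [← centralizer_subgroupOf (S : Subgroup G) htS]
    have he : C.subgroupOf (S : Subgroup G) = (closure ({t, z} : Set G)).subgroupOf (S : Subgroup G) := by
      ext s
      simp only [mem_subgroupOf]
      refine ⟨fun hs => ?_, fun hs => ?_⟩
      · rcases hA.commute_out hzC hzA hs (hzc s s.2) with e | e | e | e <;> rw [e]
        · exact one_mem _
        · exact subset_closure (by simp)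
        · exact subset_closure (by simp)
        · exact mul_mem (subset_closure (by simp)) (subset_closure (by simp))
      · refine (closure_le C).2 ?_ hs
        rintro x (rfl | rfl)
        exacts [mem_centralizer_singleton_iff.2 rfl, hzC]
    rw [he, Nat.card_congr (subgroupOfEquivOfLe (by
        rw [closure_le]; rintro x (rfl | rfl); exacts [htS, hzS])).toEquiv,
      Nat.card_congr (CfsgLib.Small.closurePairEquivDihedral hVz.hi hVz.hj hVz.ne).toEquiv,
      DihedralGroup.nat_card, hVz.hk]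
  rcases CfsgLib.Inv53.dihedral_quasi_or_four S.isPGroup' (⟨t, htS⟩ : (S : Subgroup G))
    (by rw [orderOf_mk, hA.ht]) hC4 with ⟨n, ⟨eS⟩⟩ | hqd | h4
  rotate_left
  · exact absurd (solvable_of_quasiDihedral hO hA hVz hzA S htS hzS hzc hnc hqd) hns
  · exfalso
    refine hcen fun s hs => mem_centralizer_singleton_iff.2 ?_
    have htop : centralizer ({(⟨t, htS⟩ : (S : Subgroup G))} : Set (S : Subgroup G)) = ⊤ :=
      (card_eq_iff_eq_top _).1 (hC4.trans h4.symm)
    have hmem : (⟨s, hs⟩ : (S : Subgroup G)) ∈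
        centralizer ({(⟨t, htS⟩ : (S : Subgroup G))} : Set (S : Subgroup G)) := by
      rw [htop]; exact mem_top _
    exact congrArg Subtype.val (mem_centralizer_singleton_iff.1 hmem)
  have hn : 2 ≤ n := by
    by_contra hn
    obtain rfl | rfl : n = 0 ∨ n = 1 := by omega
    · haveI := Finite.of_equiv _ eS.toEquiv
      exact not_finite (DihedralGroup 0)
    · have h1 := card_dvd_of_le (le_top : centralizer ({(⟨t, htS⟩ : (S : Subgroup G))} :
        Set (S : Subgroup G)) ≤ ⊤)
      rw [hC4, card_top, Nat.card_congr eS.toEquiv, DihedralGroup.nat_card] at h1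
      norm_num at h1
  rcases classes_cases hO hns S hn eS with h | ⟨h4n, ⟨G0, hG0, hi⟩, h4⟩
  · exact absurd (h z t hz2 hA.ht) hnc
  haveI := hG0
  haveI : NeZero n := ⟨by omega⟩
  obtain ⟨σ, z₀, y, d, P, m, hm, hP, ⟨e0⟩⟩ := exists_twoData hO hns S eS h4n hi h4
  have hzz : z = z₀ := d.eq_z hzS hz2 hzc
  have htσ : t ∉ zpowers σ := fun h =>
    hzt (hzz.trans ((d.uniq t htS h (mul_self_of_orderOf hA.ht)).resolve_left
      (ne_one_of_orderOf hA.ht)).symm)
  obtain ⟨hd2, hCbot⟩ := d.d2 hO hn eS hm hP e0 hA.ht htS htσ fun c hc hcz hct => by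
    rw [← hzz] at hcz
    rcases hA.commute_out hzC hzA (mem_centralizer_singleton_iff.2 hct) hcz with e | e | e | e
    · exact e
    all_goals
      exfalso
      rw [e] at hc
      first
        | (rw [hA.ht] at hc; exact absurd hc (by decide))
        | (rw [hz2] at hc; exact absurd hc (by decide))
        | (rw [hVz.hk] at hc; exact absurd hc (by decide))
  refine pslish_of_index_two hO S eS hi h4
    (ih G0 (fun e => absurd (index_eq_one.2 e) (by omega)) hd2) hns hCbot
    (x := y * σ) (fun h => d.σG (by simpa using mul_mem (inv_mem d.yG) h)) ?_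
  exact ((d.cases _ (mul_mem d.yS d.σS)).resolve_left
    fun h => d.yσ (by simpa using mul_mem h (inv_mem (mem_zpowers σ)))).1

theorem good_of_d2_aux : ∀ (n : ℕ) {G : Type u} [Group G] [Finite G], Nat.card G ≤ n → D2 G →
    Good G := by
  intro n
  induction n with
  | zero =>
    intro G _ _ hle _
    exact absurd (Nat.card_pos (α := G)) (by omega)
  | succ n ih =>
    intro G _ _ hle ⟨t, A, hA⟩
    refine or_iff_not_imp_left.2 fun hns => ?_
    by_cases hO : Cfsg.oddCore G = ⊥
    · refine pslish_of_d2 hO hns (fun M hM hd => ih ?_ hd) hA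
      have h := M.card_mul_index
      have h1 : M.index ≠ 1 := fun e => hM (index_eq_one.1 e)
      have h2 := index_ne_zero_of_finite (H := M)
      have h3 : 2 ≤ M.index := by omega
      nlinarith [Nat.card_pos (α := M)]
    · set f := QuotientGroup.mk' (Cfsg.oddCore G)
      have hf : Function.Surjective f := QuotientGroup.mk'_surjective _
      have hodd : Odd (Nat.card f.ker) := by
        rw [QuotientGroup.ker_mk']; exact CfsgLib.TwoGroups.odd_card_oddCore
      have hlt : Nat.card (G ⧸ Cfsg.oddCore G) ≤ n := by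
        have h := (Cfsg.oddCore G).card_mul_index
        rw [index_eq_card] at h
        have h1 : Nat.card (Cfsg.oddCore G) ≠ 1 := fun e => hO (eq_bot_of_card_eq _ e)
        have h2 := Nat.card_pos (α := Cfsg.oddCore G)
        have h3 : 2 ≤ Nat.card (Cfsg.oddCore G) := by omega
        nlinarith [Nat.card_pos (α := G ⧸ Cfsg.oddCore G)]
      haveI hsolO : Group.IsSolvable (Cfsg.oddCore G) :=
        solvable_of_odd CfsgLib.TwoGroups.odd_card_oddCore
      rcases ih hlt ⟨f t, A.map f, hA.quot hf hodd⟩ with h | ⟨F, fF, fFin, hF, h3, hiso⟩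
      · exact absurd ((Group.isSolvable_iff_subgroup_quotient _).2 ⟨hsolO, h⟩) hns
      · have hO' : Cfsg.oddCore (G ⧸ Cfsg.oddCore G) = ⊥ :=
          CfsgLib.PLocal.pPrimeCore_quotient_pPrimeCore_eq_bot 2 G
        have e : (G ⧸ Cfsg.oddCore G) ⧸ Cfsg.oddCore (G ⧸ Cfsg.oddCore G) ≃* G ⧸ Cfsg.oddCore G :=
          (QuotientGroup.quotientMulEquivOfEq hO').trans QuotientGroup.quotientBot
        exact ⟨F, fF, fFin, hF, h3, hiso.imp (fun h => h.map e.symm.trans) fun h => h.map e.symm.trans⟩

/-- A finite group with an involution whose centraliser is generalised dihedral is solvable or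
`PSL(2, q)` or `PGL(2, q)` modulo its odd core. -/
theorem good_of_d2 (h : D2 G) : Good G := good_of_d2_aux _ le_rfl h

end CfsgLib.DGroupCent
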