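import Cfsg.Agent.DGroupCent.Link
import Cfsg.Agent.Classification.PSLTwoGeneral.Main
import Cfsg.Agent.BSW.Theorem
import Cfsg.Agent.DicksonPSL2.Subfield
import Cfsg.Agent.Characters.Burnside

/-!
# One class of involutions
-/

set_option autoImplicit false
set_option linter.style.haveILetI false

namespace CfsgLib.DGroupCent

open Subgroup CfsgLib.DicksonPSL2

/-- A nonsolvable group in the minimal situation is `PSL(2, q)`. -/
theorem Ctx.pslish {G : Type*} [Group G] [Finite G] (C : Ctx G) {t s : G} (hV : Four t s)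
    (hns : ¬ Group.IsSolvable G) : PSLish G := by
  obtain ⟨A, hA, hsA⟩ := C.gdall t s hV.hi hV.hj hV.ne hV.comm
  have hsC : s ∈ centralizer ({t} : Set G) := mem_centralizer_singleton_iff.2 hV.comm.symm
  have hH : A ⊔ zpowers s = centralizer ({t} : Set G) := by
    refine le_antisymm (sup_le hA.le (zpowers_le.2 hsC)) fun y hy => ?_
    by_cases hyA : y ∈ A
    · exact mem_sup_left hyA
    · have h := mul_mem (mem_sup_right (mem_zpowers s) : s ∈ A ⊔ zpowers s)
        (mem_sup_left (hA.prod s hsC hsA y hy hyA))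
      rwa [← mul_assoc, mul_self_of_orderOf hV.hj, one_mul] at h
  have hCK : A ⊓ centralizer ({s} : Set G) = zpowers t := by
    refine le_antisymm (fun x hx => ?_) (zpowers_le.2 (mem_inf.2 ⟨hA.tA,
      mem_centralizer_singleton_iff.2 hV.comm⟩))
    rcases hA.commute_out hsC hsA (hA.le hx.1) (mem_centralizer_singleton_iff.1 hx.2) with
      rfl | rfl | rfl | rfl
    · exact one_mem _
    · exact mem_zpowers _
    · exact absurd hx.1 hsA
    · exact absurd (by simpa using mul_mem (inv_mem hA.tA) hx.1) hsA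
  have hTI : ∀ g : G, g ∉ centralizer ({t} : Set G) →
      A ⊓ A.map (MulAut.conj g).toMonoidHom = ⊥ := by
    intro g hg
    refine le_bot_iff.1 ?_
    rintro _ ⟨hxA, y, hy, rfl⟩
    rw [mem_bot]
    by_contra hx1
    set x := g * y * g⁻¹
    have hne : t ≠ g * t * g⁻¹ := fun e =>
      hg (mem_centralizer_singleton_iff.2 (mul_inv_eq_iff_eq_mul.1 e.symm))
    rcases Nat.even_or_odd (orderOf x) with he | ho
    · obtain ⟨m, hm⟩ := he
      have hpow : orderOf (x ^ m) = 2 := by
        have h2 := orderOf_pow_orderOf_div (n := 2) (orderOf_pos x).ne' ⟨m, by omega⟩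
        rwa [show orderOf x / 2 = m by omega] at h2
      have h1 : x ^ m = t :=
        (hA.uniq _ (pow_mem hxA m) (mul_self_of_orderOf hpow)).resolve_left (ne_one_of_orderOf hpow)
      have h2 : x ^ m = g * y ^ m * g⁻¹ := conj_pow
      rw [h2, orderOf_conj] at hpow
      have h3 : y ^ m = t :=
        (hA.uniq _ (pow_mem hy m) (mul_self_of_orderOf hpow)).resolve_left (ne_one_of_orderOf hpow)
      exact hne (h1.symm.trans (by rw [h2, h3]))
    · refine hne (C.eq_of_comm hV.hi (by rw [orderOf_conj, hV.hi]) ho hx1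
        (hA.comm x hxA t hA.tA) ?_)
      show g * y * g⁻¹ * (g * t * g⁻¹) = g * t * g⁻¹ * (g * y * g⁻¹)
      rw [show g * y * g⁻¹ * (g * t * g⁻¹) = g * (y * t) * g⁻¹ by group, hA.comm y hy t hA.tA]
      group
  have h12 : Nat.card G ≠ 12 := fun e => hns (by
    haveI : Fact (Nat.Prime 2) := ⟨Nat.prime_two⟩
    exact CfsgLib.Characters.isSolvable_of_card_eq_primePow_mul 2 3 2 1 Nat.prime_two Nat.prime_three
      (by rw [e]; norm_num))
  obtain ⟨F, fF, fFin, hodd, ⟨e⟩⟩ :=
    CfsgLib.Classification.PSLTwoGeneral.exists_equiv_of_conclusion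
      (CfsgLib.BSW.conclusion_of_centralizer t hV.hi A
        ⟨⟨fun a b => Subtype.ext (hA.comm a a.2 b b.2)⟩⟩ hA.le hA.tA s hV.hj hsC hsA hH hCK
        (fun x hx => hA.inverts hsC hsA hx) hTI C.one) h12
  refine ⟨F, fF, fFin, hodd, ?_, Or.inl ⟨(QuotientGroup.quotientMulEquivOfEq C.core).trans
    (QuotientGroup.quotientBot.trans e)⟩⟩
  by_contra hlt
  have h1 : 1 < Fintype.card F := Fintype.one_lt_card
  obtain ⟨k, hk⟩ := hodd
  have h3 : Fintype.card F = 3 := by omega
  have h := card_PSL_formula F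
  rw [h3, ← Nat.card_congr e.toEquiv] at h
  norm_num at h
  exact h12 (by omega)

end CfsgLib.DGroupCent
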