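import Cfsg.Agent.DicksonPSL2.PGLStructure
import Cfsg.Agent.DicksonPSL2.InvolutionGraph
import Cfsg.Agent.DicksonPSL2.Borel
import Cfsg.Agent.Linear.SL2Sylow
import Cfsg.Agent.Linear.Perfect

/-!
# Facts about `PSL(2, q)` and `PGL(2, q)` for odd `q`
-/

set_option autoImplicit false
set_option linter.style.haveILetI false
set_option linter.unusedSectionVars false

namespace CfsgLib.DGroupCent.Psl

open Matrix CfsgLib.SL2Trace CfsgLib.DicksonPSL2
open CfsgLib.DicksonPSL2.InvolutionGraph (tr_eq' tr_eq_zero)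
open CfsgLib.SL2Tori (tr)
open scoped MatrixGroups

variable {F : Type*} [Field F] [Fintype F]

theorem two_ne (hodd : Odd (Fintype.card F)) : (2 : F) ≠ 0 :=
  Linear.two_ne_zero_of_odd hodd

theorem card_eq_two_mul (hodd : Odd (Fintype.card F)) :
    Fintype.card F = 2 * ((Fintype.card F - 1) / 2) + 1 := by
  obtain ⟨k, hk⟩ := hodd
  omega

/-- `c ^ ((q - 1) / 2) = ± 1`. -/
theorem pow_half (hodd : Odd (Fintype.card F)) {c : F} (hc : c ≠ 0) :
    c ^ ((Fintype.card F - 1) / 2) = 1 ∨ c ^ ((Fintype.card F - 1) / 2) = -1 := by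
  refine mul_self_eq_one_iff.1 ?_
  rw [← pow_add, ← two_mul,
    show 2 * ((Fintype.card F - 1) / 2) = Fintype.card F - 1 by have := card_eq_two_mul hodd; omega]
  exact FiniteField.pow_card_sub_one_eq_one c hc

/-- Centralizers of a trace zero matrix. -/
theorem matrix_pow (hodd : Odd (Fintype.card F)) {M N : Matrix (Fin 2) (Fin 2) F} {c : F}
    (htr : M 1 1 = -M 0 0) (hM : M * M = c • 1)
    (hns : M 0 1 ≠ 0 ∨ M 1 0 ≠ 0 ∨ M 0 0 ≠ 0) (hcomm : N * M = M * N) (hN : N.det ≠ 0) :
    (c ^ ((Fintype.card F - 1) / 2) = 1 → N ^ (Fintype.card F - 1) = 1) ∧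
      (c ^ ((Fintype.card F - 1) / 2) = -1 → N ^ (Fintype.card F + 1) = N.det • 1) := by
  have h2 := two_ne hodd
  -- `N` is a linear combination of `1` and `M`
  have e00 := congrFun (congrFun hcomm 0) 0
  have e01 := congrFun (congrFun hcomm 0) 1
  have e10 := congrFun (congrFun hcomm 1) 0
  simp [Matrix.mul_apply, Fin.sum_univ_two, htr] at e00 e01 e10
  obtain ⟨a, b, hab⟩ : ∃ a b : F, N = a • 1 + b • M := by
    rcases hns with h | h | h
    · refine ⟨N 0 0 - N 0 1 / M 0 1 * M 0 0, N 0 1 / M 0 1, ?_⟩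
      ext i j
      fin_cases i <;> fin_cases j <;> simp [htr] <;> field_simp <;> grind
    · refine ⟨N 0 0 - N 1 0 / M 1 0 * M 0 0, N 1 0 / M 1 0, ?_⟩
      ext i j
      fin_cases i <;> fin_cases j <;> simp [htr] <;> field_simp <;> grind
    · refine ⟨(N 0 0 + N 1 1) / 2, (N 0 0 - N 1 1) / (2 * M 0 0), ?_⟩
      ext i j
      fin_cases i <;> fin_cases j <;> simp [htr] <;> field_simp <;> grind
  have hdetM : M.det = -c := by
    have h := congrFun (congrFun hM 0) 0
    simp [Matrix.mul_apply, Fin.sum_univ_two] at h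
    rw [Matrix.det_fin_two, htr]
    linear_combination -h
  have hdet : N.det = a ^ 2 - b ^ 2 * c := by
    rw [Matrix.det_fin_two] at hdetM
    rw [hab, Matrix.det_fin_two]
    simp [htr]
    rw [htr] at hdetM
    linear_combination b ^ 2 * hdetM
  obtain ⟨p, hp⟩ := CharP.exists F
  obtain ⟨n, hpp, hn⟩ := FiniteField.card F p
  haveI := Fact.mk hpp
  haveI : CharP (Matrix (Fin 2) (Fin 2) F) p := inferInstance
  have hMq : M ^ Fintype.card F = c ^ ((Fintype.card F - 1) / 2) • M := by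
    conv_lhs => rw [card_eq_two_mul hodd]
    rw [pow_succ, pow_mul, sq, hM, smul_pow, one_pow, smul_mul_assoc, one_mul]
  have hNq : N ^ Fintype.card F = a • 1 + b • M ^ Fintype.card F := by
    rw [hab, hn, add_pow_char_pow_of_commute, smul_pow, smul_pow, one_pow, ← hn,
      FiniteField.pow_card, FiniteField.pow_card]
    exact ((Commute.one_left M).smul_left a).smul_right b
  constructor
  · intro hc
    rw [hMq, hc, one_smul, ← hab] at hNq
    have hu : IsUnit N := (Matrix.isUnit_iff_isUnit_det N).2 (isUnit_iff_ne_zero.2 hN)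
    refine hu.mul_left_cancel ?_
    rw [← pow_succ', mul_one, show Fintype.card F - 1 + 1 = Fintype.card F by
      have := Fintype.card_pos (α := F); omega, hNq]
  · intro hc
    rw [hMq, hc, neg_smul, one_smul, smul_neg] at hNq
    rw [pow_succ, hNq, hdet, hab]
    simp only [add_mul, mul_add, smul_mul_assoc, mul_smul_comm, one_mul, mul_one, neg_mul, hM,
      smul_smul, smul_add, smul_neg]
    module

/-- Anticommuting with a trace zero matrix. -/
theorem matrix_anticomm (hodd : Odd (Fintype.card F)) {M N : Matrix (Fin 2) (Fin 2) F} {c : F}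
    (hc : c ≠ 0) (hM : M * M = c • 1) (hN : N * M = -(M * N)) :
    N * N = (-N.det) • (1 : Matrix (Fin 2) (Fin 2) F) := by
  have h2 := two_ne hodd
  have h1 : c • N = -(M * N * M) := by
    calc c • N = N * (M * M) := by rw [hM, mul_smul_comm, mul_one]
      _ = (N * M) * M := by rw [mul_assoc]
      _ = -(M * N * M) := by rw [hN, neg_mul]
  have htr : N.trace = 0 := by
    have h := congrArg Matrix.trace h1
    rw [Matrix.trace_smul, Matrix.trace_neg, Matrix.trace_mul_cycle, hM, smul_mul_assoc, one_mul,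
      Matrix.trace_smul] at h
    simp only [smul_eq_mul] at h
    have : (2 * c) * N.trace = 0 := by linear_combination h
    exact (mul_eq_zero.1 this).resolve_left (mul_ne_zero h2 hc)
  rw [Matrix.trace_fin_two] at htr
  ext i j
  fin_cases i <;> fin_cases j <;>
    simp [Matrix.mul_apply, Fin.sum_univ_two, Matrix.det_fin_two] <;> grind

theorem mk_pow_eq_one {g : GL (Fin 2) F} {m : ℕ} {l : F}
    (h : (g : Matrix (Fin 2) (Fin 2) F) ^ m = l • 1) : ProjGenLinGroup.mk g ^ m = 1 := by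
  have hl : l ≠ 0 := by
    intro e
    rw [e, zero_smul] at h
    have := congrArg Matrix.det h
    rw [Matrix.det_pow, Matrix.det_zero] at this
    exact (g.det_ne_zero) (pow_eq_zero_iff'.1 this).1
  rw [← map_pow, ProjGenLinGroup.mk_eq_one, GeneralLinearGroup.center_eq_range_scalar]
  refine ⟨Units.mk0 l hl, Units.ext ?_⟩
  rw [Units.val_pow_eq_pow_val, h]
  simp [GeneralLinearGroup.coe_scalar, Matrix.smul_one_eq_diagonal]

theorem scalar_of_mk_eq {g h : GL (Fin 2) F} (e : ProjGenLinGroup.mk g = ProjGenLinGroup.mk h) :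
    ∃ l : F, l ≠ 0 ∧ (h : Matrix (Fin 2) (Fin 2) F) = l • (g : Matrix (Fin 2) (Fin 2) F) := by
  obtain ⟨z, hz⟩ := ProjGenLinGroup.mk_eq_mk_iff.1 e
  refine ⟨(z : F), z.ne_zero, ?_⟩
  rw [← hz, Units.val_mul, GeneralLinearGroup.coe_scalar]
  rw [show Matrix.scalar (Fin 2) (z : F) = (z : F) • (1 : Matrix (Fin 2) (Fin 2) F) by
    simp [Matrix.smul_one_eq_diagonal]]
  rw [mul_smul_comm, mul_one]

/-- An element of `PGL(2, q)` commuting with an involution has order dividing `2`, `q - 1`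
or `q + 1`. -/
theorem pgl_centralizer (hodd : Odd (Fintype.card F)) {s v : PGL(2, F)} (hs : s * s = 1)
    (hs1 : s ≠ 1) (hv : v * s = s * v) :
    v ^ 2 = 1 ∨ v ^ (Fintype.card F - 1) = 1 ∨ v ^ (Fintype.card F + 1) = 1 := by
  obtain ⟨g, rfl⟩ := ProjGenLinGroup.mk_surjective s
  obtain ⟨h, rfl⟩ := ProjGenLinGroup.mk_surjective v
  have h2 := two_ne hodd
  set M : Matrix (Fin 2) (Fin 2) F := g.1
  set N : Matrix (Fin 2) (Fin 2) F := h.1
  rw [← map_mul, ← map_one ProjGenLinGroup.mk] at hs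
  obtain ⟨l, hl, hM⟩ := scalar_of_mk_eq hs.symm
  rw [Units.val_mul, Units.val_one] at hM
  have hns : ∀ a : F, M ≠ a • 1 := by
    intro a ha
    apply hs1
    rw [← pow_one (ProjGenLinGroup.mk g)]
    exact mk_pow_eq_one (l := a) (by rw [pow_one]; exact ha)
  have htr : M 1 1 = -M 0 0 := by
    by_contra hne
    have hsum : M 0 0 + M 1 1 ≠ 0 := fun e => hne (by linear_combination e)
    refine hns ((l + M.det) / (M 0 0 + M 1 1)) ?_
    have e00 := congrFun (congrFun hM 0) 0
    have e01 := congrFun (congrFun hM 0) 1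
    have e10 := congrFun (congrFun hM 1) 0
    have e11 := congrFun (congrFun hM 1) 1
    simp [Matrix.mul_apply, Fin.sum_univ_two] at e00 e01 e10 e11
    ext i j
    fin_cases i <;> fin_cases j <;> simp [Matrix.det_fin_two] <;> (try field_simp) <;> grind
  have hnz : M 0 1 ≠ 0 ∨ M 1 0 ≠ 0 ∨ M 0 0 ≠ 0 := by
    by_contra h0
    push Not at h0
    refine hns 0 ?_
    rw [zero_smul]
    ext i j
    fin_cases i <;> fin_cases j <;> simp [h0.1, h0.2.1, h0.2.2, htr]
  rw [← map_mul, ← map_mul] at hv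
  obtain ⟨m, hm, hmn⟩ := scalar_of_mk_eq hv.symm
  rw [Units.val_mul, Units.val_mul] at hmn
  have hdM : M.det ≠ 0 := g.det_ne_zero
  have hdN : N.det ≠ 0 := h.det_ne_zero
  have hm2 : m = 1 ∨ m = -1 := by
    have := congrArg Matrix.det hmn
    rw [Matrix.det_smul, Matrix.det_mul, Matrix.det_mul, Fintype.card_fin] at this
    refine mul_self_eq_one_iff.1 (mul_right_cancel₀ (mul_ne_zero hdN hdM) ?_)
    linear_combination -this
  rcases hm2 with rfl | rfl
  · rw [one_smul] at hmn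
    obtain ⟨h1, h2'⟩ := matrix_pow hodd htr hM hnz hmn hdN
    rcases pow_half hodd hl with e | e
    · exact Or.inr (Or.inl (mk_pow_eq_one (l := 1) (by rw [one_smul]; exact h1 e)))
    · exact Or.inr (Or.inr (mk_pow_eq_one (h2' e)))
  · rw [neg_smul, one_smul] at hmn
    exact Or.inl (mk_pow_eq_one (by rw [sq]; exact matrix_anticomm hodd hl hM hmn))

theorem proj_pow_eq_one {g : SL(2, F)} {m : ℕ} {e : F}
    (he : e = 1 ∨ e = -1) (h : (g : Matrix (Fin 2) (Fin 2) F) ^ m = e • 1) : proj g ^ m = 1 := by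
  have : proj g ^ m = proj (g ^ m) := (map_pow projHom g m).symm
  rw [this, proj_eq_one_iff]
  rcases he with rfl | rfl
  · exact Or.inl (Subtype.ext (by rw [Matrix.SpecialLinearGroup.coe_pow, h]; simp))
  · exact Or.inr (Subtype.ext (by rw [Matrix.SpecialLinearGroup.coe_pow, h]; simp))

/-- An element of `PSL(2, q)` commuting with an involution. -/
theorem psl_centralizer (hodd : Odd (Fintype.card F)) {s v : PSL(2, F)} (hs : orderOf s = 2)
    (hv : v * s = s * v) :
    v ^ 2 = 1 ∨ (Fintype.card F % 4 = 1 ∧ v ^ (Fintype.card F - 1) = 1) ∨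
      (Fintype.card F % 4 = 3 ∧ v ^ (Fintype.card F + 1) = 1) := by
  obtain ⟨g, rfl⟩ := proj_surjective s
  obtain ⟨h, rfl⟩ := proj_surjective v
  have ht := tr_eq_zero hs
  rw [tr_eq' g] at ht
  have htr : g.1 1 1 = -g.1 0 0 := by linear_combination ht
  have hdg : g.1 0 0 * g.1 1 1 - g.1 0 1 * g.1 1 0 = 1 := by
    rw [← Matrix.det_fin_two]; exact g.2
  have hM : g.1 * g.1 = (-1 : F) • (1 : Matrix (Fin 2) (Fin 2) F) := by
    ext i j
    fin_cases i <;> fin_cases j <;> simp [Matrix.mul_apply, Fin.sum_univ_two] <;> grind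
  have hnz : g.1 0 1 ≠ 0 ∨ g.1 1 0 ≠ 0 ∨ g.1 0 0 ≠ 0 := by
    by_contra h0
    push Not at h0
    simp [h0.1, h0.2.1, h0.2.2] at hdg
  rw [← proj_mul, ← proj_mul, proj_eq_proj_iff] at hv
  have hd : (h.1).det ≠ 0 := by rw [h.2]; exact one_ne_zero
  rcases hv with e | e
  · have e' : h.1 * g.1 = g.1 * h.1 := (congrArg Subtype.val e).symm
    obtain ⟨h1, h2⟩ := matrix_pow hodd htr hM hnz e' hd
    rcases Nat.odd_mod_four_iff.1 (Nat.odd_iff.1 hodd) with q | q
    · refine Or.inr (Or.inl ⟨q, proj_pow_eq_one (e := 1) (Or.inl rfl) ?_⟩)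
      rw [one_smul]
      exact h1 (Even.neg_one_pow ⟨(Fintype.card F - 1) / 4, by omega⟩)
    · refine Or.inr (Or.inr ⟨q, proj_pow_eq_one (e := h.1.det) (Or.inl h.2) ?_⟩)
      exact h2 (Odd.neg_one_pow ⟨(Fintype.card F - 3) / 4, by omega⟩)
  · have e' : g.1 * h.1 = -(h.1 * g.1) := congrArg Subtype.val e
    refine Or.inl (proj_pow_eq_one (e := -h.1.det) (Or.inr (by rw [h.2])) ?_)
    rw [sq]
    exact matrix_anticomm hodd (by norm_num) hM (by rw [e', neg_neg])

/-! ### The diagonal torus -/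

/-- `diag(a, a⁻¹)` in `SL(2, F)`. -/
def dSL : Fˣ →* SL(2, F) where
  toFun a := ⟨!![(a : F), 0; 0, ((a⁻¹ : Fˣ) : F)], by simp [Matrix.det_fin_two]⟩
  map_one' := by
    apply Subtype.ext
    ext i j
    fin_cases i <;> fin_cases j <;> simp
  map_mul' a b := by
    apply Subtype.ext
    show _ = (!![(a : F), 0; 0, ((a⁻¹ : Fˣ) : F)] * !![(b : F), 0; 0, ((b⁻¹ : Fˣ) : F)] :
      Matrix (Fin 2) (Fin 2) F)
    ext i j
    fin_cases i <;> fin_cases j <;> simp [Matrix.mul_apply, Fin.sum_univ_two, mul_comm]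

theorem coe_dSL (a : Fˣ) : (dSL a).1 = !![(a : F), 0; 0, ((a⁻¹ : Fˣ) : F)] := rfl

/-- The diagonal torus of `PSL(2, F)`. -/
def dg : Fˣ →* PSL(2, F) := projHom.comp dSL

theorem dg_apply (a : Fˣ) : dg a = proj (dSL a) := rfl

theorem dg_mem_BP (a : Fˣ) : dg a ∈ BP := (proj_mem_BP_iff _).2 (by simp [coe_dSL])

theorem dg_conj_u (a : Fˣ) (b : F) : dg a * u b * (dg a)⁻¹ = u ((a : F) ^ 2 * b) := by
  rw [conj_u (dg_mem_BP a), dg_apply, chi_proj]
  simp [coe_dSL]

theorem dg_eq_one_iff (a : Fˣ) : dg a = 1 ↔ a = 1 ∨ a = -1 := by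
  rw [dg_apply, proj_eq_one_iff]
  constructor
  · rintro (e | e) <;> have := congrArg (fun m : SL(2, F) => m.1 0 0) e <;> simp [coe_dSL] at this
    · exact Or.inl (Units.ext (by simpa using this))
    · exact Or.inr (Units.ext (by simpa using this))
  · rintro (rfl | rfl)
    · exact Or.inl (map_one _)
    · refine Or.inr (Subtype.ext ?_)
      ext i j
      fin_cases i <;> fin_cases j <;> simp [coe_dSL]

/-- A generator of the torus of the right order. -/
theorem exists_dg_generator (hodd : Odd (Fintype.card F)) :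
    ∃ g : Fˣ, orderOf g = Fintype.card F - 1 ∧
      orderOf (dg g) = (Fintype.card F - 1) / 2 := by
  classical
  obtain ⟨g, hg⟩ := IsCyclic.exists_generator (α := Fˣ)
  have hgo : orderOf g = Fintype.card F - 1 := by
    rw [orderOf_eq_card_of_forall_mem_zpowers hg, Nat.card_eq_fintype_card, Fintype.card_units]
  refine ⟨g, hgo, ?_⟩
  have hq := card_eq_two_mul hodd
  have h1 : 1 < Fintype.card F := Fintype.one_lt_card
  set m := (Fintype.card F - 1) / 2
  have hm : g ^ m = -1 := by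
    have hsq : ((g ^ m : Fˣ) : F) * ((g ^ m : Fˣ) : F) = 1 := by
      rw [← Units.val_mul, ← pow_add, ← two_mul, show 2 * m = orderOf g by omega, pow_orderOf_eq_one,
        Units.val_one]
    rcases mul_self_eq_one_iff.1 hsq with e | e
    · have := orderOf_dvd_of_pow_eq_one (Units.ext (by simpa using e) : g ^ m = 1)
      rw [hgo] at this
      have := Nat.le_of_dvd (by omega) this
      omega
    · exact Units.ext (by simpa using e)
  refine (orderOf_eq_iff (by omega)).2 ⟨?_, fun k hk hk0 e => ?_⟩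
  · rw [← map_pow, dg_eq_one_iff]; exact Or.inr hm
  · rw [← map_pow, dg_eq_one_iff] at e
    rcases e with e | e
    · have := Nat.le_of_dvd hk0 (orderOf_dvd_of_pow_eq_one e)
      omega
    · have := Nat.le_of_dvd (by omega) (orderOf_dvd_of_pow_eq_one (show g ^ (2 * k) = 1 by
        rw [two_mul, pow_add, e, neg_mul_neg, mul_one]))
      omega

/-- The Weyl element. -/
def wSL : SL(2, F) := ⟨!![0, 1; -1, 0], by simp [Matrix.det_fin_two]⟩

/-- The Weyl involution. -/
def w : PSL(2, F) := proj wSL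

theorem wSL_sq : (wSL : SL(2, F)) * wSL = -1 := by
  apply Subtype.ext
  rw [Matrix.SpecialLinearGroup.coe_mul]
  ext i j
  fin_cases i <;> fin_cases j <;> simp [wSL, Matrix.mul_apply, Fin.sum_univ_two]

theorem w_sq : (w : PSL(2, F)) * w = 1 := by
  rw [w, ← proj_mul, wSL_sq, proj_eq_one_iff]
  exact Or.inr rfl

theorem w_ne_one : (w : PSL(2, F)) ≠ 1 := by
  intro e
  rcases (proj_eq_one_iff _).1 e with h | h <;>
    (have := congrArg (fun m : SL(2, F) => m.1 0 1) h; simp [wSL] at this)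

theorem w_conj_dg (a : Fˣ) : w * dg a * w⁻¹ = (dg a)⁻¹ := by
  rw [← map_inv, w, dg_apply, dg_apply, ← proj_inv, ← proj_mul, ← proj_mul]
  congr 1
  rw [mul_inv_eq_iff_eq_mul]
  apply Subtype.ext
  rw [Matrix.SpecialLinearGroup.coe_mul, Matrix.SpecialLinearGroup.coe_mul]
  ext i j
  fin_cases i <;> fin_cases j <;> simp [wSL, coe_dSL, Matrix.mul_apply, Fin.sum_univ_two]

/-- `[[1, 0], [c, 1]]`. -/
def loSL (c : F) : SL(2, F) := ⟨!![1, 0; c, 1], by simp [Matrix.det_fin_two]⟩

theorem loSL_eq (c : F) : loSL c = wSL * upSL (-c) * wSL⁻¹ := by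
  rw [eq_mul_inv_iff_mul_eq]
  apply Subtype.ext
  rw [Matrix.SpecialLinearGroup.coe_mul, Matrix.SpecialLinearGroup.coe_mul]
  ext i j
  fin_cases i <;> fin_cases j <;>
    simp [loSL, wSL, coe_upSL, Matrix.mul_apply, Fin.sum_univ_two]

/-- `PSL(2, q)` is generated by `U` and its conjugate under `w`. -/
theorem eq_top_of_unipotents {H : Subgroup PSL(2, F)} (hu : ∀ b, u b ∈ H)
    (hw : ∀ b, w * u b * w⁻¹ ∈ H) : H = ⊤ := by
  have hlo : ∀ c : F, proj (loSL c) ∈ H := fun c => by
    rw [loSL_eq, proj_mul, proj_mul, proj_inv]; exact hw (-c)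
  have key : ∀ g : SL(2, F), g.1 1 0 ≠ 0 → proj g ∈ H := by
    intro g hc
    have hdg : g.1 0 0 * g.1 1 1 - g.1 0 1 * g.1 1 0 = 1 := by
      rw [← Matrix.det_fin_two]; exact g.2
    have e : g = upSL ((g.1 0 0 - 1) / g.1 1 0) * loSL (g.1 1 0) *
        upSL ((g.1 1 1 - 1) / g.1 1 0) := by
      apply Subtype.ext
      rw [Matrix.SpecialLinearGroup.coe_mul, Matrix.SpecialLinearGroup.coe_mul]
      ext i j
      fin_cases i <;> fin_cases j <;>
        simp [loSL, coe_upSL, Matrix.mul_apply, Fin.sum_univ_two] <;> field_simp <;> grind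
    rw [e, proj_mul, proj_mul]
    exact mul_mem (mul_mem (hu _) (hlo _)) (hu _)
  rw [eq_top_iff]
  intro x _
  obtain ⟨g, rfl⟩ := proj_surjective x
  by_cases hc : g.1 1 0 = 0
  · have hd : g.1 1 1 ≠ 0 := by
      intro hd
      have := g.2
      rw [Matrix.det_fin_two, hc, hd] at this
      simp at this
    have h1 : proj (g * loSL 1) ∈ H := key _ (by
      show ((g.1 : Matrix (Fin 2) (Fin 2) F) * (loSL 1).1 : Matrix (Fin 2) (Fin 2) F) 1 0 ≠ 0
      simp [loSL, Matrix.mul_apply, Fin.sum_univ_two, hc, hd])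
    have := mul_mem h1 (inv_mem (hlo 1))
    rwa [proj_mul, mul_inv_cancel_right] at this
  · exact key g hc

/-! ### A split torus of `PGL(2, F)` -/

/-- `diag(a, 1)` in `GL(2, F)`. -/
def dGL : Fˣ →* GL (Fin 2) F where
  toFun a := ⟨!![(a : F), 0; 0, 1], !![((a⁻¹ : Fˣ) : F), 0; 0, 1],
    by ext i j; fin_cases i <;> fin_cases j <;> simp [Matrix.mul_apply, Fin.sum_univ_two],
    by ext i j; fin_cases i <;> fin_cases j <;> simp [Matrix.mul_apply, Fin.sum_univ_two]⟩
  map_one' := by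
    apply Units.ext
    ext i j
    fin_cases i <;> fin_cases j <;> simp
  map_mul' a b := by
    apply Units.ext
    ext i j
    fin_cases i <;> fin_cases j <;> simp [Matrix.mul_apply, Fin.sum_univ_two]

/-- `diag(a, 1)` in `PGL(2, F)`. -/
def dG : Fˣ →* PGL(2, F) := ProjGenLinGroup.mk.comp dGL

theorem coe_dGL (a : Fˣ) : (dGL a).1 = !![(a : F), 0; 0, 1] := rfl

theorem dG_conj_u (a : Fˣ) (b : F) :
    dG a * toG (u b) * (dG a)⁻¹ = toG (u ((a : F) * b)) := by
  rw [mul_inv_eq_iff_eq_mul]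
  show ProjGenLinGroup.mk (dGL a) * ProjGenLinGroup.mk (SpecialLinearGroup.toGL (upSL b)) =
    ProjGenLinGroup.mk (SpecialLinearGroup.toGL (upSL ((a : F) * b))) *
      ProjGenLinGroup.mk (dGL a)
  rw [← map_mul, ← map_mul]
  congr 1
  apply Units.ext
  rw [Units.val_mul, Units.val_mul]
  ext i j
  fin_cases i <;> fin_cases j <;> simp [coe_dGL, coe_upSL, Matrix.mul_apply, Fin.sum_univ_two]

theorem dG_injective : Function.Injective (dG (F := F)) := by
  intro a b e
  obtain ⟨l, -, h⟩ := scalar_of_mk_eq e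
  have h11 := congrFun (congrFun h 1) 1
  have h00 := congrFun (congrFun h 0) 0
  simp [coe_dGL] at h11 h00
  exact Units.ext (by rw [h00, ← h11, one_mul])

end CfsgLib.DGroupCent.Psl
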