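import Cfsg.Agent.DGroupCent.Psl
import Cfsg.Agent.Linear.Basic

/-!
# Endomorphisms of `SL(2, 2^n)` fixing the upper unipotent elements
-/

set_option autoImplicit false
set_option linter.style.haveILetI false

namespace CfsgLib.DGroupCent

open Matrix CfsgLib.DicksonPSL2 CfsgLib.SL2Trace Psl
open scoped MatrixGroups

variable {F : Type*} [Field F] [CharP F 2]

theorem sl_mul_self_eq_one {g : SL(2, F)} (hg : g * g = 1) : g.1 1 1 = g.1 0 0 := by
  have h2 : (2 : F) = 0 := CharTwo.two_eq_zero
  have h := g.2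
  rw [Matrix.det_fin_two] at h
  have e := congrArg (fun v : SL(2, F) => v.1) hg
  simp only [Matrix.SpecialLinearGroup.coe_mul, Matrix.SpecialLinearGroup.coe_one] at e
  have e00 := congrFun (congrFun e 0) 0
  have e01 := congrFun (congrFun e 0) 1
  have e10 := congrFun (congrFun e 1) 0
  have e11 := congrFun (congrFun e 1) 1
  simp [Matrix.mul_apply, Fin.sum_univ_two] at e00 e01 e10 e11
  grind

theorem upSL_mul_self (b : F) : upSL b * upSL b = 1 := by
  rw [← upSL_add, CharTwo.add_self_eq_zero, upSL_zero]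

theorem eq_top_of_up_lo {H : Subgroup SL(2, F)} (hu : ∀ b, upSL b ∈ H) (hl : ∀ b, loSL b ∈ H) :
    H = ⊤ := by
  have key : ∀ g : SL(2, F), g.1 1 0 ≠ 0 → g ∈ H := by
    intro g hc
    have hdg : g.1 0 0 * g.1 1 1 - g.1 0 1 * g.1 1 0 = 1 := by
      rw [← Matrix.det_fin_two]; exact g.2
    have e : g = upSL ((g.1 0 0 - 1) / g.1 1 0) * loSL (g.1 1 0) *
        upSL ((g.1 1 1 - 1) / g.1 1 0) := by
      apply Subtype.ext
      rw [Matrix.SpecialLinearGroup.coe_mul, Matrix.SpecialLinearGroup.coe_mul]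
      ext i j
      fin_cases i <;> fin_cases j <;>
        simp [loSL, coe_upSL, Matrix.mul_apply, Fin.sum_univ_two] <;> field_simp <;> grind
    rw [e]
    exact mul_mem (mul_mem (hu _) (hl _)) (hu _)
  rw [eq_top_iff]
  intro g _
  by_cases hc : g.1 1 0 = 0
  · have hd : g.1 1 1 ≠ 0 := by
      intro hd
      have := g.2
      rw [Matrix.det_fin_two, hc, hd] at this
      simp at this
    have h1 : g * loSL 1 ∈ H := key _ (by
      show (g.1 * (loSL 1).1 : Matrix (Fin 2) (Fin 2) F) 1 0 ≠ 0
      simp [loSL, Matrix.mul_apply, Fin.sum_univ_two, hc, hd])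
    simpa using mul_mem h1 (inv_mem (hl 1))
  · exact key g hc

/-- An injective endomorphism fixing every upper unipotent element is inner. -/
theorem exists_upSL_conj (f : SL(2, F) →* SL(2, F)) (hf : Function.Injective f)
    (hu : ∀ b, f (upSL b) = upSL b) : ∃ s : F, ∀ g, upSL s * f g * (upSL s)⁻¹ = g := by
  have h2 : (2 : F) = 0 := CharTwo.two_eq_zero
  set v := f (loSL (1 : F)) with hv
  have hvv : v * v = 1 := by
    rw [hv, ← map_mul, ← map_one f]
    congr 1
    apply Subtype.ext
    rw [Matrix.SpecialLinearGroup.coe_mul]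
    ext i j
    fin_cases i <;> fin_cases j <;> simp [loSL, Matrix.mul_apply, Fin.sum_univ_two] <;> grind
  have hdiag := sl_mul_self_eq_one hvv
  have hdet := v.2
  rw [Matrix.det_fin_two, hdiag] at hdet
  have hr : v.1 1 0 ≠ 0 := by
    intro h0
    have ha : v.1 0 0 = 1 := by
      rw [h0, mul_zero, sub_zero] at hdet
      have : (v.1 0 0 - 1) * (v.1 0 0 - 1) = 0 := by grind
      exact sub_eq_zero.1 (mul_self_eq_zero.1 this)
    have hvu : v = upSL (v.1 0 1) := by
      apply Subtype.ext
      rw [coe_upSL]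
      ext i j
      fin_cases i <;> fin_cases j <;> simp [ha, h0, hdiag]
    have h := congrArg (fun g : SL(2, F) => g.1 1 0) (hf (hvu.trans (hu _).symm))
    simp [loSL, coe_upSL] at h
  set s := (1 + v.1 0 0) / v.1 1 0 with hs
  refine ⟨s, ?_⟩
  let f' : SL(2, F) →* SL(2, F) := (MulAut.conj (upSL s)).toMonoidHom.comp f
  have hu' : ∀ b, f' (upSL b) = upSL b := fun b => by
    show upSL s * f (upSL b) * (upSL s)⁻¹ = upSL b
    rw [hu, ← upSL_add, add_comm, upSL_add, mul_inv_cancel_right]
  have hlo : f' (loSL 1) = loSL (v.1 1 0) := by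
    show upSL s * v * (upSL s)⁻¹ = _
    rw [mul_inv_eq_iff_eq_mul]
    apply Subtype.ext
    rw [Matrix.SpecialLinearGroup.coe_mul, Matrix.SpecialLinearGroup.coe_mul]
    ext i j
    fin_cases i <;> fin_cases j <;>
      simp [loSL, coe_upSL, Matrix.mul_apply, Fin.sum_univ_two, hs, hdiag] <;>
      (try field_simp) <;> grind
  have hr1 : v.1 1 0 = 1 := by
    have e : (upSL (1 : F) * loSL 1) * (upSL 1 * loSL 1) * (upSL 1 * loSL 1) = 1 := by
      apply Subtype.ext
      simp only [Matrix.SpecialLinearGroup.coe_mul, Matrix.SpecialLinearGroup.coe_one]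
      ext i j
      fin_cases i <;> fin_cases j <;>
        simp [loSL, coe_upSL, Matrix.mul_apply, Fin.sum_univ_two] <;> grind
    have e' := congrArg f' e
    rw [map_mul, map_mul, map_mul, hu', hlo, map_one] at e'
    have e01 := congrFun (congrFun (congrArg (fun g : SL(2, F) => g.1) e') 0) 1
    simp only [Matrix.SpecialLinearGroup.coe_mul, Matrix.SpecialLinearGroup.coe_one] at e01
    simp [loSL, coe_upSL, Matrix.mul_apply, Fin.sum_univ_two] at e01
    have : (v.1 1 0 - 1) * (v.1 1 0 - 1) = 0 := by grind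
    exact sub_eq_zero.1 (mul_self_eq_zero.1 this)
  rw [hr1] at hlo
  intro g
  have htop : f'.eqLocus (MonoidHom.id _) = ⊤ := by
    refine eq_top_of_up_lo hu' fun b => ?_
    have e : loSL b = (upSL (1 : F) * loSL 1 * upSL 1) * upSL b * (upSL 1 * loSL 1 * upSL 1) := by
      apply Subtype.ext
      simp only [Matrix.SpecialLinearGroup.coe_mul]
      ext i j
      fin_cases i <;> fin_cases j <;>
        simp [loSL, coe_upSL, Matrix.mul_apply, Fin.sum_univ_two] <;> grind
    show f' (loSL b) = loSL b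
    rw [e]; simp only [map_mul, hu', hlo]
  have h : g ∈ f'.eqLocus (MonoidHom.id _) := htop ▸ Subgroup.mem_top g
  exact h

end CfsgLib.DGroupCent
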