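import Cfsg.Agent.DGroupCent.Transfer
import Cfsg.Agent.DGroupCent.SL2Even
import Cfsg.Agent.InvCentAbelian.Main
import Cfsg.Agent.S1230

/-!
# A self-centralizing generalised dihedral subgroup
-/

set_option autoImplicit false
set_option linter.style.haveILetI false

namespace CfsgLib.DGroupCent

open Subgroup CfsgLib.DicksonPSL2 Psl
open scoped MatrixGroups

universe u

variable {G : Type u} [Group G] [Finite G]

/-- The conclusion. -/
def Concl (G : Type u) [Group G] : Prop :=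
  ∃ (N : Subgroup G) (_ : N.Normal), (Odd (Nat.card ↥N) ∨ ∃ m : ℕ, Odd m ∧ Nat.card ↥N = 2 * m) ∧
    ∃ (F : Type) (_ : Field F) (_ : Fintype F), 3 < Fintype.card F ∧
      (Nonempty (G ⧸ N ≃* Matrix.ProjectiveSpecialLinearGroup (Fin 2) F) ∨
        Nonempty (G ⧸ N ≃* Matrix.ProjGenLinGroup (Fin 2) F))

theorem concl_of_pslish (h : PSLish G) : Concl G := by
  obtain ⟨F, fF, fFin, -, h3, hiso⟩ := h
  exact ⟨Cfsg.oddCore G, inferInstance, Or.inl CfsgLib.TwoGroups.odd_card_oddCore, F, fF, fFin, h3,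
    hiso⟩

/-- Elementary abelian involution centralizers. -/
theorem concl_of_exp_two (H : Subgroup G) (h4 : 4 ∣ Nat.card H) (hexp : ∀ h ∈ H, h * h = 1)
    (hC : ∀ j ∈ H, orderOf j = 2 → (∀ h ∈ H, h * j = j * h) → centralizer ({j} : Set G) = H)
    (hns : ¬ Group.IsSolvable G) : Concl G := by
  haveI : Fact (Nat.Prime 2) := ⟨Nat.prime_two⟩
  have hcomm : ∀ a ∈ H, ∀ b ∈ H, a * b = b * a := fun a ha b hb => by
    rw [eq_inv_of_mul_eq_one_left (hexp _ (mul_mem ha hb)), mul_inv_rev,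
      inv_eq_of_mul_eq_one_right (hexp a ha), inv_eq_of_mul_eq_one_right (hexp b hb)]
  have hC' : ∀ j ∈ H, orderOf j = 2 → centralizer ({j} : Set G) = H :=
    fun j hj ho => hC j hj ho fun h hh => hcomm h hh j hj
  have hp : IsPGroup 2 H := fun v => ⟨1, Subtype.ext (by
    rw [pow_one, Subgroup.coe_pow, sq]; exact hexp v v.2)⟩
  obtain ⟨S, hS⟩ := hp.exists_le_sylow
  have h4' := Nat.le_of_dvd Nat.card_pos h4
  haveI : Nontrivial H := Finite.one_lt_card_iff_nontrivial.1 (by omega)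
  obtain ⟨⟨j, hj⟩, hj1⟩ := exists_ne (1 : H)
  have hjo : orderOf j = 2 :=
    orderOf_two_of_mul_self (hexp j hj) fun e => hj1 (Subtype.ext e)
  haveI : Nontrivial (S : Subgroup G) :=
    ⟨⟨⟨j, hS hj⟩, 1, fun e => hj1 (Subtype.ext (congrArg Subtype.val e : j = 1))⟩⟩
  haveI := S.isPGroup'.center_nontrivial
  obtain ⟨c, hc⟩ := exists_prime_orderOf_dvd_card' (G := center (S : Subgroup G)) 2 (by
    obtain ⟨k, hk, hk'⟩ := (S.isPGroup'.to_subgroup
      (center (S : Subgroup G))).nontrivial_iff_card.1 inferInstance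
    exact hk' ▸ dvd_pow_self 2 hk.ne')
  have hzo : orderOf ((c : (S : Subgroup G)) : G) = 2 := by rw [orderOf_coe, orderOf_coe, hc]
  have hzc : ∀ s ∈ (S : Subgroup G),
      s * ((c : (S : Subgroup G)) : G) = ((c : (S : Subgroup G)) : G) * s := fun s hs =>
    congrArg Subtype.val (mem_center_iff.1 c.2 ⟨s, hs⟩)
  have hzH : ((c : (S : Subgroup G)) : G) ∈ H := by
    rw [← hC' j hj hjo, mem_centralizer_singleton_iff]
    exact (hzc j (hS hj)).symm
  have hSH : (S : Subgroup G) = H := le_antisymm (fun s hs => by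
    rw [← hC' _ hzH hzo, mem_centralizer_singleton_iff]; exact hzc s hs) hS
  have hcent : ∀ t : G, orderOf t = 2 → IsMulCommutative (centralizer ({t} : Set G)) ∧
      ∀ c ∈ centralizer ({t} : Set G), c ^ 2 = 1 := by
    intro t ht
    obtain ⟨T, hT⟩ := (isPGroup_zpowers (p := 2) (n := 1) (x := t) (by rw [ht, pow_one])).exists_le_sylow
    obtain ⟨g, hg⟩ := MulAction.exists_smul_eq G S T
    have htT := hT (mem_zpowers t)
    rw [← hg, Sylow.coe_subgroup_smul] at htT
    obtain ⟨s, hs, hst⟩ := htT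
    have hst' : g * s * g⁻¹ = t := hst
    have hsH : s ∈ H := hSH ▸ hs
    have hso : orderOf s = 2 := by rw [← hst', orderOf_conj] at ht; exact ht
    have hmem : ∀ x ∈ centralizer ({t} : Set G), g⁻¹ * x * g ∈ H := fun x hx => by
      rw [← hC' s hsH hso, mem_centralizer_singleton_iff]
      have hx' := mem_centralizer_singleton_iff.1 hx
      calc g⁻¹ * x * g * s = g⁻¹ * (x * (g * s * g⁻¹)) * g := by group
        _ = g⁻¹ * ((g * s * g⁻¹) * x) * g := by rw [hst', hx']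
        _ = s * (g⁻¹ * x * g) := by group
    refine ⟨⟨⟨fun a b => Subtype.ext ?_⟩⟩, fun x hx => ?_⟩
    · show (a : G) * b = b * a
      have h := congrArg (fun w => g * w * g⁻¹) (hcomm _ (hmem a a.2) _ (hmem b b.2))
      simpa [mul_assoc] using h
    · have h := congrArg (fun w => g * w * g⁻¹) (hexp _ (hmem x hx))
      simpa [sq, mul_assoc] using h
  have hcard : Nat.card (S : Subgroup G) = Nat.card H := by rw [hSH]
  have hnc : ¬ IsCyclic (S : Subgroup G) := fun hcyc => by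
    have h1 : Monoid.exponent (S : Subgroup G) ∣ 2 := Monoid.exponent_dvd_of_forall_pow_eq_one
      fun v => Subtype.ext (by rw [Subgroup.coe_pow, sq]; exact hexp v (hSH ▸ v.2))
    rw [IsCyclic.exponent_eq_card, hcard] at h1
    have := Nat.le_of_dvd two_pos h1
    omega
  have hnn : ¬ (S : Subgroup G).Normal := fun hn => hns (by
    haveI := hn
    haveI := S.isPGroup'.isNilpotent
    haveI : Group.IsSolvable (G ⧸ (S : Subgroup G)) := solvable_of_odd (by
      rw [← index_eq_card]; exact Nat.odd_iff.2 (Nat.two_dvd_ne_zero.1 S.not_dvd_index))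
    exact (Group.isSolvable_iff_subgroup_quotient (S : Subgroup G)).2 ⟨inferInstance, inferInstance⟩)
  obtain ⟨F, fF, fFin, hF, ⟨e⟩⟩ := Cfsg.Agent.S1230.result S hnc hnn hcent
  exact ⟨⊥, inferInstance, Or.inl (by rw [card_bot]; exact odd_one), F, fF, fFin,
    by rw [hF, hcard]; omega, Or.inl ⟨QuotientGroup.quotientBot.trans e⟩⟩

/-- A generalised dihedral subgroup that is the centralizer of each involution of its abelian part. -/
structure Hyp (H B : Subgroup G) : Prop where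
  le : B ≤ H
  comm : ∀ a ∈ B, ∀ b ∈ B, a * b = b * a
  outSq : ∀ h ∈ H, h ∉ B → h * h = 1
  inv : ∀ h ∈ H, h ∉ B → ∀ b ∈ B, h * b * h⁻¹ = b⁻¹
  prod : ∀ h ∈ H, h ∉ B → ∀ h' ∈ H, h' ∉ B → h * h' ∈ B
  out : ∃ h ∈ H, h ∉ B
  cent : ∀ j ∈ H, orderOf j = 2 → (∀ h ∈ H, h * j = j * h) → centralizer ({j} : Set G) = H
  nexp : ∃ b ∈ B, b * b ≠ 1

variable {H B : Subgroup G}

theorem Hyp.central (d : Hyp H B) {b : G} (hb : b ∈ B) (hbb : b * b = 1) :
    ∀ h ∈ H, h * b = b * h := fun h hh => by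
  by_cases hhB : h ∈ B
  · exact d.comm h hhB b hb
  · have e := d.inv h hh hhB b hb
    rw [inv_eq_of_mul_eq_one_right hbb] at e
    exact mul_inv_eq_iff_eq_mul.1 e

theorem Hyp.cent_eq (d : Hyp H B) {b : G} (hb : b ∈ B) (hb2 : orderOf b = 2) :
    centralizer ({b} : Set G) = H :=
  d.cent b (d.le hb) hb2 (d.central hb (mul_self_of_orderOf hb2))

theorem conj_centralizer {j g x : G} (hx : x ∈ centralizer ({j} : Set G)) :
    g * x * g⁻¹ ∈ centralizer ({g * j * g⁻¹} : Set G) := by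
  refine mem_centralizer_singleton_iff.2 ?_
  rw [show g * x * g⁻¹ * (g * j * g⁻¹) = g * (x * j) * g⁻¹ by group,
    mem_centralizer_singleton_iff.1 hx]
  group

/-- An element moving two involutions of the abelian part into `H` normalizes it. -/
theorem Hyp.normalizes (d : Hyp H B) {t u g : G} (ht : t ∈ B) (hu : u ∈ B) (hV : Four t u)
    (h1 : g * t * g⁻¹ ∈ H) (h2 : g * u * g⁻¹ ∈ H) :
    ∀ h, h ∈ H ↔ g * h * g⁻¹ ∈ H := by
  obtain ⟨w, hwB, hw2, hwB'⟩ : ∃ w ∈ B, orderOf w = 2 ∧ g * w * g⁻¹ ∈ B := by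
    by_cases a1 : g * t * g⁻¹ ∈ B
    · exact ⟨t, ht, hV.hi, a1⟩
    by_cases a2 : g * u * g⁻¹ ∈ B
    · exact ⟨u, hu, hV.hj, a2⟩
    refine ⟨t * u, mul_mem ht hu, hV.hk, ?_⟩
    have h := d.prod _ h1 a1 _ h2 a2
    rwa [show g * t * g⁻¹ * (g * u * g⁻¹) = g * (t * u) * g⁻¹ by group] at h
  have e1 := d.cent_eq hwB hw2
  have e2 := d.cent_eq hwB' (by rw [orderOf_conj, hw2])
  refine fun h => ⟨fun hh => ?_, fun hh => ?_⟩
  · rw [← e2]; rw [← e1] at hh; exact conj_centralizer hh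
  · rw [← e1]; rw [← e2] at hh
    have := conj_centralizer (g := g⁻¹) hh
    rwa [show g⁻¹ * (g * h * g⁻¹) * g⁻¹⁻¹ = h by group,
      show g⁻¹ * (g * w * g⁻¹) * g⁻¹⁻¹ = w by group] at this

/-- A Sylow subgroup of `G` lies in `H`. -/
theorem Hyp.exists_sylow (d : Hyp H B) {t u : G} (ht : t ∈ B) (hu : u ∈ B) (hV : Four t u) :
    ∃ S : Sylow 2 G, (S : Subgroup G) ≤ H ∧ t ∈ (S : Subgroup G) ∧ u ∈ (S : Subgroup G) := by
  haveI : Fact (Nat.Prime 2) := ⟨Nat.prime_two⟩
  let Z : Subgroup G :=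
    { carrier := {v | v ∈ H ∧ v * v = 1 ∧ ∀ h ∈ H, h * v = v * h}
      one_mem' := ⟨one_mem H, one_mul 1, fun h _ => by rw [mul_one, one_mul]⟩
      mul_mem' := by
        rintro a b ⟨ha, ha2, hac⟩ ⟨hb, hb2, hbc⟩
        refine ⟨mul_mem ha hb, ?_, fun h hh => ?_⟩
        · rw [show a * b * (a * b) = a * (b * a) * b by group, hac b hb, show a * (a * b) * b =
            (a * a) * (b * b) by group, ha2, hb2, one_mul]
        · rw [← mul_assoc, hac h hh, mul_assoc, hbc h hh, mul_assoc]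
      inv_mem' := by
        rintro a ⟨ha, ha2, hac⟩
        rw [inv_eq_of_mul_eq_one_right ha2]
        exact ⟨ha, ha2, hac⟩ }
  have hZB : ∀ b ∈ B, b * b = 1 → b ∈ Z := fun b hb hb2 => ⟨d.le hb, hb2, d.central hb hb2⟩
  have htZ : t ∈ Z := hZB t ht (mul_self_of_orderOf hV.hi)
  have huZ : u ∈ Z := hZB u hu (mul_self_of_orderOf hV.hj)
  have hZp : IsPGroup 2 (Z.subgroupOf H) := fun v => ⟨1, Subtype.ext (Subtype.ext (by
    rw [pow_one, sq]; exact (mem_subgroupOf.1 v.2).2.1))⟩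
  obtain ⟨R, hR⟩ := hZp.exists_le_sylow
  obtain ⟨S, hS⟩ := (R.isPGroup'.map H.subtype).exists_le_sylow
  have hZR : ∀ v ∈ Z, v ∈ (R : Subgroup H).map H.subtype := fun v hv =>
    ⟨⟨v, hv.1⟩, hR (mem_subgroupOf.2 hv), rfl⟩
  refine ⟨S, ?_, hS (hZR t htZ), hS (hZR u huZ)⟩
  by_contra hle
  obtain ⟨g, hgS, hgR, hgn⟩ := exists_mem_normalizer_not_mem S.isPGroup' hS
    (fun e => hle (e ▸ map_subtype_le _))
  have hconj : ∀ v ∈ Z, g * v * g⁻¹ ∈ H := fun v hv =>
    map_subtype_le _ ((mem_normalizer_iff.1 hgn v).1 (hZR v hv))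
  have hnorm := d.normalizes ht hu hV (hconj t htZ) (hconj u huZ)
  have hgZ : ∀ v ∈ Z, g * v * g⁻¹ ∈ Z := by
    rintro v ⟨hv, hv2, hvc⟩
    refine ⟨(hnorm v).1 hv, ?_, fun h hh => ?_⟩
    · rw [show g * v * g⁻¹ * (g * v * g⁻¹) = g * (v * v) * g⁻¹ by group, hv2, mul_one,
        mul_inv_cancel]
    · have h' : g⁻¹ * h * g ∈ H := (hnorm _).2 (by
        rwa [show g * (g⁻¹ * h * g) * g⁻¹ = h by group])
      calc h * (g * v * g⁻¹) = g * (g⁻¹ * h * g * v) * g⁻¹ := by group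
        _ = g * v * g⁻¹ * h := by rw [hvc _ h']; group
  obtain ⟨k, hk⟩ := S.isPGroup' ⟨g, hgS⟩
  obtain ⟨v, hv, hv1, hfix⟩ := exists_fixed_of_two_power (Z := Z) (fun v (hv : v ∈ Z) => hv.2.1)
    ⟨t, htZ, ne_one_of_orderOf hV.hi⟩ k g (congrArg Subtype.val hk) hgZ
  have hgH : g ∈ H := by
    rw [← d.cent v hv.1 (orderOf_two_of_mul_self hv.2.1 hv1) hv.2.2]
    exact mem_centralizer_singleton_iff.2 (mul_inv_eq_iff_eq_mul.1 hfix)
  refine hgR ⟨⟨g, hgH⟩, ?_, rfl⟩
  have hle' : (R : Subgroup H) ≤ (S : Subgroup G).subgroupOf H := fun r hr =>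
    mem_subgroupOf.2 (hS ⟨r, hr, rfl⟩)
  rw [← R.is_maximal' (S.isPGroup'.comap_subtype (K := H)) hle']
  exact mem_subgroupOf.2 hgS

/-- Outer involutions of `H` have no conjugate in the abelian part. -/
theorem Hyp.not_conj (d : Hyp H B) {t u x : G} (ht : t ∈ B) (hu : u ∈ B) (hV : Four t u)
    (hx : x ∈ H) (hxB : x ∉ B) (g : G) : g⁻¹ * x * g ∉ B := by
  intro hb
  have hx2 : orderOf x = 2 :=
    orderOf_two_of_mul_self (d.outSq x hx hxB) fun e => hxB (e ▸ one_mem B)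
  have hb2 : orderOf (g⁻¹ * x * g) = 2 := by
    have h := orderOf_conj g⁻¹ x
    rw [inv_inv] at h
    rw [h, hx2]
  have e1 := d.cent_eq hb hb2
  have hmem : ∀ v ∈ B, v * v = 1 → g⁻¹ * v * g⁻¹⁻¹ ∈ H := by
    intro v hv hv2
    have h : v ∈ centralizer ({x} : Set G) :=
      mem_centralizer_singleton_iff.2 (d.central hv hv2 x hx).symm
    have h' := conj_centralizer (g := g⁻¹) h
    rw [inv_inv, e1] at h'
    rwa [inv_inv]
  have hn := d.normalizes ht hu hV (hmem t ht (mul_self_of_orderOf hV.hi))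
    (hmem u hu (mul_self_of_orderOf hV.hj))
  obtain ⟨c, hc, hcc⟩ := d.nexp
  have hcx : c ∈ centralizer ({x} : Set G) := by
    have h1 : g⁻¹ * c * g ∈ centralizer ({g⁻¹ * x * g} : Set G) := by
      rw [e1]; simpa using (hn c).1 (d.le hc)
    have h2 := conj_centralizer (g := g) h1
    rwa [show g * (g⁻¹ * c * g) * g⁻¹ = c by group,
      show g * (g⁻¹ * x * g) * g⁻¹ = x by group] at h2
  apply hcc
  have e := d.inv x hx hxB c hc
  rw [← mem_centralizer_singleton_iff.1 hcx, mul_inv_cancel_right] at e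
  exact mul_eq_one_iff_eq_inv.2 e

/-- A subgroup of index two meeting `H` in its abelian part. -/
theorem Hyp.exists_index_two (d : Hyp H B) {t u : G} (ht : t ∈ B) (hu : u ∈ B) (hV : Four t u)
    (S : Sylow 2 G) (hSH : (S : Subgroup G) ≤ H) :
    ∃ K : Subgroup G, K.index = 2 ∧ ∀ h ∈ H, (h ∈ K ↔ h ∈ B) := by
  haveI : Fact (Nat.Prime 2) := ⟨Nat.prime_two⟩
  obtain ⟨x₀, hx₀, hx₀B⟩ := d.out
  have hBi : (B.subgroupOf H).index = 2 := index_eq_two_iff.2 ⟨⟨x₀, hx₀⟩, fun b => by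
    by_cases hb : (b : G) ∈ B
    · exact Or.inr ⟨hb, fun h => hx₀B (by simpa using mul_mem (inv_mem hb) h)⟩
    · exact Or.inl ⟨d.prod b b.2 hb x₀ hx₀ hx₀B, hb⟩⟩
  obtain ⟨x, hxS, hxB⟩ : ∃ x ∈ (S : Subgroup G), x ∉ B := by
    by_contra h
    push Not at h
    refine S.not_dvd_index ?_
    have h1 : (S : Subgroup G).index = (S : Subgroup G).relIndex H * H.index :=
      (relIndex_mul_index hSH).symm
    have h2 : B.relIndex H ∣ (S : Subgroup G).relIndex H := relIndex_dvd_of_le_left H h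
    rw [h1]
    exact Dvd.dvd.mul_right (hBi.symm.dvd.trans h2) _
  have hM : ((S : Subgroup G) ⊓ B).index = 2 * (S : Subgroup G).index := by
    have h1 : ((S : Subgroup G) ⊓ B).relIndex (S : Subgroup G) = 2 := by
      rw [inf_comm, inf_relIndex_right]
      refine index_eq_two_iff.2 ⟨⟨x, hxS⟩, fun b => ?_⟩
      by_cases hb : (b : G) ∈ B
      · exact Or.inr ⟨hb, fun h => hxB (by simpa using mul_mem (inv_mem hb) h)⟩
      · exact Or.inl ⟨d.prod b (hSH b.2) hb x (hSH hxS) hxB, hb⟩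
    have h2 := relIndex_mul_index (inf_le_left : (S : Subgroup G) ⊓ B ≤ S)
    rw [h1] at h2
    exact h2.symm
  obtain ⟨f, hf⟩ := exists_sign_hom ((S : Subgroup G) ⊓ B)
    (Nat.odd_iff.2 (Nat.two_dvd_ne_zero.1 S.not_dvd_index)) hM
  have hout : ∀ h ∈ H, h ∉ B → f h = -1 := fun h hh hhB =>
    hf h (orderOf_two_of_mul_self (d.outSq h hh hhB) fun e => hhB (e ▸ one_mem B))
      fun g hg => d.not_conj ht hu hV hh hhB g hg.2
  have hBK : ∀ b ∈ B, f b = 1 := by
    intro b hb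
    have hxb : x * b ∉ B := fun h => hxB (by simpa using mul_mem h (inv_mem hb))
    have h1 := hout _ (mul_mem (hSH hxS) (d.le hb)) hxb
    rw [map_mul, hout x (hSH hxS) hxB] at h1
    exact mul_eq_left.1 h1
  have hrange : f.range = ⊤ := by
    refine eq_top_iff.2 fun w _ => ?_
    rcases Int.units_eq_one_or w with rfl | rfl
    · exact one_mem _
    · exact ⟨x, hout x (hSH hxS) hxB⟩
  refine ⟨f.ker, by rw [index_ker, hrange, card_top, Nat.card_eq_fintype_card,
    Fintype.card_units_int], fun h hh => ⟨fun hK => by_contra fun hhB => ?_, fun hb => ?_⟩⟩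
  · rw [MonoidHom.mem_ker, hout h hh hhB] at hK
    exact absurd hK (by decide)
  · exact hBK h hb

/-- The case of several involutions in the abelian part. -/
theorem Hyp.concl_of_four (d : Hyp H B) (hns : ¬ Group.IsSolvable G) {t u : G} (ht : t ∈ B)
    (hu : u ∈ B) (hV : Four t u) : Concl G := by
  haveI : Fact (Nat.Prime 2) := ⟨Nat.prime_two⟩
  obtain ⟨S, hSH, htS, huS⟩ := d.exists_sylow ht hu hV
  obtain ⟨K, hK, hKH⟩ := d.exists_index_two ht hu hV S hSH
  haveI hKn := normal_of_index_eq_two hK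
  obtain ⟨⟨P, hP⟩, hSK⟩ := exists_sylow_index_two S hK
  have htK : t ∈ K := (hKH t (d.le ht)).2 ht
  have huK : u ∈ K := (hKH u (d.le hu)).2 hu
  obtain ⟨x, hxS, hxK⟩ := SetLike.not_le_iff_exists.1 hSK
  have hxB : x ∉ B := fun h => hxK ((hKH x (hSH hxS)).2 h)
  have hPB : ∀ p : K, p ∈ (P : Subgroup K) → (p : G) ∈ B := fun p hp => by
    rw [hP] at hp
    exact (hKH p (hSH hp)).1 p.2
  -- every involution of `K` is conjugate into `B`
  have hinvol : ∀ i : K, orderOf i = 2 → ∃ g : G, g⁻¹ * i * g ∈ B ∧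
      ∀ c ∈ K, c * i = i * c → g⁻¹ * c * g ∈ B := by
    intro i hi
    obtain ⟨T, hT⟩ := (isPGroup_zpowers (p := 2) (n := 1) (x := i) (by rw [hi, pow_one])).exists_le_sylow
    obtain ⟨g, hg⟩ := MulAction.exists_smul_eq K P T
    have hiT := hT (mem_zpowers i)
    rw [← hg, Sylow.coe_subgroup_smul] at hiT
    obtain ⟨b, hb, hbi⟩ := hiT
    have hbi' : (g : G) * b * (g : G)⁻¹ = i := congrArg Subtype.val hbi
    have hbB := hPB b hb
    have hb2 : orderOf (b : G) = 2 := by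
      rw [← orderOf_coe, ← hbi', orderOf_conj] at hi; exact hi
    refine ⟨g, by rwa [← hbi', show (g : G)⁻¹ * ((g : G) * b * (g : G)⁻¹) * g = b by group],
      fun c hc hci => ?_⟩
    refine (hKH _ ?_).1 (mul_mem (mul_mem (inv_mem g.2) hc) g.2)
    rw [← d.cent_eq hbB hb2, mem_centralizer_singleton_iff]
    calc (g : G)⁻¹ * c * g * b = (g : G)⁻¹ * (c * ((g : G) * b * (g : G)⁻¹)) * g := by group
      _ = (g : G)⁻¹ * (((g : G) * b * (g : G)⁻¹) * c) * g := by rw [hbi', hci]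
      _ = b * ((g : G)⁻¹ * c * g) := by group
  have hab : ∀ i : K, orderOf i = 2 → IsMulCommutative (centralizer ({i} : Set K)) := by
    intro i hi
    obtain ⟨g, -, hg⟩ := hinvol i hi
    refine ⟨⟨fun a b => Subtype.ext (Subtype.ext ?_)⟩⟩
    show ((a : K) : G) * (b : K) = (b : K) * (a : K)
    have h := congrArg (fun w => g * w * g⁻¹) (d.comm
      _ (hg _ (a : K).2 (congrArg Subtype.val (mem_centralizer_singleton_iff.1 a.2)))
      _ (hg _ (b : K).2 (congrArg Subtype.val (mem_centralizer_singleton_iff.1 b.2))))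
    simpa [mul_assoc] using h
  have htP : (⟨t, htK⟩ : K) ∈ (P : Subgroup K) := by rw [hP]; exact htS
  have huP : (⟨u, huK⟩ : K) ∈ (P : Subgroup K) := by rw [hP]; exact huS
  have hcyc : ¬ IsCyclic (P : Subgroup K) := by
    intro hc
    haveI := hc
    classical
    haveI := Fintype.ofFinite (P : Subgroup K)
    have ht2 : orderOf (⟨_, htP⟩ : (P : Subgroup K)) = 2 := by rw [orderOf_mk, orderOf_mk, hV.hi]
    have hu2 : orderOf (⟨_, huP⟩ : (P : Subgroup K)) = 2 := by rw [orderOf_mk, orderOf_mk, hV.hj]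
    have h1 := IsCyclic.card_orderOf_eq_totient (α := (P : Subgroup K)) (d := 2)
      (ht2.symm.dvd.trans orderOf_dvd_card)
    have h2 := Finset.card_le_one.1 (h1.le.trans (by rw [Nat.totient_two]))
      ⟨_, htP⟩ (by simpa using ht2) ⟨_, huP⟩ (by simpa using hu2)
    exact hV.ne (congrArg (fun v : (P : Subgroup K) => ((v : K) : G)) h2)
  have hnsK := nonsolvable_of_index_two hK hns
  have hnorm : ¬ (P : Subgroup K).Normal := fun hn => hnsK (by
    haveI := hn
    haveI := P.isPGroup'.isNilpotent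
    haveI : Group.IsSolvable (K ⧸ (P : Subgroup K)) := solvable_of_odd (by
      rw [← index_eq_card]; exact Nat.odd_iff.2 (Nat.two_dvd_ne_zero.1 P.not_dvd_index))
    exact (Group.isSolvable_iff_subgroup_quotient (P : Subgroup K)).2 ⟨inferInstance, inferInstance⟩)
  obtain ⟨F, fF, fFin, A, iA, fA, hchar, hA, ⟨e⟩⟩ :=
    CfsgLib.InvCentAbelian.Setup.classify (CfsgLib.InvCentAbelian.setup_of_sylow hab P hcyc hnorm)
  haveI := hchar
  have hAsq : ∀ a : A, a * a = 1 → a = 1 := fun a ha => orderOf_eq_one_iff.1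
    (Nat.eq_one_of_dvd_coprimes (Nat.coprime_two_left.2 hA)
      (orderOf_dvd_of_pow_eq_one (by rw [sq, ha])) (orderOf_dvd_natCard a))
  -- the embedded factors
  let L : SL(2, F) →* G := K.subtype.comp (e.symm.toMonoidHom.comp (MonoidHom.inl _ A))
  let R : A →* G := K.subtype.comp (e.symm.toMonoidHom.comp (MonoidHom.inr SL(2, F) A))
  have hLK : ∀ l, L l ∈ K := fun l => (e.symm (l, 1)).2
  have hRK : ∀ a, R a ∈ K := fun a => (e.symm (1, a)).2
  have hLR : ∀ k : K, (k : G) = L (e k).1 * R (e k).2 := fun k => by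
    show (k : G) = ((e.symm ((e k).1, 1) : K) : G) * ((e.symm (1, (e k).2) : K) : G)
    rw [← Subgroup.coe_mul, ← map_mul, Prod.mk_mul_mk, mul_one, one_mul, e.symm_apply_apply]
  have hLinj : Function.Injective L := fun a b h =>
    congrArg Prod.fst (e.symm.injective (Subtype.ext h))
  have hcommute : ∀ l a, L l * R a = R a * L l := fun l a => by
    show ((e.symm (l, 1) : K) : G) * ((e.symm (1, a) : K) : G) =
      ((e.symm (1, a) : K) : G) * ((e.symm (l, 1) : K) : G)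
    rw [← Subgroup.coe_mul, ← Subgroup.coe_mul, ← map_mul, ← map_mul, Prod.mk_mul_mk,
      Prod.mk_mul_mk, mul_one, one_mul, mul_one, one_mul]
  -- an outer involution inverting the centralizer of a unipotent element
  have hv2 : orderOf (⟨L (upSL 1), hLK _⟩ : K) = 2 := by
    refine orderOf_two_of_mul_self (Subtype.ext ?_) fun h => ?_
    · show L (upSL 1) * L (upSL 1) = 1
      rw [← map_mul, upSL_mul_self, map_one]
    · have h1 : upSL (1 : F) = 1 := hLinj ((congrArg Subtype.val h).trans (map_one L).symm)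
      have h2 := congrArg (fun g : SL(2, F) => g.1 0 1) h1
      simp [coe_upSL] at h2
  obtain ⟨g, -, hg⟩ := hinvol _ hv2
  set x₀ := g * x * g⁻¹ with hx₀
  have hx₀K : x₀ ∉ K := fun h => hxK (by
    have := hKn.conj_mem _ h g⁻¹
    rwa [hx₀, show g⁻¹ * (g * x * g⁻¹) * g⁻¹⁻¹ = x by group] at this)
  have hx₀2 : x₀ * x₀ = 1 := by
    rw [hx₀, show g * x * g⁻¹ * (g * x * g⁻¹) = g * (x * x) * g⁻¹ by group,
      d.outSq x (hSH hxS) hxB, mul_one, mul_inv_cancel]
  have hx₀inv : ∀ c ∈ K, c * L (upSL 1) = L (upSL 1) * c → x₀ * c * x₀⁻¹ = c⁻¹ := by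
    intro c hc hcv
    have h := d.inv x (hSH hxS) hxB _ (hg c hc hcv)
    calc x₀ * c * x₀⁻¹ = g * (x * (g⁻¹ * c * g) * x⁻¹) * g⁻¹ := by rw [hx₀]; group
      _ = c⁻¹ := by rw [h]; group
  have hxR : ∀ a, x₀ * R a * x₀⁻¹ = R a⁻¹ := fun a => by
    rw [hx₀inv _ (hRK a) (hcommute _ a).symm, map_inv]
  have hxU : ∀ b, x₀ * L (upSL b) * x₀⁻¹ = L (upSL b) := fun b => by
    rw [hx₀inv _ (hLK _) (by rw [← map_mul, ← map_mul, ← upSL_add, ← upSL_add, add_comm]),
      ← map_inv, inv_eq_of_mul_eq_one_right (upSL_mul_self b)]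
  -- the action on the linear factor
  let φ : SL(2, F) →* SL(2, F) × A :=
    e.toMonoidHom.comp ((MulAut.conjNormal x₀).toMonoidHom.comp
      (e.symm.toMonoidHom.comp (MonoidHom.inl _ A)))
  have hφ : ∀ l, x₀ * L l * x₀⁻¹ = L (φ l).1 * R (φ l).2 := fun l => by
    exact (MulAut.conjNormal_apply x₀ (e.symm (l, 1))).symm.trans (hLR _)
  have hφu : ∀ b, φ (upSL b) = (upSL b, 1) := fun b => by
    have h : MulAut.conjNormal x₀ (e.symm (upSL b, 1)) = e.symm (upSL b, 1) :=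
      Subtype.ext (by rw [MulAut.conjNormal_apply]; exact hxU b)
    show e (MulAut.conjNormal x₀ (e.symm (upSL b, 1))) = _
    rw [h, e.apply_symm_apply]
  have hφ2 : ∀ l, (φ l).2 = 1 := by
    intro l
    have hlo : ∀ b, (φ (loSL b)).2 = 1 := fun b => hAsq _ (by
      rw [← Prod.snd_mul, ← map_mul, show loSL b * loSL b = (1 : SL(2, F)) from ?_, map_one]
      · rfl
      apply Subtype.ext
      rw [Matrix.SpecialLinearGroup.coe_mul]
      ext i j
      fin_cases i <;> fin_cases j <;>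
        simp [loSL, Matrix.mul_apply, Fin.sum_univ_two, CharTwo.add_self_eq_zero])
    have h : ((MonoidHom.snd SL(2, F) A).comp φ).ker = ⊤ := by
      refine eq_top_of_up_lo (fun b => ?_) hlo
      show (φ (upSL b)).2 = 1
      rw [hφu]
    have h' : l ∈ ((MonoidHom.snd SL(2, F) A).comp φ).ker := h ▸ mem_top l
    exact h'
  obtain ⟨s, hs⟩ := exists_upSL_conj ((MonoidHom.fst _ A).comp φ)
    (fun a b h => by
      have h1 : φ a = φ b := Prod.ext h ((hφ2 a).trans (hφ2 b).symm)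
      exact congrArg Prod.fst (e.symm.injective ((MulAut.conjNormal x₀).injective (e.injective h1))))
    (fun b => by show (φ (upSL b)).1 = _; rw [hφu])
  set c := L (upSL s) * x₀ with hcdef
  have hsx : L (upSL s) * x₀ = x₀ * L (upSL s) := by
    rw [← mul_inv_eq_iff_eq_mul.1 (hxU s)]
  have hcc : c * c = 1 := by
    rw [hcdef]
    nth_rw 2 [hsx]
    rw [mul_assoc, ← mul_assoc x₀, hx₀2, one_mul, ← map_mul, upSL_mul_self, map_one]
  have hcK : c ∉ K := fun h => hx₀K (by simpa [hcdef] using mul_mem (inv_mem (hLK (upSL s))) h)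
  have hcL : ∀ l, c * L l * c⁻¹ = L l := fun l => by
    rw [hcdef, show L (upSL s) * x₀ * L l * (L (upSL s) * x₀)⁻¹ =
      L (upSL s) * (x₀ * L l * x₀⁻¹) * (L (upSL s))⁻¹ by group, hφ, hφ2, map_one, mul_one,
      ← map_inv, ← map_mul, ← map_mul]
    exact congrArg L (hs l)
  have hcR : ∀ a, c * R a * c⁻¹ = R a⁻¹ := fun a => by
    rw [hcdef, show L (upSL s) * x₀ * R a * (L (upSL s) * x₀)⁻¹ =
      L (upSL s) * (x₀ * R a * x₀⁻¹) * (L (upSL s))⁻¹ by group, hxR, hcommute, mul_inv_cancel_right]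
  -- the projection
  have hci : c⁻¹ = c := inv_eq_of_mul_eq_one_right hcc
  let p : K →* SL(2, F) := (MonoidHom.fst _ A).comp e.toMonoidHom
  have hpc : ∀ (k : K) (h : c * k * c⁻¹ ∈ K), p ⟨c * k * c⁻¹, h⟩ = p k := fun k h => by
    have h1 : (⟨c * k * c⁻¹, h⟩ : K) = e.symm ((e k).1, (e k).2⁻¹) := Subtype.ext (by
      rw [hLR (e.symm _), e.apply_symm_apply]
      show c * (k : G) * c⁻¹ = L (e k).1 * R (e k).2⁻¹
      conv_lhs => rw [hLR k]
      rw [show c * (L (e k).1 * R (e k).2) * c⁻¹ =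
        (c * L (e k).1 * c⁻¹) * (c * R (e k).2 * c⁻¹) by group, hcL, hcR])
    rw [h1]
    show (e (e.symm _)).1 = (e k).1
    rw [e.apply_symm_apply]
  have hmc : ∀ {w : G}, w ∉ K → w * c ∈ K := fun hw =>
    (mul_mem_iff_of_index_two hK).2 (iff_of_false hw hcK)
  classical
  let π : G → SL(2, F) := fun w => if h : w ∈ K then p ⟨w, h⟩ else p ⟨w * c, hmc h⟩
  have hπK : ∀ k : K, π k = p k := fun k => dif_pos k.2
  have hπc : ∀ w, π (w * c) = π w := by
    intro w
    by_cases hw : w ∈ K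
    · have hwc : w * c ∉ K := fun h => hcK (by simpa using mul_mem (inv_mem hw) h)
      simp only [π, dif_pos hw, dif_neg hwc]
      congr 1
      exact Subtype.ext (show w * c * c = w by rw [mul_assoc, hcc, mul_one])
    · simp only [π, dif_neg hw, dif_pos (hmc hw)]
  have hπmul : ∀ v w, π (v * w) = π v * π w := by
    have h1 : ∀ (v : G) (k : K), π (v * k) = π v * p k := by
      intro v k
      by_cases hv : v ∈ K
      · rw [show v * (k : G) = ((⟨v, hv⟩ * k : K) : G) from rfl, hπK, map_mul, ← hπK ⟨v, hv⟩]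
      · have hk : c * k * c⁻¹ ∈ K := hKn.conj_mem _ k.2 c
        rw [← hπc (v * k), ← hπc v,
          show v * (k : G) * c = ((⟨v * c, hmc hv⟩ * ⟨c * k * c⁻¹, hk⟩ : K) : G) by
            show v * (k : G) * c = v * c * (c * k * c⁻¹)
            rw [show v * c * (c * k * c⁻¹) = v * (c * c) * k * c⁻¹ by group, hcc, mul_one, hci],
          hπK, map_mul, hpc, ← hπK ⟨v * c, hmc hv⟩]
    intro v w
    by_cases hw : w ∈ K
    · rw [h1 v ⟨w, hw⟩, ← hπK ⟨w, hw⟩]
    · rw [← hπc (v * w), mul_assoc, h1 v ⟨w * c, hmc hw⟩, ← hπK ⟨w * c, hmc hw⟩, hπc w]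
  let χ : G →* SL(2, F) := MonoidHom.mk' π hπmul
  have hχ : Function.Surjective χ := fun l => ⟨L l, by
    show π ((e.symm (l, 1) : K) : G) = l
    rw [hπK]
    show (e (e.symm (l, 1))).1 = l
    rw [e.apply_symm_apply]⟩
  -- the kernel has order twice an odd number
  have hker : Nat.card χ.ker = 2 * Nat.card A := by
    have h1 := χ.ker.card_mul_index
    rw [index_ker, MonoidHom.range_eq_top.2 hχ, card_top] at h1
    have h2 := K.card_mul_index
    rw [hK, Nat.card_congr e.toEquiv, Nat.card_prod, ← h1] at h2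
    refine Nat.eq_of_mul_eq_mul_right (m := Nat.card SL(2, F)) Nat.card_pos ?_
    rw [← h2]; ring
  have hF : 3 < Fintype.card F := by
    by_contra hlt
    obtain ⟨p', hp'⟩ := CharP.exists F
    obtain ⟨n, hpp, hpn⟩ := FiniteField.card F p'
    obtain rfl : 2 = p' := CharP.eq F hchar hp'
    have h1 := Fintype.one_lt_card (α := F)
    have hn : (n : ℕ) = 1 := by
      by_contra hne
      have : 4 ≤ Fintype.card F := hpn ▸ (Nat.pow_le_pow_right two_pos
        (show 2 ≤ (n : ℕ) by have := n.pos; omega))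
      omega
    rw [hn, pow_one] at hpn
    have hSL : Nat.card SL(2, F) = 2 ^ 1 * 3 ^ 1 := by
      rw [CfsgLib.Linear.card_SL_two, hpn]; norm_num
    haveI : Group.IsSolvable SL(2, F) :=
      CfsgLib.Characters.isSolvable_of_card_eq_primePow_mul 2 3 1 1 Nat.prime_two Nat.prime_three hSL.dvd
    haveI : Group.IsSolvable A := Group.isSolvable_of_comm fun a b => mul_comm a b
    exact hnsK (Group.isSolvable_of_isSolvable_injective (f := e.toMonoidHom) e.injective)
  have heven : Odd (Fintype.card F - 1) := by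
    obtain ⟨p', hp'⟩ := CharP.exists F
    obtain ⟨n, hpp, hpn⟩ := FiniteField.card F p'
    obtain rfl : 2 = p' := CharP.eq F hchar hp'
    obtain ⟨j, hj⟩ := Nat.exists_eq_add_of_le' n.pos
    rw [hpn, hj, pow_succ]
    have : 1 ≤ 2 ^ j := Nat.one_le_two_pow
    exact ⟨2 ^ j - 1, by omega⟩
  have hbot : center SL(2, F) = ⊥ := by
    rw [← card_eq_one, CfsgLib.Linear.card_center_SL, Fintype.card_fin]
    exact Nat.coprime_two_left.2 heven
  let e2 : SL(2, F) ≃* Matrix.ProjectiveSpecialLinearGroup (Fin 2) F :=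
    MulEquiv.ofBijective (QuotientGroup.mk' (center SL(2, F)))
      ⟨(MonoidHom.ker_eq_bot_iff _).1 (by rw [QuotientGroup.ker_mk', hbot]),
        QuotientGroup.mk'_surjective _⟩
  exact ⟨χ.ker, inferInstance, Or.inr ⟨Nat.card A, hA, hker⟩, F, fF, fFin, hF,
    Or.inl ⟨(QuotientGroup.quotientKerEquivOfSurjective χ hχ).trans e2⟩⟩

/-- The general case. -/
theorem Hyp.concl (d : Hyp H B) (hns : ¬ Group.IsSolvable G) (h4 : 4 ∣ Nat.card H) : Concl G := by
  haveI : Fact (Nat.Prime 2) := ⟨Nat.prime_two⟩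
  obtain ⟨x, hx, hxB⟩ := d.out
  have hi : (B.subgroupOf H).index = 2 := index_eq_two_iff.2 ⟨⟨x, hx⟩, fun b => by
    by_cases hb : (b : G) ∈ B
    · exact Or.inr ⟨hb, fun h => hxB (by simpa using mul_mem (inv_mem hb) h)⟩
    · exact Or.inl ⟨d.prod b b.2 hb x hx hxB, hb⟩⟩
  have h2 : 2 ∣ Nat.card B := by
    have h := (B.subgroupOf H).card_mul_index
    rw [hi, Nat.card_congr (subgroupOfEquivOfLe d.le).toEquiv] at h
    omega
  obtain ⟨⟨t, htB⟩, ht⟩ := exists_prime_orderOf_dvd_card' (G := B) 2 h2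
  rw [orderOf_mk] at ht
  by_cases huniq : ∀ b ∈ B, b * b = 1 → b = 1 ∨ b = t
  · have hA : GD (centralizer ({t} : Set G)) B t := by
      rw [d.cent_eq htB ht]
      exact ⟨d.le, d.comm, ht, htB, huniq, d.outSq, d.prod, d.out⟩
    exact concl_of_pslish ((good_of_d2 ⟨t, B, hA⟩).resolve_left hns)
  · push Not at huniq
    obtain ⟨u, hu, hu2, hu1, hut⟩ := huniq
    exact d.concl_of_four hns htB hu
      ⟨ht, orderOf_two_of_mul_self hu2 hu1, hut.symm, d.comm t htB u hu⟩

end CfsgLib.DGroupCent
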