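import Cfsg.Agent.DGroupCent.Basic
import Cfsg.Agent.Solvable.Fitting
import Cfsg.Agent.BlocksCharsC.PGroupCenter

/-!
# Invariant odd subgroups of solvable groups with generalised dihedral centralizers
-/

set_option autoImplicit false
set_option linter.style.haveILetI false

namespace CfsgLib.DGroupCent

open Subgroup

variable {H : Type*} [Group H] [Finite H]

/-- The case of trivial odd core. -/
theorem eq_bot_of_solvable_core_free [Group.IsSolvable H] (hO : Cfsg.oddCore H = ⊥) (hgd : GDAll H)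
    {i j : H} (hi : orderOf i = 2) (hj : orderOf j = 2) (hne : i ≠ j) (hij : i * j = j * i)
    {U : Subgroup H} (hodd : Odd (Nat.card U)) (hUi : ∀ u ∈ U, i * u * i⁻¹ ∈ U)
    (hUj : ∀ u ∈ U, j * u * j⁻¹ ∈ U) : U = ⊥ := by
  haveI : Fact (Nat.Prime 2) := ⟨Nat.prime_two⟩
  haveI : Nontrivial H := ⟨⟨i, 1, ne_one_of_orderOf hi⟩⟩
  set P := Cfsg.pCore 2 H with hP
  have hF : Cfsg.fittingSubgroup H ≤ P := by
    rw [CfsgLib.Solvable.fittingSubgroup_eq_iSup]
    refine iSup_le fun p => ?_
    by_cases hp : (p : ℕ) = 2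
    · rw [hp]
    haveI := Fact.mk p.2
    haveI := CfsgLib.Solvable.pCore_normal (G := H) (p : ℕ)
    obtain ⟨k, hk⟩ := (CfsgLib.Solvable.isPGroup_pCore (G := H) (p : ℕ)).exists_card_eq
    have h := CfsgLib.PLocal.le_pPrimeCore (N := Cfsg.pCore (p : ℕ) H) (p := 2)
      (by rw [hk]; exact ((Nat.coprime_primes p.2 Nat.prime_two).2 hp).pow_left k)
    exact (h.trans hO.le).trans bot_le
  have hPn : P.Normal := CfsgLib.Solvable.pCore_normal 2
  have hPp : IsPGroup 2 P := CfsgLib.Solvable.isPGroup_pCore 2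
  have hCP : centralizer (P : Set H) ≤ P :=
    (centralizer_le (SetLike.coe_subset_coe.2 hF)).trans
      (CfsgLib.Solvable.centralizer_fittingSubgroup_le.trans hF)
  have hP1 : P ≠ ⊥ := fun e => CfsgLib.Solvable.fittingSubgroup_ne_bot (G := H)
    (le_bot_iff.1 (e ▸ hF))
  -- a Sylow subgroup containing the four group
  set V := closure ({i, j} : Set H) with hV
  have hVp : IsPGroup 2 V := fun v => ⟨1, Subtype.ext (by
    rw [pow_one, Subgroup.coe_pow, sq]
    rcases sq_eq_one_of_mem_closure_pair (mul_self_of_orderOf hi) (mul_self_of_orderOf hj) hij v v.2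
      with e | e | e | e <;> rw [e]
    · simp
    · exact mul_self_of_orderOf hi
    · exact mul_self_of_orderOf hj
    · calc i * j * (i * j) = i * (j * i) * j := by group
        _ = (i * i) * (j * j) := by rw [← hij]; group
        _ = 1 := by rw [mul_self_of_orderOf hi, mul_self_of_orderOf hj, one_mul])⟩
  obtain ⟨S, hS⟩ := hVp.exists_le_sylow
  have hPS : P ≤ (S : Subgroup H) := CfsgLib.Solvable.pCore_le_sylow S
  have hiS : i ∈ (S : Subgroup H) := hS (subset_closure (by simp))
  have hjS : j ∈ (S : Subgroup H) := hS (subset_closure (by simp))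
  -- an involution of `P` central in `S`
  obtain ⟨z, hzP, hz, hzS⟩ : ∃ z ∈ P, orderOf z = 2 ∧ ∀ s ∈ (S : Subgroup H), s * z = z * s := by
    haveI : Nontrivial (P.subgroupOf S) := by
      rw [nontrivial_iff_ne_bot, Ne, subgroupOf_eq_bot, disjoint_iff, inf_eq_left.2 hPS]
      exact hP1
    haveI : (P.subgroupOf S).Normal := hPn.comap _
    have hne' := CfsgLib.BlocksCharsC.inf_center_ne_bot S.isPGroup' (P.subgroupOf S)
    obtain ⟨w, hw⟩ := exists_prime_orderOf_dvd_card' (G := ↥(P.subgroupOf S ⊓ center S)) 2 (by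
      obtain ⟨k, hk, hk'⟩ := (S.isPGroup'.to_subgroup _).nontrivial_iff_card.1
        ((Subgroup.nontrivial_iff_ne_bot _).2 hne')
      exact hk' ▸ dvd_pow_self 2 hk.ne')
    refine ⟨((w : (S : Subgroup H)) : H), w.2.1, by rw [orderOf_coe, orderOf_coe, hw],
      fun s hs => ?_⟩
    exact congrArg Subtype.val (mem_center_iff.1 w.2.2 ⟨s, hs⟩)
  -- `z` is not central
  by_cases hzc : ∀ g : H, g * z = z * g
  · -- then `H` is generalised dihedral
    obtain ⟨s, hs, hsS, hsz⟩ : ∃ s, orderOf s = 2 ∧ s ∈ (S : Subgroup H) ∧ z ≠ s := by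
      by_cases e : z = i
      · exact ⟨j, hj, hjS, e ▸ hne⟩
      · exact ⟨i, hi, hiS, e⟩
    obtain ⟨A, hA, -⟩ := hgd z s hz hs hsz (hzS s hsS).symm
    have hall : ∀ g : H, g ∈ centralizer ({z} : Set H) := fun g =>
      mem_centralizer_singleton_iff.2 (hzc g)
    let R : Subgroup H :=
      { carrier := {g | g ∈ A ∧ Odd (orderOf g)}
        one_mem' := ⟨one_mem _, by simp⟩
        mul_mem' := fun {a b} ha hb => ⟨mul_mem ha.1 hb.1,
          (ha.2.mul hb.2).of_dvd_nat
            ((Commute.orderOf_mul_dvd_lcm (hA.comm a ha.1 b hb.1)).trans (Nat.lcm_dvd_mul _ _))⟩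
        inv_mem' := fun {a} ha => ⟨inv_mem ha.1, by rw [orderOf_inv]; exact ha.2⟩ }
    haveI : R.Normal := ⟨fun n hn g => by
      have ho : Odd (orderOf (g * n * g⁻¹)) := by
        have := orderOf_injective (MulAut.conj g).toMonoidHom (MulAut.conj g).injective n
        simpa [show (MulAut.conj g).toMonoidHom n = g * n * g⁻¹ from rfl] using this ▸ hn.2
      exact ⟨hA.mem_of_odd (hall _) ho, ho⟩⟩
    have hRodd : Odd (Nat.card R) := by
      rw [← Nat.not_even_iff_odd, even_iff_two_dvd]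
      intro h2
      obtain ⟨w, hw⟩ := exists_prime_orderOf_dvd_card' (G := R) 2 h2
      have h3 := w.2.2
      rw [orderOf_coe, hw] at h3
      exact absurd h3 (by decide)
    have hR : R = ⊥ :=
      le_bot_iff.1 (hO ▸ CfsgLib.PLocal.le_pPrimeCore (Nat.coprime_two_right.2 hRodd))
    refine le_bot_iff.1 fun u hu => ?_
    exact hR ▸ (⟨hA.mem_of_odd (hall u) (odd_orderOf hodd hu), odd_orderOf hodd hu⟩ : u ∈ R)
  -- so `P` has another central involution and is a four group
  obtain ⟨z', hz'P, hz', hzz', hz'c⟩ : ∃ z' ∈ P, orderOf z' = 2 ∧ z ≠ z' ∧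
      ∀ p ∈ P, p * z' = z' * p := by
    by_contra hno
    push Not at hno
    refine hzc fun g => ?_
    by_contra hg
    have hconj : orderOf (g * z * g⁻¹) = 2 := by
      have := orderOf_injective (MulAut.conj g).toMonoidHom (MulAut.conj g).injective z
      exact this.trans hz
    obtain ⟨p, hp, hne'⟩ := hno (g * z * g⁻¹) (hPn.conj_mem z hzP g) hconj
      fun e => hg (mul_inv_eq_iff_eq_mul.1 e.symm)
    refine hne' ?_
    have h1 := hzS _ (hPS (by simpa using hPn.conj_mem p hp g⁻¹ : g⁻¹ * p * g ∈ P))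
    calc p * (g * z * g⁻¹) = g * ((g⁻¹ * p * g) * z) * g⁻¹ := by group
      _ = g * (z * (g⁻¹ * p * g)) * g⁻¹ := by rw [h1]
      _ = g * z * g⁻¹ * p := by group
  have hzc' : z * z' = z' * z := (hzS z' (hPS hz'P)).symm
  have hPfour : ∀ p ∈ P, p = 1 ∨ p = z ∨ p = z' ∨ p = z * z' := fun p hp =>
    hgd.centralizer_pair hz hz' hzz' hzc' (hzS p (hPS hp)) (hz'c p hp)
  have hzV : z = 1 ∨ z = i ∨ z = j ∨ z = i * j :=
    hgd.centralizer_pair hi hj hne hij (hzS i hiS).symm (hzS j hjS).symm
  have hzU : ∀ u ∈ U, z * u * z⁻¹ ∈ U := by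
    intro u hu
    rcases hzV with e | e | e | e <;> rw [e]
    · simpa using hu
    · exact hUi u hu
    · exact hUj u hu
    · simpa [mul_assoc] using hUi _ (hUj u hu)
  have hUP : ∀ u, u ∈ U → u ∈ P → u = 1 := by
    intro u hu hup
    obtain ⟨k, hk⟩ := IsPGroup.iff_orderOf.1 hPp ⟨u, hup⟩
    rw [orderOf_mk] at hk
    exact orderOf_eq_one_iff.1 (Nat.eq_one_of_dvd_coprimes
      ((Nat.coprime_two_right.2 (odd_orderOf hodd hu)).pow_right k) dvd_rfl hk.dvd)
  refine le_bot_iff.1 fun u hu => ?_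
  rw [mem_bot]
  have huz : u * z = z * u := by
    have h1 : z * u * z⁻¹ * u⁻¹ ∈ U := mul_mem (hzU u hu) (inv_mem hu)
    have h2 : z * u * z⁻¹ * u⁻¹ ∈ P := by
      rw [show z * u * z⁻¹ * u⁻¹ = z * (u * z⁻¹ * u⁻¹) by group]
      exact mul_mem hzP (hPn.conj_mem _ (inv_mem hzP) u)
    exact (mul_inv_eq_iff_eq_mul.1 (mul_inv_eq_one.1 (hUP _ h1 h2))).symm
  have huo := odd_orderOf hodd hu
  have huz' : u * z' = z' * u := by
    have hstep : ∀ v ∈ U, v * z = z * v → v * z' * v⁻¹ = z' ∨ v * z' * v⁻¹ = z * z' := by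
      intro v _ hvz
      rcases hPfour _ (hPn.conj_mem z' hz'P v) with e | e | e | e
      · exact absurd (conj_eq_one_iff.1 e) (ne_one_of_orderOf hz')
      · refine absurd ?_ hzz'
        calc z = v⁻¹ * (v * z) := by group
          _ = v⁻¹ * (v * z' * v⁻¹) * v := by rw [hvz, e]; group
          _ = z' := by group
      · exact Or.inl e
      · exact Or.inr e
    rcases hstep u hu huz with e | e
    · exact mul_inv_eq_iff_eq_mul.1 e
    · have h2 : u * u ∈ centralizer ({z'} : Set H) := mem_centralizer_singleton_iff.2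
        (mul_inv_eq_iff_eq_mul.1 (by
          calc u * u * z' * (u * u)⁻¹ = u * (u * z' * u⁻¹) * u⁻¹ := by group
            _ = (u * z * u⁻¹) * (u * z' * u⁻¹) := by conv_lhs => rw [e]
                                                     group
            _ = z * (z * z') := by rw [e, huz, mul_inv_cancel_right]
            _ = z' := by rw [← mul_assoc, mul_self_of_orderOf hz, one_mul]))
      exact mem_centralizer_singleton_iff.1 (mem_of_sq_mem_of_odd huo h2)
  refine hUP u hu (hCP (mem_centralizer_iff.2 fun p hp => ?_))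
  rcases hPfour p hp with e | e | e | e <;> rw [e]
  · simp
  · exact huz.symm
  · exact huz'.symm
  · rw [mul_assoc, ← huz', ← mul_assoc, ← huz, mul_assoc]

/-- An odd subgroup normalized by a four group of a solvable group lies in the odd core. -/
theorem le_oddCore_of_solvable [Group.IsSolvable H] (hgd : GDAll H)
    {i j : H} (hi : orderOf i = 2) (hj : orderOf j = 2) (hne : i ≠ j) (hij : i * j = j * i)
    {U : Subgroup H} (hodd : Odd (Nat.card U)) (hUi : ∀ u ∈ U, i * u * i⁻¹ ∈ U)
    (hUj : ∀ u ∈ U, j * u * j⁻¹ ∈ U) : U ≤ Cfsg.oddCore H := by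
  let f := QuotientGroup.mk' (Cfsg.oddCore H)
  have hf : Function.Surjective f := QuotientGroup.mk'_surjective _
  have hker : Odd (Nat.card f.ker) := by
    rw [QuotientGroup.ker_mk']
    exact CfsgLib.TwoGroups.odd_card_oddCore
  haveI : Group.IsSolvable (H ⧸ Cfsg.oddCore H) := Group.isSolvable_of_surjective hf
  have hne' : f i ≠ f j := by
    intro e
    have hk : i * j ∈ f.ker := by
      rw [MonoidHom.mem_ker, map_mul, e, ← map_mul, mul_self_of_orderOf hj, map_one]
    refine hne ?_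
    have h1 := eq_one_of_odd hker hk (by
      calc i * j * (i * j) = i * (j * i) * j := by group
        _ = (i * i) * (j * j) := by rw [← hij]; group
        _ = 1 := by rw [mul_self_of_orderOf hi, mul_self_of_orderOf hj, one_mul])
    rw [eq_inv_of_mul_eq_one_left h1, inv_eq_of_mul_eq_one_right (mul_self_of_orderOf hj)]
  have h := eq_bot_of_solvable_core_free
    (CfsgLib.PLocal.pPrimeCore_quotient_pPrimeCore_eq_bot 2 H) (hgd.quot hf hker)
    (orderOf_map_involution hker hi) (orderOf_map_involution hker hj) hne'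
    (by rw [← map_mul, hij, map_mul]) (U := U.map f) (hodd.of_dvd_nat (card_map_dvd U f))
    (by rintro _ ⟨u, hu, rfl⟩; exact ⟨_, hUi u hu, by simp⟩)
    (by rintro _ ⟨u, hu, rfl⟩; exact ⟨_, hUj u hu, by simp⟩)
  rwa [Subgroup.map_eq_bot_iff, QuotientGroup.ker_mk'] at h

end CfsgLib.DGroupCent
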