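import Cfsg.Agent.DGroupCent.Solvable
import Cfsg.Agent.DGroupCent.Free
import Cfsg.Agent.DGroupCent.Psl
import Cfsg.Agent.Solvable.Basic
import Cfsg.Agent.Solvable.Nilpotent
import Cfsg.Agent.TwoGroupsQ.UniqueInvolution

/-!
# Groups over `PSL(2, q)` or `PGL(2, q)` whose involution centralizers are generalised dihedral

If such a group `L` has a nontrivial normal `p`-subgroup, `p` odd, then all `p`-elements commuting
with involutions lie in the odd core.
-/

set_option autoImplicit false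
set_option linter.style.haveILetI false

open scoped commutatorElement

namespace CfsgLib.DGroupCent.Torus

open Subgroup

section General

variable {L X : Type*} [Group L] [Finite L] [Group X] {f : L →* X}

/-- With one four group, every involution commutes with another one. -/
theorem exists_partner {a b i : L} (ha : orderOf a = 2) (hb : orderOf b = 2) (hne : a ≠ b)
    (hab : a * b = b * a) (hi : orderOf i = 2) :
    ∃ j, orderOf j = 2 ∧ i ≠ j ∧ i * j = j * i := by
  haveI : Fact (Nat.Prime 2) := ⟨Nat.prime_two⟩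
  obtain ⟨S, hS⟩ := (IsPGroup.of_card (n := 1) (by rw [Nat.card_zpowers, hi, pow_one]) :
    IsPGroup 2 (zpowers i)).exists_le_sylow
  have hV : IsPGroup 2 (closure ({a, b} : Set L)) := fun v => ⟨1, Subtype.ext (by
    rw [pow_one, Subgroup.coe_pow, sq]
    rcases sq_eq_one_of_mem_closure_pair (mul_self_of_orderOf ha) (mul_self_of_orderOf hb) hab v v.2
      with e | e | e | e <;> rw [e]
    · simp
    · exact mul_self_of_orderOf ha
    · exact mul_self_of_orderOf hb
    · calc a * b * (a * b) = a * (b * a) * b := by group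
        _ = (a * a) * (b * b) := by rw [← hab]; group
        _ = 1 := by rw [mul_self_of_orderOf ha, mul_self_of_orderOf hb, one_mul])⟩
  obtain ⟨T, hT⟩ := hV.exists_le_sylow
  obtain ⟨g, hg⟩ := MulAction.exists_smul_eq L T S
  have hiS : i ∈ (S : Subgroup L) := hS (mem_zpowers i)
  have hmem : ∀ v ∈ closure ({a, b} : Set L), g * v * g⁻¹ ∈ (S : Subgroup L) := fun v hv => by
    rw [← hg, Sylow.coe_subgroup_smul]
    exact Subgroup.smul_mem_pointwise_smul v (MulAut.conj g) _ (hT hv)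
  haveI : Nontrivial (S : Subgroup L) :=
    ⟨⟨⟨i, hiS⟩, 1, fun e => ne_one_of_orderOf hi (congrArg Subtype.val e)⟩⟩
  haveI := S.isPGroup'.center_nontrivial
  obtain ⟨w, hw⟩ := exists_prime_orderOf_dvd_card' (G := center (S : Subgroup L)) 2 (by
    obtain ⟨k, hk, hk'⟩ := (S.isPGroup'.to_subgroup (center (S : Subgroup L))).nontrivial_iff_card.1
      inferInstance
    exact hk' ▸ dvd_pow_self 2 hk.ne')
  have hz : orderOf ((w : (S : Subgroup L)) : L) = 2 := by rw [orderOf_coe, orderOf_coe, hw]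
  have hcent : ∀ s ∈ (S : Subgroup L), s * ((w : (S : Subgroup L)) : L) = w * s := fun s hs =>
    congrArg Subtype.val (mem_center_iff.1 w.2 ⟨s, hs⟩)
  by_cases e : ((w : (S : Subgroup L)) : L) = i
  · have hconj : ∀ v : L, orderOf v = 2 → orderOf (g * v * g⁻¹) = 2 := fun v hv => by
      rw [show g * v * g⁻¹ = (MulAut.conj g).toMonoidHom v from rfl,
        orderOf_injective _ (MulAut.conj g).injective, hv]
    obtain ⟨v, hv, hvV, hvi⟩ : ∃ v, orderOf v = 2 ∧ v ∈ closure ({a, b} : Set L) ∧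
        i ≠ g * v * g⁻¹ := by
      by_cases e' : i = g * a * g⁻¹
      · exact ⟨b, hb, subset_closure (by simp), fun h => hne (by
          simpa using e'.symm.trans h)⟩
      · exact ⟨a, ha, subset_closure (by simp), e'⟩
    refine ⟨g * v * g⁻¹, hconj v hv, hvi, ?_⟩
    rw [← e]
    exact (hcent _ (hmem v hvV)).symm
  · exact ⟨_, hz, fun h => e h.symm, hcent i hiS⟩

theorem exists_lift_involution (hsurj : Function.Surjective f) (hker : f.ker = Cfsg.oddCore L)
    {s : X} (hs : orderOf s = 2) : ∃ i : L, orderOf i = 2 ∧ f i = s := by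
  obtain ⟨a, -, ha, -, ha2, -, -⟩ := exists_lift_pair hsurj
    (by rw [hker]; exact CfsgLib.TwoGroups.odd_card_oddCore) (mul_self_of_orderOf hs) (one_mul 1)
    (by rw [mul_one, one_mul])
  exact ⟨a, orderOf_two_of_mul_self ha2 fun e => ne_one_of_orderOf hs (by rw [← ha, e, map_one]),
    ha⟩

theorem exists_lift_four (hsurj : Function.Surjective f) (hker : f.ker = Cfsg.oddCore L)
    {s t : X} (hs : orderOf s = 2) (ht : orderOf t = 2) (hne : s ≠ t) (hst : s * t = t * s) :
    ∃ i j : L, orderOf i = 2 ∧ orderOf j = 2 ∧ i ≠ j ∧ i * j = j * i ∧ f i = s ∧ f j = t := by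
  obtain ⟨a, b, ha, hb, ha2, hb2, hab⟩ := exists_lift_pair hsurj
    (by rw [hker]; exact CfsgLib.TwoGroups.odd_card_oddCore) (mul_self_of_orderOf hs)
    (mul_self_of_orderOf ht) hst
  exact ⟨a, b, orderOf_two_of_mul_self ha2 fun e => ne_one_of_orderOf hs (by rw [← ha, e, map_one]),
    orderOf_two_of_mul_self hb2 fun e => ne_one_of_orderOf ht (by rw [← hb, e, map_one]),
    fun e => hne (by rw [← ha, ← hb, e]), hab, ha, hb⟩

/-- The odd core centralizes a minimal normal subgroup inside it. -/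
theorem core_centralizes (hgd : GDAll L) {L1 : Subgroup L} (hOL : Cfsg.oddCore L ≤ L1)
    (hsimple : ∀ Y : Subgroup L, Cfsg.oddCore L ≤ Y → Y ≤ L1 →
      (∀ g ∈ L1, ∀ y ∈ Y, g * y * g⁻¹ ∈ Y) → Y = Cfsg.oddCore L ∨ Y = L1)
    {i j : L} (hi : orderOf i = 2) (hj : orderOf j = 2) (hne : i ≠ j) (hij : i * j = j * i)
    (hiL : i ∈ L1) (hjL : j ∈ L1) {W : Subgroup L} [hWn : W.Normal] (hWO : W ≤ Cfsg.oddCore L)
    (hW : W ≠ ⊥) (hmin : ∀ K : Subgroup L, K.Normal → K ≤ W → K = ⊥ ∨ K = W) :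
    (∀ v ∈ W, ∀ w ∈ W, v * w = w * v) ∧ ∀ o ∈ Cfsg.oddCore L, ∀ w ∈ W, o * w = w * o := by
  set O := Cfsg.oddCore L with hO
  have hOn : O.Normal := inferInstance
  have hOodd : Odd (Nat.card O) := CfsgLib.TwoGroups.odd_card_oddCore
  have hfO : ∀ {a b : L}, orderOf a = 2 → orderOf b = 2 → a ≠ b → a * b = b * a → Fpf a b O :=
    fun ha hb hab hc => hgd.fpf ha hb hab hc hOodd (fun y hy => hOn.conj_mem y hy _)
      fun y hy => hOn.conj_mem y hy _
  have hf := hfO hi hj hne hij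
  haveI : Group.IsSolvable W := by
    haveI := hf.solvable
    exact CfsgLib.Coprime.isSolvable_of_le hWO
  have hWc : ∀ v ∈ W, ∀ w ∈ W, v * w = w * v := fun v hv w hw =>
    commutatorElement_eq_one_iff_mul_comm.1 (mem_bot.1
      (CfsgLib.Solvable.commutator_eq_bot_of_minimal_normal hW hmin ▸
        commutator_mem_commutator hv hw :))
  refine ⟨hWc, ?_⟩
  -- the derived subgroup of `O` centralizes `W`
  have hD : ⁅O, O⁆ ≤ centralizer (W : Set L) := by
    set N : Subgroup L := ⁅O, O⁆ with hN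
    haveI : N.Normal := inferInstance
    rcases hmin (W ⊓ N) inferInstance inf_le_left with e | e
    · intro n hn
      refine mem_centralizer_iff.2 fun w hw => ?_
      refine commutatorElement_eq_one_iff_mul_comm.1 (mem_bot.1 (e ▸ ?_ : ⁅w, n⁆ ∈ (⊥ : Subgroup L)))
      exact ⟨(commutator_le_left W N) (commutator_mem_commutator hw hn),
        (commutator_le_right W N) (commutator_mem_commutator hw hn)⟩
    · have hWN : W ≤ N := inf_eq_left.1 e
      haveI : Group.IsNilpotent N := hf.derived_nilpotent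
      have hne' : W.subgroupOf N ≠ ⊥ := by
        rw [Ne, subgroupOf_eq_bot, disjoint_iff, e]; exact hW
      have h1 := CfsgLib.Solvable.inf_center_ne_bot hne'
      obtain ⟨⟨z, hzN⟩, hz, hz1⟩ := (Subgroup.bot_or_exists_ne_one _).resolve_left h1
      rcases hmin (W ⊓ centralizer (N : Set L)) inferInstance inf_le_left with e' | e'
      · refine absurd (Subtype.ext (mem_bot.1 (e' ▸ ⟨hz.1, mem_centralizer_iff.2 fun n hn => ?_⟩ :
          z ∈ (⊥ : Subgroup L)))) hz1
        exact congrArg Subtype.val (mem_center_iff.1 hz.2 ⟨n, hn⟩)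
      · intro n hn
        exact mem_centralizer_iff.2 fun w hw =>
          (mem_centralizer_iff.1 (inf_eq_left.1 e' hw) n hn).symm
  by_contra hnot
  have hCbot : ∀ w ∈ W, (∀ o ∈ O, o * w = w * o) → w = 1 := by
    rcases hmin (W ⊓ centralizer (O : Set L)) inferInstance inf_le_left with e | e
    · intro w hw h
      exact mem_bot.1 (e ▸ ⟨hw, mem_centralizer_iff.2 h⟩)
    · exact absurd (fun o ho w hw => mem_centralizer_iff.1 (inf_eq_left.1 e hw) o ho) hnot
  have hmod : ∀ {a b : L}, orderOf a = 2 → orderOf b = 2 → a ≠ b → a * b = b * a →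
      Module' a b O W O := fun ha hb hab hc =>
    ⟨hfO ha hb hab hc, hWO, le_rfl, hWc, fun w hw => hWn.conj_mem w hw _,
      fun w hw => hWn.conj_mem w hw _, fun w hw => hOn.conj_mem w hw _,
      fun w hw => hOn.conj_mem w hw _, fun z _ w hw => hWn.conj_mem w hw z,
      fun x hx y hy w hw => by
        have h1 : (x * y)⁻¹ * (y * x) ∈ centralizer (W : Set L) := hD (by
          rw [show (x * y)⁻¹ * (y * x) = ⁅y⁻¹, x⁻¹⁆ by rw [commutatorElement_def]; group]
          exact commutator_mem_commutator (inv_mem hy) (inv_mem hx))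
        symm
        calc y * x * w * (y * x)⁻¹
            = x * y * (((x * y)⁻¹ * (y * x)) * w) * (y * x)⁻¹ := by group
          _ = x * y * (w * ((x * y)⁻¹ * (y * x))) * (y * x)⁻¹ := by
              rw [mem_centralizer_iff.1 h1 w hw]
          _ = x * y * w * (x * y)⁻¹ := by group,
      hCbot⟩
  obtain ⟨K, hK⟩ := exists_isMaxFix (Z := O) hW
  have hKD : ∀ {K : Subgroup L}, IsMaxFix W O K → ⁅O, O⁆ ≤ K := fun {K} hK =>
    (le_inf (commutator_le_right O O) hD).trans hK.ker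
  have hOK : ∀ {K : Subgroup L}, IsMaxFix W O K → ∀ o ∈ O, ∀ k ∈ K, o * k * o⁻¹ ∈ K := by
    intro K hK o ho k hk
    have h1 : ⁅o, k⁆ ∈ K := hKD hK (commutator_mem_commutator ho (hK.le hk))
    have h2 := mul_mem h1 hk
    rwa [commutatorElement_def, inv_mul_cancel_right] at h2
  -- conjugation permutes the maximal subgroups
  have hconj : ∀ (g : L) {K : Subgroup L}, IsMaxFix W O K →
      IsMaxFix W O (K.map (MulAut.conj g).toMonoidHom) := by
    intro g K hK
    have hfix : ∀ (h : L) (K : Subgroup L), (∃ w ∈ W, w ≠ 1 ∧ ∀ k ∈ K, k * w = w * k) →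
        ∃ w ∈ W, w ≠ 1 ∧ ∀ k ∈ K.map (MulAut.conj h).toMonoidHom, k * w = w * k := by
      rintro h K ⟨w, hw, hw1, hwK⟩
      refine ⟨h * w * h⁻¹, hWn.conj_mem w hw h, fun e => hw1 (conj_eq_one_iff.1 e), ?_⟩
      rintro _ ⟨k, hk, rfl⟩
      show h * k * h⁻¹ * (h * w * h⁻¹) = h * w * h⁻¹ * (h * k * h⁻¹)
      rw [show h * k * h⁻¹ * (h * w * h⁻¹) = h * (k * w) * h⁻¹ by group, hwK k hk]
      group
    refine ⟨?_, ?_, hfix g K hK.fix, fun K' h1 h2 h3 k hk => ?_⟩
    · rintro _ ⟨k, hk, rfl⟩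
      exact hOn.conj_mem k (hK.le hk) g
    · intro y hy
      refine ⟨g⁻¹ * y * g, hK.ker ⟨by simpa using hOn.conj_mem y hy.1 g⁻¹,
        mem_centralizer_iff.2 fun w hw => ?_⟩, by simp [mul_assoc]⟩
      have h := mem_centralizer_iff.1 hy.2 _ (hWn.conj_mem w hw g)
      calc w * (g⁻¹ * y * g) = g⁻¹ * ((g * w * g⁻¹) * y) * g := by group
        _ = g⁻¹ * (y * (g * w * g⁻¹)) * g := by rw [h]
        _ = g⁻¹ * y * g * w := by group
    · have hle : K'.map (MulAut.conj g⁻¹).toMonoidHom ≤ K := by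
        refine hK.max _ (fun x hx => ⟨g * x * g⁻¹, h1 ⟨x, hx, rfl⟩, by simp [mul_assoc]⟩) ?_
          (hfix g⁻¹ K' h3)
        rintro _ ⟨x, hx, rfl⟩
        exact hOn.conj_mem x (h2 hx) g⁻¹
      exact ⟨g⁻¹ * k * g, hle ⟨k, hk, by simp⟩, by simp [mul_assoc]⟩
  -- the subgroup normalizing all of them
  let N : Subgroup L := ⨅ K : {K : Subgroup L // IsMaxFix W O K}, normalizer (K.1 : Set L)
  have hNmem : ∀ {g : L}, g ∈ N ↔ ∀ K : Subgroup L, IsMaxFix W O K → g ∈ normalizer (K : Set L) :=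
    by intro g; simp [N, Subgroup.mem_iInf]
  have hON : O ≤ N := fun o ho => hNmem.2 fun K hK => mem_normalizer_of_conj (hOK hK o ho)
  have hinvN : ∀ {a b : L}, orderOf a = 2 → orderOf b = 2 → a ≠ b → a * b = b * a → a ∈ N :=
    fun ha hb hab hc => hNmem.2 fun K hK =>
      mem_normalizer_of_conj ((hmod ha hb hab hc).normalizes hK).1
  haveI hNn : N.Normal := ⟨fun n hn g => hNmem.2 fun K hK => mem_normalizer_of_conj fun k hk => by
    have hn' := (mem_normalizer_iff.1 (hNmem.1 hn _ (hconj g⁻¹ hK)) (g⁻¹ * k * g)).1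
      ⟨k, hk, by simp⟩
    obtain ⟨x, hx, hxe⟩ := hn'
    have hxe' : g⁻¹ * x * g = n * (g⁻¹ * k * g) * n⁻¹ := by simpa using hxe
    have : x = g * n * g⁻¹ * k * (g * n * g⁻¹)⁻¹ := by
      calc x = g * (g⁻¹ * x * g) * g⁻¹ := by group
        _ = _ := by rw [hxe']; group
    exact this ▸ hx⟩
  have hinO : ∀ {a : L}, orderOf a = 2 → a ∉ O := fun ha h =>
    ne_one_of_orderOf ha (eq_one_of_odd hOodd h (mul_self_of_orderOf ha))
  have hL1N : L1 ≤ N := by
    rcases hsimple (N ⊓ L1) (le_inf hON hOL) inf_le_right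
      (fun g hg y hy => mem_inf.2 ⟨hNn.conj_mem y hy.1 g, mul_mem (mul_mem hg hy.2) (inv_mem hg)⟩) with e | e
    · exact absurd (e.le ⟨hinvN hi hj hne hij, hiL⟩) (hinO hi)
    · exact inf_eq_right.1 e
  -- the contradiction: one of the involutions centralizes `O` modulo `K`, so all of `L1` does
  have key : ∀ {c d : L}, orderOf c = 2 → orderOf d = 2 → c ≠ d → c * d = d * c → c ∈ L1 → d ∈ L1 →
      ∀ a ∈ O, a ∉ K → a * c = c * a → False := by
    intro c d hc hd hcd hcc hcL hdL a ha haK hac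
    have hm := hmod hc hd hcd hcc
    obtain ⟨hKc, -, hdec⟩ := hm.shape hK ha hac haK
    let N0 : Subgroup L :=
      { carrier := {g | g ∈ L1 ∧ ∀ z ∈ O, z⁻¹ * (g * z * g⁻¹) ∈ K}
        one_mem' := ⟨one_mem _, fun z _ => by simp⟩
        mul_mem' := fun {g h} hg hh => ⟨mul_mem hg.1 hh.1, fun z hz => by
          have h1 := mul_mem (hh.2 z hz) (hg.2 _ (hOn.conj_mem z hz h))
          rwa [show z⁻¹ * (h * z * h⁻¹) * ((h * z * h⁻¹)⁻¹ * (g * (h * z * h⁻¹) * g⁻¹)) =
            z⁻¹ * (g * h * z * (g * h)⁻¹) by group] at h1⟩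
        inv_mem' := fun {g} hg => ⟨inv_mem hg.1, fun z hz => by
          have h1 := inv_mem (hg.2 (g⁻¹ * z * g) (by simpa using hOn.conj_mem z hz g⁻¹))
          rwa [show ((g⁻¹ * z * g)⁻¹ * (g * (g⁻¹ * z * g) * g⁻¹))⁻¹ =
            z⁻¹ * (g⁻¹ * z * g⁻¹⁻¹) by group] at h1⟩ }
    have hON0 : O ≤ N0 := fun o ho => ⟨hOL ho, fun z hz => by
      rw [show z⁻¹ * (o * z * o⁻¹) = ⁅z⁻¹, o⁆ by rw [commutatorElement_def]; group]
      exact hKD hK (commutator_mem_commutator (inv_mem hz) ho)⟩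
    have hnorm : ∀ g ∈ L1, ∀ y ∈ N0, g * y * g⁻¹ ∈ N0 := by
      intro g hg y hy
      refine ⟨mul_mem (mul_mem hg hy.1) (inv_mem hg), fun z hz => ?_⟩
      have h1 := (mem_normalizer_iff.1 (hNmem.1 (hL1N hg) K hK) _).1
        (hy.2 (g⁻¹ * z * g) (by simpa using hOn.conj_mem z hz g⁻¹))
      rwa [show g * ((g⁻¹ * z * g)⁻¹ * (y * (g⁻¹ * z * g) * y⁻¹)) * g⁻¹ =
        z⁻¹ * (g * y * g⁻¹ * z * (g * y * g⁻¹)⁻¹) by group] at h1
    have hcN0 : c ∈ N0 := ⟨hcL, fun z hz => by
      obtain ⟨e, he, hec, hek⟩ := hdec z hz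
      have h2 := mul_mem (inv_mem hek) (hKc _ hek)
      rwa [show (e⁻¹ * z)⁻¹ * (c * (e⁻¹ * z) * c⁻¹) = z⁻¹ * ((e * c) * e⁻¹ * z * c⁻¹) by group,
        hec, show c * e * e⁻¹ * z * c⁻¹ = c * z * c⁻¹ by group] at h2⟩
    rcases hsimple N0 hON0 (fun g hg => hg.1) hnorm with e | e
    · exact hinO hc (e.le hcN0)
    · have hdN0 : d ∈ N0 := e.ge hdL
      have h1 := hdN0.2 a ha
      rw [hm.fpf.inv_of_comm ha hac, ← mul_inv_rev] at h1
      exact haK (mem_of_sq_mem_of_odd (odd_orderOf hOodd ha) (inv_mem_iff.1 h1))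
  obtain ⟨a, ha, haK, e | e | e⟩ := (hmod hi hj hne hij).exists_outside hK
  · exact key hi hj hne hij hiL hjL a ha haK e
  · exact key hj hi hne.symm hij.symm hjL hiL a ha haK e
  · have hk : orderOf (i * j) = 2 := orderOf_two_of_mul_self (hf.third.jj) fun e => hne (by
      rw [eq_inv_of_mul_eq_one_left e, inv_eq_of_mul_eq_one_right (mul_self_of_orderOf hj)])
    exact key hk hi (fun h => ne_one_of_orderOf hj (mul_eq_left.1 h)) (by
      rw [mul_assoc, ← hij]) (mul_mem hiL hjL) hiL a ha haK e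

/-- A minimal normal subgroup in `D` with the induced action of `X`. -/
theorem exists_module (hgd : GDAll L) (hsurj : Function.Surjective f)
    (hker : f.ker = Cfsg.oddCore L) (X1 : Subgroup X)
    (hX1 : ∀ Y : Subgroup X, Y ≤ X1 → (∀ g ∈ X1, ∀ y ∈ Y, g * y * g⁻¹ ∈ Y) → Y = ⊥ ∨ Y = X1)
    {s t : X} (hs : orderOf s = 2) (ht : orderOf t = 2) (hne : s ≠ t) (hst : s * t = t * s)
    (hsX : s ∈ X1) (htX : t ∈ X1)
    {p : ℕ} [Fact p.Prime] (hp : p ≠ 2) {D : Subgroup L} (hDn : D.Normal) (hD : D ≠ ⊥)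
    (hDp : IsPGroup p D) :
    ∃ W : Subgroup L, W ≠ ⊥ ∧ Odd (Nat.card W) ∧ IsPGroup p W ∧
      (∀ v ∈ W, ∀ w ∈ W, v * w = w * v) ∧
      ∃ ρ : X →* MulAut W, ∀ (g : L) (w : W), ((ρ (f g) w : W) : L) = g * w * g⁻¹ := by
  obtain ⟨W, hWn, hW, hWD, hmin⟩ := CfsgLib.Solvable.exists_minimal_normal_le hDn hD
  haveI := hWn
  have hWp : IsPGroup p W := hDp.to_le hWD
  have hWodd : Odd (Nat.card W) := by
    obtain ⟨k, hk⟩ := hWp.exists_card_eq
    rw [hk]
    exact ((Fact.out : p.Prime).odd_of_ne_two hp).pow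
  have hWO : W ≤ Cfsg.oddCore L := CfsgLib.PLocal.le_pPrimeCore (Nat.coprime_two_right.2 hWodd)
  obtain ⟨i, j, hi, hj, hij', hij, hfi, hfj⟩ := exists_lift_four hsurj hker hs ht hne hst
  have hO : Cfsg.oddCore L ≤ X1.comap f := fun o ho => by
    show f o ∈ X1
    rw [show f o = 1 from MonoidHom.mem_ker.1 (hker ▸ ho)]
    exact one_mem _
  obtain ⟨hWc, hcent⟩ := core_centralizes hgd hO (fun Y hOY hY hYn => by
      have hcm : (Y.map f).comap f = Y := comap_map_eq_self (hker ▸ hOY)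
      rcases hX1 (Y.map f) (map_le_iff_le_comap.2 hY) (by
        rintro g hg _ ⟨y, hy, rfl⟩
        obtain ⟨g, rfl⟩ := hsurj g
        exact ⟨_, hYn g hg y hy, by simp⟩) with e | e
      · left; rw [← hcm, e, ← hker]; exact MonoidHom.comap_bot f
      · right; rw [← hcm, e])
    hi hj hij' hij (show f i ∈ X1 from hfi ▸ hsX) (show f j ∈ X1 from hfj ▸ htX) hWO hW hmin
  have hle : f.ker ≤ (MulAut.conjNormal : L →* MulAut W).ker := by
    rw [hker]
    intro o ho
    refine MonoidHom.mem_ker.2 (MulEquiv.ext fun w => Subtype.ext ?_)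
    rw [MulAut.conjNormal_apply, MulAut.one_apply, hcent o ho w w.2, mul_inv_cancel_right]
  refine ⟨W, hW, hWodd, hWp, hWc, f.liftOfSurjective hsurj ⟨_, hle⟩, fun g w => ?_⟩
  rw [show f.liftOfSurjective hsurj ⟨_, hle⟩ (f g) = MulAut.conjNormal g from
    MonoidHom.liftOfRightInverse_comp_apply _ _ _ _ g, MulAut.conjNormal_apply]

variable {W : Subgroup L} {ρ : X →* MulAut W}
  (hgd : GDAll L) (hsurj : Function.Surjective f) (hker : f.ker = Cfsg.oddCore L)
  (hρ : ∀ (g : L) (w : W), ((ρ (f g) w : W) : L) = g * w * g⁻¹) (hWodd : Odd (Nat.card W))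

include hρ in
theorem comm_iff (g : L) (w : W) : ρ (f g) w = w ↔ (w : L) * g = g * w := by
  rw [Subtype.ext_iff, hρ, mul_inv_eq_iff_eq_mul, eq_comm]

include hgd hsurj hker hρ hWodd in
/-- An element whose square is not `1` commuting with an involution centralizes its fixed points. -/
theorem star {a b : X} (ha : orderOf a = 2) (hb : orderOf b = 2) (hne : a ≠ b)
    (hab : a * b = b * a) {s c : X} (hs : orderOf s = 2) (hcs : c * s = s * c) (hc : c * c ≠ 1)
    {w : W} (hw : ρ s w = w) : ρ c w = w := by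
  obtain ⟨u, v, hu, hv, huv, huv', -, -⟩ := exists_lift_four hsurj hker ha hb hne hab
  obtain ⟨i, hi, rfl⟩ := exists_lift_involution hsurj hker hs
  obtain ⟨j, hj, hij, hijc⟩ := exists_partner hu hv huv huv' hi
  obtain ⟨A, hA, -⟩ := hgd i j hi hj hij hijc
  have hm : c ∈ centralizer ({f i} : Set X) := mem_centralizer_singleton_iff.2 hcs
  rw [← map_centralizer_involution hsurj
    (by rw [hker]; exact CfsgLib.TwoGroups.odd_card_oddCore) hi] at hm
  obtain ⟨g, hg, rfl⟩ := hm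
  have hgA : g ∈ A := hA.mem_of_sq_ne_one hg fun e => hc (by rw [← map_mul, e, map_one])
  have hwA : (w : L) ∈ A := hA.mem_of_odd
    (mem_centralizer_singleton_iff.2 ((comm_iff hρ i w).1 hw)) (odd_orderOf hWodd w.2)
  exact (comm_iff hρ g w).2 (hA.comm _ hwA _ hgA)

include hgd hsurj hker hρ hWodd in
/-- Two commuting involutions have no common fixed points. -/
theorem eq_one_of_fixed {a b : X} (ha : orderOf a = 2) (hb : orderOf b = 2) (hne : a ≠ b)
    (hab : a * b = b * a) {w : W} (h1 : ρ a w = w) (h2 : ρ b w = w) : w = 1 := by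
  obtain ⟨i, j, hi, hj, hij, hijc, rfl, rfl⟩ := exists_lift_four hsurj hker ha hb hne hab
  have hw1 := (comm_iff hρ i w).1 h1
  have hw2 := (comm_iff hρ j w).1 h2
  have ho := odd_orderOf hWodd w.2
  apply Subtype.ext
  show (w : L) = 1
  have h : (w : L) * w = 1 → (w : L) = 1 := fun e => eq_one_of_odd hWodd w.2 e
  rcases hgd.centralizer_pair hi hj hij hijc hw1 hw2 with e | e | e | e
  · exact e
  · exact h (e ▸ mul_self_of_orderOf hi)
  · exact h (e ▸ mul_self_of_orderOf hj)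
  · refine h ?_
    rw [e]
    calc i * j * (i * j) = i * (j * i) * j := by group
      _ = (i * i) * (j * j) := by rw [← hijc]; group
      _ = 1 := by rw [mul_self_of_orderOf hi, mul_self_of_orderOf hj, one_mul]

include hgd hsurj hker hρ in
/-- The stabilizer of a nontrivial element fixed by an involution `s`. -/
theorem stabilizer_eq_one {s t : X} (hs : orderOf s = 2) (ht : orderOf t = 2) (hne : s ≠ t)
    (hst : s * t = t * s) (hWodd : Odd (Nat.card W)) {w : W} (hw1 : w ≠ 1) (hsw : ρ s w = w) :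
    ∃ Y : Subgroup X, Fpf s t Y ∧ ∀ x, ρ x w = w → ∃ k : ℕ, x ^ 2 ^ k ∈ Y := by
  haveI : Fact (Nat.Prime 2) := ⟨Nat.prime_two⟩
  obtain ⟨i, j, hi, hj, hij, hijc, rfl, rfl⟩ := exists_lift_four hsurj hker hs ht hne hst
  obtain ⟨A, hA, hjA⟩ := hgd i j hi hj hij hijc
  have hodd : Odd (Nat.card f.ker) := by rw [hker]; exact CfsgLib.TwoGroups.odd_card_oddCore
  have hwA : (w : L) ∈ A := hA.mem_of_odd
    (mem_centralizer_singleton_iff.2 ((comm_iff hρ i w).1 hsw)) (odd_orderOf hWodd w.2)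
  set C := centralizer ({(w : L)} : Set L) with hC
  have hiC : i ∈ C := mem_centralizer_singleton_iff.2 ((comm_iff hρ i w).1 hsw).symm
  have hCA : ∀ g ∈ C, g * i = i * g → g ∈ A := by
    intro g hg hgi
    by_contra hgA
    have e := hA.inverts (mem_centralizer_singleton_iff.2 hgi) hgA hwA
    rw [mem_centralizer_singleton_iff.1 hg, mul_inv_cancel_right] at e
    exact hw1 (Subtype.ext (eq_one_of_odd hWodd w.2 (mul_eq_one_iff_eq_inv.2 e)))
  obtain ⟨S, hS⟩ := (IsPGroup.of_card (n := 1) (by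
    rw [Nat.card_zpowers, orderOf_mk, hi, pow_one]) :
    IsPGroup 2 (zpowers (⟨i, hiC⟩ : C))).exists_le_sylow
  have hiS : (⟨i, hiC⟩ : C) ∈ (S : Subgroup C) := hS (mem_zpowers _)
  haveI : Nontrivial (S : Subgroup C) := ⟨⟨⟨_, hiS⟩, 1, fun e =>
    ne_one_of_orderOf hi (congrArg Subtype.val (congrArg Subtype.val e))⟩⟩
  -- `i` is central in `S`
  obtain ⟨z, hz⟩ : ∃ z : center (S : Subgroup C), orderOf z = 2 := by
    haveI := S.isPGroup'.center_nontrivial
    obtain ⟨k, hk, hk'⟩ := (S.isPGroup'.to_subgroup (center (S : Subgroup C))).nontrivial_iff_card.1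
      inferInstance
    exact exists_prime_orderOf_dvd_card' 2 (hk' ▸ dvd_pow_self 2 hk.ne')
  have hzi : (((z : (S : Subgroup C)) : C) : L) = i := by
    have h1 : orderOf (((z : (S : Subgroup C)) : C) : L) = 2 := by
      rw [orderOf_coe, orderOf_coe, orderOf_coe, hz]
    have h2 := congrArg (fun x : (S : Subgroup C) => ((x : C) : L)) (mem_center_iff.1 z.2 ⟨_, hiS⟩)
    exact (hA.uniq _ (hCA _ (z : (S : Subgroup C)).1.2 h2.symm) (mul_self_of_orderOf h1)).resolve_left
      (ne_one_of_orderOf h1)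
  have hSA : ∀ x : (S : Subgroup C), ((x : C) : L) ∈ A := fun x => by
    have h := congrArg (fun x : (S : Subgroup C) => ((x : C) : L)) (mem_center_iff.1 z.2 x)
    exact hCA _ x.1.2 (by simpa [hzi] using h)
  haveI : IsCyclic (S : Subgroup C) := CfsgLib.TwoGroupsQ.isCyclic_of_comm S.isPGroup'
    (CfsgLib.TwoGroupsQ.hasUniqueOrderP_two fun a b ha ha1 hb hb1 => by
      have key : ∀ a : (S : Subgroup C), a ^ 2 = 1 → a ≠ 1 → ((a : C) : L) = i := fun a ha ha1 =>
        (hA.uniq _ (hSA a) (by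
          have h := congrArg (fun x : (S : Subgroup C) => ((x : C) : L)) ha
          simpa [sq] using h)).resolve_left
          fun e => ha1 (Subtype.ext (Subtype.ext e))
      exact Subtype.ext (Subtype.ext ((key a ha ha1).trans (key b hb hb1).symm)))
    fun a b => Subtype.ext (Subtype.ext (hA.comm _ (hSA a) _ (hSA b)))
  have h2 : (Nat.card C).minFac = 2 := (Nat.minFac_eq_two_iff _).2 (by
    have h := orderOf_dvd_natCard (⟨i, hiC⟩ : C)
    rwa [orderOf_mk, hi] at h)
  have hP := IsCyclic.normalizer_le_centralizer h2 (inferInstance : IsCyclic (S : Subgroup C))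
  set M := (MonoidHom.transferSylow S hP).ker with hM
  have hMcomp := MonoidHom.ker_transferSylow_isComplement' S hP
  have hModd : Odd (Nat.card M) := Nat.not_even_iff_odd.1 fun he =>
    MonoidHom.not_dvd_card_ker_transferSylow S hP he.two_dvd
  obtain ⟨k, hk⟩ : ∃ k, M.index = 2 ^ k := by
    obtain ⟨k, hk⟩ := S.isPGroup'.exists_card_eq
    exact ⟨k, hMcomp.symm.index_eq_card.trans hk⟩
  have hmemM : ∀ x : C, Odd (orderOf x) → x ∈ M := fun x hx => by
    rw [← QuotientGroup.eq_one_iff (N := M), ← orderOf_eq_one_iff]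
    exact Nat.eq_one_of_dvd_coprimes ((Nat.coprime_two_right.2 hx).pow_right k)
      (orderOf_map_dvd (QuotientGroup.mk' M) x)
      (hk ▸ M.index_eq_card ▸ orderOf_dvd_natCard (x : C ⧸ M))
  have hconj : ∀ g : L, (∀ y ∈ C, g * y * g⁻¹ ∈ C) → ∀ y ∈ M.map C.subtype,
      g * y * g⁻¹ ∈ M.map C.subtype := by
    rintro g hg _ ⟨y, hy, rfl⟩
    refine ⟨⟨_, hg y y.2⟩, hmemM _ ?_, rfl⟩
    rw [← orderOf_coe]
    show Odd (orderOf ((MulAut.conj g).toMonoidHom (y : L)))
    rw [orderOf_injective _ (MulAut.conj g).injective, orderOf_coe]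
    exact odd_orderOf hModd hy
  have hjw : j * w * j⁻¹ = (w : L)⁻¹ :=
    hA.inverts (mem_centralizer_singleton_iff.2 hijc.symm) hjA hwA
  have hfpf := (hgd.fpf hi hj hij hijc (Y := M.map C.subtype)
    (by rw [card_map_of_injective C.subtype_injective]; exact hModd)
    (hconj i fun y hy => mul_mem (mul_mem hiC hy) (inv_mem hiC))
    (hconj j fun y hy => by
      refine mem_centralizer_singleton_iff.2 ?_
      have hy' : y * (w : L)⁻¹ = (w : L)⁻¹ * y :=
        ((show Commute y (w : L) from mem_centralizer_singleton_iff.1 hy).inv_right).eq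
      have e : (w : L) = j * (w : L)⁻¹ * j⁻¹ := by
        rw [← hjw, inv_eq_of_mul_eq_one_right (mul_self_of_orderOf hj),
          show j * (j * (w : L) * j) * j = (j * j) * w * (j * j) by group, mul_self_of_orderOf hj,
          one_mul, mul_one]
      conv_lhs => rw [e]
      conv_rhs => rw [e]
      calc j * y * j⁻¹ * (j * (w : L)⁻¹ * j⁻¹) = j * (y * (w : L)⁻¹) * j⁻¹ := by group
        _ = _ := by rw [hy']; group)).map f
  refine ⟨_, hfpf, fun x hx => ⟨k, ?_⟩⟩
  obtain ⟨g, rfl⟩ := hsurj x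
  have hgC : g ∈ C := mem_centralizer_singleton_iff.2 ((comm_iff hρ g w).1 hx).symm
  exact ⟨g ^ 2 ^ k, ⟨⟨g, hgC⟩ ^ 2 ^ k, hk ▸ M.pow_index_mem _, rfl⟩, map_pow f g _⟩

end General

end CfsgLib.DGroupCent.Torus
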