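import Cfsg.Agent.DGroupCent.Torus

/-!
# The two cases `PSL(2, q)` and `PGL(2, q)`
-/

set_option autoImplicit false
set_option linter.style.haveILetI false
set_option linter.unusedSectionVars false

namespace CfsgLib.DGroupCent.Torus

open Subgroup CfsgLib.SL2Trace CfsgLib.DicksonPSL2 Psl
open scoped MatrixGroups

variable {F : Type*} [Field F] [Fintype F]

theorem orderOf_w : orderOf (w : PSL(2, F)) = 2 := orderOf_two_of_mul_self w_sq w_ne_one

theorem exists_four_fixed (hodd : Odd (Fintype.card F)) :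
    ∃ g : SL(2, F), orderOf (proj g) = 2 ∧ proj g ≠ w ∧ proj g * w = w * proj g ∧
      ∀ σ : F ≃+* F, g.1.map σ = g.1 := by
  obtain ⟨p, hp⟩ := CharP.exists F
  haveI : NeZero p := ⟨CharP.char_ne_zero_of_finite F p⟩
  obtain ⟨a, b, hab⟩ := CharP.sq_add_sq F p (-1)
  have hab' : (a : F) ^ 2 + (b : F) ^ 2 = -1 := by simpa using hab
  have h2 := two_ne hodd
  obtain ⟨g, hgv⟩ : ∃ g : SL(2, F), g.1 = !![(a : F), b; b, -a] := ⟨⟨!![(a : F), b; b, -a], by
    rw [Matrix.det_fin_two]; simp; linear_combination -hab'⟩, rfl⟩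
  have hgg : g * g = -1 := by
    apply Subtype.ext
    rw [Matrix.SpecialLinearGroup.coe_mul, hgv]
    ext i j
    fin_cases i <;> fin_cases j <;> simp [Matrix.mul_apply, Fin.sum_univ_two] <;> grind
  refine ⟨g, orderOf_two_of_mul_self ?_ ?_, ?_, ?_, fun σ => ?_⟩
  · rw [← proj_mul, hgg, proj_eq_one_iff]
    exact Or.inr rfl
  · rw [Ne, proj_eq_one_iff]
    rintro (e | e)
    · have h1 : g * g = 1 := by rw [e, mul_one]
      have := congrArg (fun m : SL(2, F) => m.1 0 0) (hgg.symm.trans h1)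
      simp at this
      exact h2 (by linear_combination -this)
    · have h1 : g * g = 1 := by rw [e, neg_mul_neg, mul_one]
      have := congrArg (fun m : SL(2, F) => m.1 0 0) (hgg.symm.trans h1)
      simp at this
      exact h2 (by linear_combination -this)
  · intro e
    rcases proj_eq_proj_iff.1 e with h | h <;>
      (have h1 := congrArg (fun m : SL(2, F) => m.1 0 1) h
       have h3 := congrArg (fun m : SL(2, F) => m.1 1 0) h
       simp [hgv, wSL] at h1 h3
       exact h2 (by grind))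
  · rw [w, ← proj_mul, ← proj_mul, proj_eq_proj_iff]
    right
    apply Subtype.ext
    rw [Matrix.SpecialLinearGroup.coe_neg, Matrix.SpecialLinearGroup.coe_mul,
      Matrix.SpecialLinearGroup.coe_mul, hgv]
    ext i j
    fin_cases i <;> fin_cases j <;> simp [wSL, Matrix.mul_apply, Fin.sum_univ_two]
  · rw [hgv]
    ext i j
    fin_cases i <;> fin_cases j <;> simp

theorem exists_four (hodd : Odd (Fintype.card F)) :
    ∃ v : PSL(2, F), orderOf v = 2 ∧ v ≠ w ∧ v * w = w * v := by
  obtain ⟨g, h1, h2, h3, -⟩ := exists_four_fixed hodd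
  exact ⟨proj g, h1, h2, h3⟩

theorem gen_pow_half (hodd : Odd (Fintype.card F)) {g : Fˣ}
    (hg : orderOf g = Fintype.card F - 1) : g ^ ((Fintype.card F - 1) / 2) = -1 := by
  have hq := card_eq_two_mul hodd
  have h1 : 1 < Fintype.card F := Fintype.one_lt_card
  rcases pow_half hodd (c := (g : F)) g.ne_zero with e | e
  · have := Nat.le_of_dvd (by omega) (orderOf_dvd_of_pow_eq_one
      (Units.ext (by simpa using e) : g ^ ((Fintype.card F - 1) / 2) = 1))
    omega
  · exact Units.ext (by simpa using e)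

theorem neg_one_ne_one' (hodd : Odd (Fintype.card F)) : (-1 : Fˣ) ≠ 1 := fun e =>
  two_ne (F := F) hodd (by
    have h := congrArg Units.val e
    simp at h
    linear_combination -h)

section

variable {L X : Type*} [Group L] [Finite L] [Group X] {f : L →* X}

/-- `p` divides `n` if a nontrivial `p`-element has exponent `n`. -/
theorem dvd_of_pow_eq_one {x : X} {p k n : ℕ} (hp : p.Prime) (hx : x ≠ 1) (hxp : x ^ p ^ k = 1)
    (h : x ^ n = 1) : p ∣ n := by
  by_contra hn
  exact hx (orderOf_eq_one_iff.1 (Nat.eq_one_of_dvd_coprimes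
    (((Nat.Prime.coprime_iff_not_dvd hp).2 hn).pow_left k) (orderOf_dvd_of_pow_eq_one hxp)
    (orderOf_dvd_of_pow_eq_one h)))

theorem coprime_card {p : ℕ} [hp : Fact p.Prime] {M : Type*} [Group M] [Finite M]
    (hM : IsPGroup p M) {q : ℕ} (h : p ∣ q - 1 ∨ p ∣ q + 1) (hq : 0 < q) :
    q.Coprime (Nat.card M) := by
  obtain ⟨k, hk⟩ := hM.exists_card_eq
  rw [hk]
  refine (((Nat.Prime.coprime_iff_not_dvd hp.out).2 fun hd => hp.out.ne_one ?_).symm).pow_right k
  rcases h with h | h
  · exact Nat.dvd_one.1 (by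
      have := Nat.dvd_sub hd h
      rwa [show q - (q - 1) = 1 by omega] at this)
  · exact Nat.dvd_one.1 (by
      have := Nat.dvd_sub h hd
      rwa [show q + 1 - q = 1 by omega] at this)

/-- The unipotent elements cannot all act trivially. -/
theorem absurd_of_unipotents {W : Subgroup L} {ρ : X →* MulAut W}
    (hgd : GDAll L) (hsurj : Function.Surjective f) (hker : f.ker = Cfsg.oddCore L)
    (hρ : ∀ (g : L) (x : W), ((ρ (f g) x : W) : L) = g * x * g⁻¹) (hWodd : Odd (Nat.card W))
    (hW : W ≠ ⊥) (hodd : Odd (Fintype.card F)) (φ : PSL(2, F) →* X) (hφ : Function.Injective φ)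
    (hu : ∀ (b : F) (x : W), ρ (φ (u b)) x = x) : False := by
  have hu' : ∀ b : F, u b ∈ (ρ.comp φ).ker := fun b => MonoidHom.mem_ker.2 (MulEquiv.ext (hu b))
  have htop := eq_top_of_unipotents hu' fun b => (MonoidHom.normal_ker _).conj_mem _ (hu' b) w
  have hfix : ∀ (y : PSL(2, F)) (x : W), ρ (φ y) x = x := fun y x => by
    have h : ρ.comp φ y = 1 := MonoidHom.mem_ker.1 (htop ▸ mem_top y)
    rw [show ρ (φ y) = 1 from h]; rfl
  obtain ⟨v, hv, hvw, hvw'⟩ := exists_four hodd
  obtain ⟨x, hx, hx1⟩ := (Subgroup.bot_or_exists_ne_one W).resolve_left hW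
  exact hx1 (congrArg Subtype.val (eq_one_of_fixed hgd hsurj hker hρ hWodd
    (by rw [orderOf_injective φ hφ, hv]) (by rw [orderOf_injective φ hφ, orderOf_w])
    (fun e => hvw (hφ e)) (by rw [← map_mul, ← map_mul, hvw']) (hfix v ⟨x, hx⟩) (hfix w ⟨x, hx⟩)))

/-- The hypothesis of the theorem yields the divisibility. -/
theorem exists_image {p : ℕ} (hp : p.Prime) (hp2 : p ≠ 2) (hker : f.ker = Cfsg.oddCore L) {u₀ i : L}
    (hu : u₀ ∉ Cfsg.oddCore L) {k : ℕ} (hup : u₀ ^ p ^ k = 1) (hi : orderOf i = 2)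
    (hui : u₀ * i = i * u₀) :
    orderOf (f i) = 2 ∧ f u₀ * f i = f i * f u₀ ∧
      ∀ n, (f u₀) ^ n = 1 → p ∣ n ∧ n ≠ 2 := by
  refine ⟨orderOf_map_involution (by rw [hker]; exact CfsgLib.TwoGroups.odd_card_oddCore) hi,
    by rw [← map_mul, hui, map_mul], fun n hn => ?_⟩
  have hne : f u₀ ≠ 1 := fun e => hu (hker ▸ MonoidHom.mem_ker.2 e)
  have h := dvd_of_pow_eq_one hp hne (by rw [← map_pow, hup, map_one]) hn
  exact ⟨h, fun e => hp2 ((Nat.prime_dvd_prime_iff_eq hp Nat.prime_two).1 (e ▸ h))⟩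

end

section Case3

variable {M : Type*} [CommGroup M] [Finite M]

/-- The translations as a homomorphism. -/
def uHom : Multiplicative F →* PSL(2, F) where
  toFun b := u b.toAdd
  map_one' := u_zero
  map_mul' a b := u_add a.toAdd b.toAdd

theorem card_uHom_range : Nat.card (uHom (F := F)).range = Fintype.card F := by
  rw [← Nat.card_eq_fintype_card]
  exact (Nat.card_congr (MonoidHom.ofInjective
    (show Function.Injective (uHom (F := F)) from fun a b e =>
      Multiplicative.toAdd.injective (u_injective e))).toEquiv).symm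

theorem u_eq_dg {b : F} {a : Fˣ} (h : u b = dg a) : b = 0 := by
  rcases proj_eq_proj_iff.1 (show proj (upSL b) = proj (dSL a) from h) with e | e <;>
    (have := congrArg (fun m : SL(2, F) => m.1 0 1) e
     simp [coe_upSL, coe_dSL] at this
     first | exact this | exact this.symm)

set_option maxHeartbeats 1000000 in
/-- In `PSL(2, q)`, `q ≡ 3 mod 4`, `q ≥ 11`, a coprime module without fixed points of four groups
and of a torus element with an involution is trivial. -/
theorem case_three (hodd : Odd (Fintype.card F)) (hq : 11 ≤ Fintype.card F)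
    (hq4 : Fintype.card F % 4 = 3) (ρ : PSL(2, F) →* MulAut M) (hModd : Odd (Nat.card M))
    (hcop : (Nat.card M).Coprime (Fintype.card F * ((Fintype.card F - 1) / 2)))
    (hfpf : ∀ a b : PSL(2, F), orderOf a = 2 → orderOf b = 2 → a ≠ b → a * b = b * a →
      ∀ m : M, ρ a m = m → ρ b m = m → m = 1)
    {g : Fˣ} (hgo : orderOf (dg g) = (Fintype.card F - 1) / 2)
    (hQ : ∀ m : M, ρ w m = m → ρ (dg g) m = m → m = 1) : ∀ m : M, m = 1 := by
  haveI := (Finite.of_surjective _ proj_surjective : Finite PSL(2, F))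
  obtain ⟨v, hv, hvw, hvw'⟩ := exists_four hodd
  have hwv : orderOf (w * v) = 2 := orderOf_two_of_mul_self (by
    calc w * v * (w * v) = w * (v * w) * v := by group
      _ = w * w * (v * v) := by rw [hvw']; group
      _ = 1 := by rw [w_sq, mul_self_of_orderOf hv, one_mul]) fun e => hvw (by
    rw [eq_inv_of_mul_eq_one_right e, inv_eq_of_mul_eq_one_right w_sq])
  have hconj : ∀ x : PSL(2, F), orderOf x = 2 →
      Nat.card (Free.fix ρ x) = Nat.card (Free.fix ρ w) := fun x hx => by
    obtain ⟨c, hc⟩ := isConj_iff.1 (InvolutionGraph.isConj_of_orderOf_two orderOf_w hx)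
    rw [← hc]; exact Free.card_fix_conj ρ c w
  have hδw : w * dg g = (dg g)⁻¹ * w := mul_inv_eq_iff_eq_mul.1 (w_conj_dg g)
  have hd : Odd ((Fintype.card F - 1) / 2) :=
    Nat.odd_iff.2 (by have := Fintype.card_pos (α := F); omega)
  obtain ⟨hup, hlow⟩ := Free.bound ρ (δ := dg g) hvw'.symm (mul_self_of_orderOf hv)
    (fun m h1 h2 => hfpf w v orderOf_w hv hvw.symm hvw'.symm m h1 h2) hδw (hgo ▸ hd)
    (hconj v hv) (hconj _ hwv) w_sq
  set D := zpowers (dg g) with hD
  have hDmem : ∀ x ∈ D, ∃ a : Fˣ, dg a = x := by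
    intro x hx
    obtain ⟨n, rfl⟩ := mem_zpowers_iff.1 hx
    exact ⟨g ^ n, map_zpow dg g n⟩
  have hpow := Free.fix_pow_le ρ (uHom (F := F)).range D
    (fun e => by
      have h := mem_bot.1 (e.le (⟨Multiplicative.ofAdd (1 : F), rfl⟩ :
        u (1 : F) ∈ (uHom (F := F)).range))
      exact one_ne_zero (u_injective (h.trans u_zero.symm)))
    (fun e => by
      rw [hD, zpowers_eq_bot] at e
      rw [e, orderOf_one] at hgo
      omega)
    (le_bot_iff.1 fun x hx => by
      obtain ⟨⟨b, rfl⟩, hxD⟩ := hx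
      obtain ⟨a, ha⟩ := hDmem _ hxD
      show u b.toAdd = 1
      rw [u_eq_dg ha.symm, u_zero])
    (by
      rintro e he _ ⟨b, rfl⟩
      obtain ⟨a, rfl⟩ := hDmem e he
      exact ⟨Multiplicative.ofAdd ((a : F) ^ 2 * b.toAdd), (dg_conj_u a b.toAdd).symm⟩)
    (by
      rintro e he he1 _ ⟨b, rfl⟩ hcomm
      obtain ⟨a, rfl⟩ := hDmem e he
      show u b.toAdd = 1
      have h1 := dg_conj_u a b.toAdd
      rw [show dg a * u b.toAdd * (dg a)⁻¹ = u b.toAdd from mul_inv_eq_iff_eq_mul.2 hcomm] at h1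
      have h2 : ((a : F) ^ 2 - 1) * b.toAdd = 0 := by linear_combination -(u_injective h1)
      rcases mul_eq_zero.1 h2 with h3 | h3
      · refine absurd ((dg_eq_one_iff a).2 ?_) he1
        rcases sq_eq_one_iff.1 (sub_eq_zero.1 h3) with h4 | h4
        · exact Or.inl (Units.ext (by simpa using h4))
        · exact Or.inr (Units.ext (by simpa using h4))
      · rw [h3, u_zero])
    (by rw [card_uHom_range, hD, Nat.card_zpowers, hgo]; exact hcop)
    (fun m hmU hmE => by
      have hδm : ρ (dg g) m = m := hmE _ (mem_zpowers _)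
      have hwm : ρ w m = m⁻¹ := by
        refine eq_inv_of_mul_eq_one_right (hQ _ ?_ ?_)
        · rw [map_mul, ← MulAut.mul_apply, ← map_mul, w_sq, map_one, MulAut.one_apply,
            mul_comm]
        · have h' : ρ (dg g) (ρ w m) = ρ w m := by
            rw [← MulAut.mul_apply, ← map_mul, show dg g * w = w * (dg g)⁻¹ by
              rw [eq_mul_inv_iff_mul_eq, mul_assoc, hδw, mul_inv_cancel_left], map_mul,
              MulAut.mul_apply, hmE _ (inv_mem (mem_zpowers _))]
          rw [map_mul, hδm, h']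
      let H : Subgroup PSL(2, F) :=
        { carrier := {x | ρ x m = m}
          one_mem' := by simp
          mul_mem' := fun {a b} ha hb => by
            show ρ (a * b) m = m
            rw [map_mul, MulAut.mul_apply, hb, ha]
          inv_mem' := fun {a} ha => by
            show ρ a⁻¹ m = m
            conv_lhs => rw [← (show ρ a m = m from ha)]
            rw [← MulAut.mul_apply, ← map_mul, inv_mul_cancel, map_one, MulAut.one_apply] }
      have hu : ∀ b : F, ρ (u b) m = m := fun b => hmU _ ⟨Multiplicative.ofAdd b, rfl⟩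
      have hH : H = ⊤ := eq_top_of_unipotents hu fun b => by
        show ρ (w * u b * w⁻¹) m = m
        rw [inv_eq_of_mul_eq_one_right w_sq, map_mul, map_mul, MulAut.mul_apply,
          MulAut.mul_apply, hwm, map_inv, hu, map_inv, hwm, inv_inv]
      have h := (hH.ge (mem_top w) : ρ w m = m).symm.trans hwm
      exact orderOf_eq_one_iff.1 (Nat.eq_one_of_dvd_coprimes (Nat.coprime_two_left.2 hModd)
        (orderOf_dvd_of_pow_eq_one (by rw [sq]; exact mul_eq_one_iff_eq_inv.2 h))
        (orderOf_dvd_natCard m)))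
    (Free.fix ρ (dg g)) (fun m hm e he => by
      obtain ⟨n, rfl⟩ := mem_zpowers_iff.1 he
      let St : Subgroup PSL(2, F) :=
        { carrier := {x | ρ x m = m}
          one_mem' := by simp
          mul_mem' := fun {a b} ha hb => by
            show ρ (a * b) m = m
            rw [map_mul, MulAut.mul_apply, hb, ha]
          inv_mem' := fun {a} ha => by
            show ρ a⁻¹ m = m
            conv_lhs => rw [← (show ρ a m = m from ha)]
            rw [← MulAut.mul_apply, ← map_mul, inv_mul_cancel, map_one, MulAut.one_apply] }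
      exact zpow_mem (show dg g ∈ St from hm) n)
  rw [hD, Nat.card_zpowers, hgo] at hpow
  set c := Nat.card (Free.fix ρ w)
  set r := Nat.card (Free.fix ρ (dg g))
  have hr1 : r ≤ 1 := by
    by_contra hr
    have := (Nat.pow_le_pow_iff_right (by omega : 1 < r)).1
      (hpow.trans (hup.trans (Nat.pow_le_pow_left hlow 3)))
    omega
  have hM1 : Nat.card M ≤ 1 := hup.trans (by
    calc c ^ 3 ≤ 1 ^ 3 := Nat.pow_le_pow_left (hlow.trans hr1) 3
      _ = 1 := one_pow 3)
  intro m
  haveI := Finite.card_le_one_iff_subsingleton.1 hM1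
  exact Subsingleton.elim m 1

end Case3

section Cases

variable {L : Type*} [Group L] [Finite L]

/-- The case `PSL(2, q)`. -/
theorem psl_case (hgd : GDAll L) (hodd : Odd (Fintype.card F)) (hF : 3 < Fintype.card F)
    {f : L →* PSL(2, F)} (hsurj : Function.Surjective f) (hker : f.ker = Cfsg.oddCore L)
    {p : ℕ} [hp : Fact p.Prime] (hp2 : p ≠ 2) {D : Subgroup L} (hDn : D.Normal) (hD : D ≠ ⊥)
    (hDp : IsPGroup p D) {u₀ i : L} {k : ℕ} (hup : u₀ ^ p ^ k = 1) (hu : u₀ ∉ Cfsg.oddCore L)
    (hi : orderOf i = 2) (hui : u₀ * i = i * u₀) : False := by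
  haveI := (Finite.of_surjective _ proj_surjective : Finite PSL(2, F))
  have hq := card_eq_two_mul hodd
  obtain ⟨hfi, hfu, hdvd⟩ := exists_image (f := f) hp.out hp2 hker hu hup hi hui
  have hsimp : IsSimpleGroup PSL(2, F) := Linear.isSimpleGroup_PSL_of 2 le_rfl fun _ => by omega
  obtain ⟨v, hv, hvw, hvw'⟩ := exists_four hodd
  obtain ⟨W, hW, hWodd, hWp, hWc, ρ, hρ⟩ := exists_module hgd hsurj hker ⊤ (fun Y _ hY => by
      haveI : Y.Normal := ⟨fun n hn g => hY g (mem_top g) n hn⟩
      exact Subgroup.Normal.eq_bot_or_eq_top inferInstance)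
    hv orderOf_w hvw hvw' (mem_top _) (mem_top _) hp2 hDn hD hDp
  letI : CommGroup W :=
    { (inferInstance : Group W) with mul_comm := fun a b => Subtype.ext (hWc a a.2 b b.2) }
  obtain ⟨g, hgo, hgd'⟩ := exists_dg_generator hodd
  rcases psl_centralizer hodd hfi hfu with e | ⟨h4, e⟩ | ⟨h4, e⟩
  · exact (hdvd 2 e).2 rfl
  · -- `q ≡ 1 mod 4`
    have hp1 := (hdvd _ e).1
    have hq9 : 9 ≤ Fintype.card F := by
      obtain ⟨a, ha⟩ := hp1
      have hp3 : 3 ≤ p := by have := hp.out.two_le; omega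
      by_contra hlt
      have h5 : Fintype.card F = 5 := by omega
      rw [h5] at ha
      have : p ∣ 2 ^ 2 := ⟨a, by omega⟩
      exact hp2 ((Nat.prime_dvd_prime_iff_eq hp.out Nat.prime_two).1 (hp.out.dvd_of_dvd_pow this))
    set j := dg (g ^ ((Fintype.card F - 1) / 4)) with hj
    have hhalf : (g ^ ((Fintype.card F - 1) / 4)) ^ 2 = -1 := by
      rw [← pow_mul, show (Fintype.card F - 1) / 4 * 2 = (Fintype.card F - 1) / 2 by omega]
      exact gen_pow_half hodd hgo
    have hjj : j * j = 1 := by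
      rw [hj, ← map_mul, ← sq, hhalf, dg_eq_one_iff]; exact Or.inr rfl
    have hj1 : j ≠ 1 := fun e' => by
      rcases (dg_eq_one_iff _).1 e' with e'' | e'' <;> rw [e''] at hhalf <;>
        exact neg_one_ne_one' hodd (by simpa using hhalf.symm)
    have hkk : dg g * dg g ≠ 1 := fun e' => by
      have := Nat.le_of_dvd two_pos (orderOf_dvd_of_pow_eq_one (by rw [sq, e'] : dg g ^ 2 = 1))
      omega
    have hg4 : ((g : F) ^ 2) ^ 2 ≠ 1 := fun e' => by
      have := Nat.le_of_dvd (by norm_num : 0 < 4) (orderOf_dvd_of_pow_eq_one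
        (Units.ext (by rw [Units.val_pow_eq_pow_val, Units.val_one, ← e', ← pow_mul]) : g ^ 4 = 1))
      omega
    refine absurd_of_unipotents hgd hsurj hker hρ hWodd hW hodd (MonoidHom.id _)
      Function.injective_id fun b x => ?_
    exact Free.free_trivial ρ u u_add (k := dg g) (j := j) (α := (g : F) ^ 2)
      (fun e' => hg4 (by rw [e', one_pow])) (fun e' => hg4 (by rw [e', neg_one_sq]))
      (two_ne hodd) (fun b => mul_inv_eq_iff_eq_mul.1 (dg_conj_u g b))
      (fun b => by
        have h := mul_inv_eq_iff_eq_mul.1 (dg_conj_u (g ^ ((Fintype.card F - 1) / 4)) b)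
        rwa [show ((g ^ ((Fintype.card F - 1) / 4) : Fˣ) : F) ^ 2 = -1 by
          rw [← Units.val_pow_eq_pow_val, hhalf]; simp, neg_one_mul] at h)
      hjj
      (fun m hm => star hgd hsurj hker hρ hWodd hv orderOf_w hvw hvw'
        (orderOf_two_of_mul_self hjj hj1) (by rw [hj, ← map_mul, ← map_mul, mul_comm]) hkk hm)
      (coprime_card hWp (Or.inl hp1) Fintype.card_pos) b x
  · -- `q ≡ 3 mod 4`
    have hp1 := (hdvd _ e).1
    have hq11 : 11 ≤ Fintype.card F := by
      obtain ⟨a, ha⟩ := hp1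
      by_contra hlt
      have h7 : Fintype.card F = 7 := by omega
      rw [h7] at ha
      have : p ∣ 2 ^ 3 := ⟨a, by omega⟩
      exact hp2 ((Nat.prime_dvd_prime_iff_eq hp.out Nat.prime_two).1 (hp.out.dvd_of_dvd_pow this))
    have hcop : (Nat.card W).Coprime (Fintype.card F * ((Fintype.card F - 1) / 2)) := by
      refine Nat.Coprime.mul_right (coprime_card hWp (Or.inr hp1) Fintype.card_pos).symm ?_
      obtain ⟨k', hk'⟩ := hWp.exists_card_eq
      rw [hk']
      refine ((Nat.Prime.coprime_iff_not_dvd hp.out).2 fun hd => hp2 ?_).pow_left k'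
      have h1 : p ∣ Fintype.card F - 1 := hd.trans ⟨2, by omega⟩
      have h2 := Nat.dvd_sub hp1 h1
      rw [show Fintype.card F + 1 - (Fintype.card F - 1) = 2 by omega] at h2
      exact (Nat.prime_dvd_prime_iff_eq hp.out Nat.prime_two).1 h2
    obtain ⟨x, hx, hx1⟩ := (Subgroup.bot_or_exists_ne_one W).resolve_left hW
    refine hx1 (congrArg Subtype.val (case_three hodd hq11 h4 ρ hWodd hcop
      (fun a b ha hb hab hab' m => eq_one_of_fixed hgd hsurj hker hρ hWodd ha hb hab hab')
      hgd' (fun m hwm hgm => ?_) ⟨x, hx⟩))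
    by_contra hm1
    obtain ⟨Y, hY, hstab⟩ :=
      stabilizer_eq_one hgd hsurj hker hρ orderOf_w hv hvw.symm hvw'.symm hWodd hm1 hwm
    obtain ⟨e2, he2⟩ := hstab _ hgm
    have hd : Odd ((Fintype.card F - 1) / 2) := Nat.odd_iff.2 (by omega)
    have ho : orderOf (dg g ^ 2 ^ e2) = (Fintype.card F - 1) / 2 := by
      rw [(Nat.Coprime.pow_right e2 (Nat.coprime_two_right.2 (hgd'.symm ▸ hd))).orderOf_pow, hgd']
    obtain ⟨r, hr, hrd⟩ := Nat.exists_prime_and_dvd (n := (Fintype.card F - 1) / 2) (by omega)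
    haveI := Fact.mk hr
    have hr2 : r ≠ 2 := by rintro rfl; exact hd.not_two_dvd_nat hrd
    obtain ⟨P, hPY, hPp, hPr, hPi, hPj, -⟩ := hY.exists_sylow r
    have hPbot : P = ⊥ := by
      have key : ∀ s : PSL(2, F), orderOf s = 2 → ∀ y ∈ P, y * s = s * y → y = 1 := by
        intro s hs y hy hys
        obtain ⟨n, hn⟩ := IsPGroup.iff_orderOf.1 hPp ⟨y, hy⟩
        rw [orderOf_mk] at hn
        have hyp : y ^ r ^ n = 1 := hn ▸ pow_orderOf_eq_one y
        by_contra hy1
        rcases psl_centralizer hodd hs hys with e' | ⟨h', -⟩ | ⟨-, e'⟩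
        · exact hr2 ((Nat.prime_dvd_prime_iff_eq hr Nat.prime_two).1
            (dvd_of_pow_eq_one hr hy1 hyp e'))
        · omega
        · have h2 := Nat.dvd_sub (dvd_of_pow_eq_one hr hy1 hyp e')
            (hrd.trans (⟨2, by omega⟩ : (Fintype.card F - 1) / 2 ∣ Fintype.card F - 1))
          rw [show Fintype.card F + 1 - (Fintype.card F - 1) = 2 by omega] at h2
          exact hr2 ((Nat.prime_dvd_prime_iff_eq hr Nat.prime_two).1 h2)
      have hwv : orderOf (w * v) = 2 := orderOf_two_of_mul_self hY.third.jj fun e' => hvw (by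
        rw [eq_inv_of_mul_eq_one_right e', inv_eq_of_mul_eq_one_right w_sq])
      exact le_bot_iff.1 ((hY.mono hPY hPi hPj).le_of
        (fun y hy e' => mem_bot.2 (key _ orderOf_w y hy e'))
        (fun y hy e' => mem_bot.2 (key _ hv y hy e'))
        fun y hy e' => mem_bot.2 (key _ hwv y hy e'))
    apply hPr
    rw [hPbot, relIndex_bot_left]
    exact hrd.trans (ho ▸ orderOf_dvd_natCard Y he2)

/-- The case `PGL(2, q)`. -/
theorem pgl_case (hgd : GDAll L) (hodd : Odd (Fintype.card F)) (hF : 3 < Fintype.card F)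
    {f : L →* PGL(2, F)} (hsurj : Function.Surjective f) (hker : f.ker = Cfsg.oddCore L)
    {p : ℕ} [hp : Fact p.Prime] (hp2 : p ≠ 2) {D : Subgroup L} (hDn : D.Normal) (hD : D ≠ ⊥)
    (hDp : IsPGroup p D) {u₀ i : L} {k : ℕ} (hup : u₀ ^ p ^ k = 1) (hu : u₀ ∉ Cfsg.oddCore L)
    (hi : orderOf i = 2) (hui : u₀ * i = i * u₀) : False := by
  have hq := card_eq_two_mul hodd
  obtain ⟨hfi, hfu, hdvd⟩ := exists_image (f := f) hp.out hp2 hker hu hup hi hui
  have hp1 : p ∣ Fintype.card F - 1 ∨ p ∣ Fintype.card F + 1 := by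
    rcases pgl_centralizer hodd (mul_self_of_orderOf hfi) (ne_one_of_orderOf hfi) hfu with
      e | e | e
    · exact absurd rfl (hdvd 2 e).2
    · exact Or.inl (hdvd _ e).1
    · exact Or.inr (hdvd _ e).1
  have hsimp : IsSimpleGroup PSL(2, F) := Linear.isSimpleGroup_PSL_of 2 le_rfl fun _ => by omega
  obtain ⟨v, hv, hvw, hvw'⟩ := exists_four hodd
  have hv' : orderOf (toG v) = 2 := by rw [orderOf_injective toG toG_injective, hv]
  have hw' : orderOf (toG (w (F := F))) = 2 := by
    rw [orderOf_injective toG toG_injective, orderOf_w]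
  have hne : toG v ≠ toG w := fun e => hvw (toG_injective e)
  have hcm : toG v * toG w = toG w * toG v := by rw [← map_mul, hvw', map_mul]
  obtain ⟨W, hW, hWodd, hWp, hWc, ρ, hρ⟩ := exists_module hgd hsurj hker (toG (F := F)).range
    (fun Y hY1 hY => by
      haveI : (Y.comap (toG (F := F))).Normal := ⟨fun n hn g => by
        show toG (g * n * g⁻¹) ∈ Y
        rw [map_mul, map_mul, map_inv]
        exact hY _ ⟨g, rfl⟩ _ hn⟩
      rcases Subgroup.Normal.eq_bot_or_eq_top
        (inferInstance : (Y.comap (toG (F := F))).Normal) with e | e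
      · left
        refine le_bot_iff.1 fun y hy => ?_
        obtain ⟨x, rfl⟩ := hY1 hy
        rw [mem_bot.1 (e.le (show x ∈ Y.comap toG from hy)), map_one]
        exact one_mem _
      · right
        exact le_antisymm hY1 (by rintro _ ⟨x, rfl⟩; exact (e.ge (mem_top x) : x ∈ Y.comap toG)))
    hv' hw' hne hcm ⟨v, rfl⟩ ⟨w, rfl⟩ hp2 hDn hD hDp
  letI : CommGroup W :=
    { (inferInstance : Group W) with mul_comm := fun a b => Subtype.ext (hWc a a.2 b b.2) }
  obtain ⟨g, hgo, -⟩ := exists_dg_generator hodd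
  have hg2 : g ^ 2 ≠ 1 := fun e => by
    have := Nat.le_of_dvd two_pos (orderOf_dvd_of_pow_eq_one e)
    omega
  have hjj : dG (-1 : Fˣ) * dG (-1) = 1 := by rw [← map_mul, neg_mul_neg, one_mul, map_one]
  have hj1 : dG (-1 : Fˣ) ≠ 1 := fun e =>
    neg_one_ne_one' hodd (dG_injective (e.trans (map_one dG).symm))
  refine absurd_of_unipotents hgd hsurj hker hρ hWodd hW hodd toG toG_injective fun b x => ?_
  exact Free.free_trivial ρ (fun b => toG (u b)) (fun a b => by rw [u_add, map_mul])
    (k := dG g) (j := dG (-1)) (α := (g : F))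
    (fun e => hg2 (Units.ext (by simp [e]))) (fun e => hg2 (Units.ext (by simp [e])))
    (two_ne hodd) (fun b => mul_inv_eq_iff_eq_mul.1 (dG_conj_u g b))
    (fun b => by
      have h := mul_inv_eq_iff_eq_mul.1 (dG_conj_u (-1 : Fˣ) b)
      rwa [Units.val_neg, Units.val_one, neg_one_mul] at h)
    hjj
    (fun m hm => star hgd hsurj hker hρ hWodd hv' hw' hne hcm (orderOf_two_of_mul_self hjj hj1)
      (by rw [← map_mul, ← map_mul, mul_comm])
      (fun e => hg2 (dG_injective (by rw [map_pow, sq, e, map_one]))) hm)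
    (coprime_card hWp hp1 Fintype.card_pos) b x

end Cases

end CfsgLib.DGroupCent.Torus
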