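import Cfsg.Agent.DGroupCent.TorusCases
import Cfsg.Agent.Small.Dihedral
import Mathlib.GroupTheory.Nilpotent

/-!
# Invariant `p`-subgroups in a minimal situation

All involutions of `G` are conjugate, their centralizers are generalised dihedral, the odd core is
trivial and proper subgroups have the expected structure.  The maximal `p`-subgroups invariant
under a four group then intersect trivially.
-/

set_option autoImplicit false
set_option linter.style.haveILetI false

open scoped commutatorElement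

namespace CfsgLib.DGroupCent

open Subgroup

/-- The conclusion of the theorem. -/
def PSLish (G : Type*) [Group G] : Prop :=
  ∃ (F : Type) (_ : Field F) (_ : Fintype F), Odd (Fintype.card F) ∧ 3 < Fintype.card F ∧
    (Nonempty (G ⧸ Cfsg.oddCore G ≃* Matrix.ProjectiveSpecialLinearGroup (Fin 2) F) ∨
      Nonempty (G ⧸ Cfsg.oddCore G ≃* Matrix.ProjGenLinGroup (Fin 2) F))

/-- Solvable or of the expected structure. -/
def Good (G : Type*) [Group G] : Prop := Group.IsSolvable G ∨ PSLish G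

/-- The minimal situation with one class of involutions. -/
structure Ctx (G : Type*) [Group G] : Prop where
  core : Cfsg.oddCore G = ⊥
  one : ∀ a b : G, orderOf a = 2 → orderOf b = 2 → IsConj a b
  all : ∀ i : G, orderOf i = 2 → ∃ A, GD (centralizer ({i} : Set G)) A i
  ih : ∀ M : Subgroup G, M ≠ ⊤ → D2 M → Good M

/-- Two commuting distinct involutions. -/
structure Four {G : Type*} [Group G] (i j : G) : Prop where
  hi : orderOf i = 2
  hj : orderOf j = 2
  ne : i ≠ j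
  comm : i * j = j * i

variable {G : Type*} [Group G] {i j : G}

theorem Four.symm (h : Four i j) : Four j i := ⟨h.hj, h.hi, h.ne.symm, h.comm.symm⟩

theorem Four.hk (h : Four i j) : orderOf (i * j) = 2 := by
  refine orderOf_two_of_mul_self ?_ fun e => h.ne ?_
  · calc i * j * (i * j) = i * (j * i) * j := by group
      _ = (i * i) * (j * j) := by rw [← h.comm]; group
      _ = 1 := by rw [mul_self_of_orderOf h.hi, mul_self_of_orderOf h.hj, one_mul]
  · rw [eq_inv_of_mul_eq_one_left e, inv_eq_of_mul_eq_one_right (mul_self_of_orderOf h.hj)]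

theorem Four.third (h : Four i j) : Four i (i * j) :=
  ⟨h.hi, h.hk, fun e => ne_one_of_orderOf h.hj (mul_eq_left.1 e.symm), by rw [mul_assoc, ← h.comm]⟩

theorem Four.fpf [Finite G] (h : Four i j) (hgd : GDAll G) {Y : Subgroup G} (hY : Odd (Nat.card Y))
    (hYi : ∀ y ∈ Y, i * y * i⁻¹ ∈ Y) (hYj : ∀ y ∈ Y, j * y * j⁻¹ ∈ Y) : Fpf i j Y :=
  hgd.fpf h.hi h.hj h.ne h.comm hY hYi hYj

theorem orderOf_conj (g x : G) : orderOf (g * x * g⁻¹) = orderOf x :=
  orderOf_injective (MulAut.conj g).toMonoidHom (MulAut.conj g).injective x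

theorem isPGroup_zpowers {p : ℕ} {x : G} {n : ℕ} (h : orderOf x = p ^ n) :
    IsPGroup p (zpowers x) :=
  IsPGroup.of_card (by rw [Nat.card_zpowers, h])

/-! ### The Sylow subgroup -/

theorem Ctx.gdall (C : Ctx G) : GDAll G := gdAll_of_forall C.all

/-- A two-group centralizing `t` lies in a Sylow subgroup centralizing `t`. -/
theorem exists_sylow_of_one [Finite G] (one : ∀ a b : G, orderOf a = 2 → orderOf b = 2 → IsConj a b)
    {t : G} (ht : orderOf t = 2) {P : Subgroup G}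
    (hP : IsPGroup 2 P) (hPt : P ≤ centralizer ({t} : Set G)) :
    ∃ S : Sylow 2 G, P ≤ (S : Subgroup G) ∧ (S : Subgroup G) ≤ centralizer ({t} : Set G) := by
  haveI : Fact (Nat.Prime 2) := ⟨Nat.prime_two⟩
  -- some Sylow subgroup centralizes `t`
  obtain ⟨T⟩ : Nonempty (Sylow 2 G) := inferInstance
  have h2 : 2 ∣ Nat.card (T : Subgroup G) :=
    T.dvd_card_of_dvd_card (ht ▸ orderOf_dvd_natCard t)
  haveI : Nontrivial (T : Subgroup G) := Finite.one_lt_card_iff_nontrivial.1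
    (lt_of_lt_of_le one_lt_two (Nat.le_of_dvd Nat.card_pos h2))
  haveI := T.isPGroup'.center_nontrivial
  obtain ⟨z, hz⟩ := exists_prime_orderOf_dvd_card' (G := center (T : Subgroup G)) 2 (by
    obtain ⟨k, hk, hk'⟩ := (T.isPGroup'.to_subgroup (center (T : Subgroup G))).nontrivial_iff_card.1
      inferInstance
    exact hk' ▸ dvd_pow_self 2 hk.ne')
  obtain ⟨g, hg⟩ := isConj_iff.1 (one _ _
    (show orderOf ((z : (T : Subgroup G)) : G) = 2 by rw [orderOf_coe, orderOf_coe, hz]) ht)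
  have hT' : ((g • T : Sylow 2 G) : Subgroup G) ≤ centralizer ({t} : Set G) := by
    rw [Sylow.coe_subgroup_smul]
    intro x hx
    obtain ⟨y, hy, rfl⟩ := hx
    refine mem_centralizer_singleton_iff.2 ?_
    have h := congrArg Subtype.val (mem_center_iff.1 z.2 ⟨y, hy⟩)
    have h' : y * ((z : (T : Subgroup G)) : G) = z * y := h
    show g * y * g⁻¹ * t = t * (g * y * g⁻¹)
    rw [← hg, show g * y * g⁻¹ * (g * ((z : (T : Subgroup G)) : G) * g⁻¹) =
      g * (y * z) * g⁻¹ by group, h']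
    group
  -- move it by an element of the centralizer
  set H := centralizer ({t} : Set G)
  obtain ⟨R, hR⟩ := (hP.comap_subtype (K := H)).exists_le_sylow
  let T' : Sylow 2 H := (g • T : Sylow 2 G).subtype hT'
  obtain ⟨c, hc⟩ := MulAction.exists_smul_eq H T' R
  refine ⟨(c : G) • (g • T), fun x hx => ?_, ?_⟩
  · have hxR : (⟨x, hPt hx⟩ : H) ∈ (R : Subgroup H) := hR hx
    rw [← hc, Sylow.coe_subgroup_smul] at hxR
    obtain ⟨y, hy, hye⟩ := hxR
    rw [Sylow.coe_subgroup_smul]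
    exact ⟨y, hy, congrArg Subtype.val hye⟩
  · rw [Sylow.coe_subgroup_smul]
    rintro x ⟨y, hy, rfl⟩
    exact mul_mem (mul_mem c.2 (hT' hy)) (inv_mem c.2)

theorem Ctx.exists_sylow [Finite G] (C : Ctx G) {t : G} (ht : orderOf t = 2) {P : Subgroup G}
    (hP : IsPGroup 2 P) (hPt : P ≤ centralizer ({t} : Set G)) :
    ∃ S : Sylow 2 G, P ≤ (S : Subgroup G) ∧ (S : Subgroup G) ≤ centralizer ({t} : Set G) :=
  exists_sylow_of_one C.one ht hP hPt

/-- A two-group properly contained in another is properly contained in its normalizer there. -/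
theorem exists_mem_normalizer_not_mem [Finite G] {p : ℕ} [Fact p.Prime] {P D : Subgroup G}
    (hP : IsPGroup p P) (hDP : D ≤ P) (hne : D ≠ P) :
    ∃ x ∈ P, x ∉ D ∧ x ∈ normalizer (D : Set G) := by
  haveI := hP.isNilpotent
  have hlt : D.subgroupOf P < ⊤ := lt_of_le_of_ne le_top fun e =>
    hne (le_antisymm hDP (subgroupOf_eq_top.1 e))
  obtain ⟨x, hx, hxD⟩ := SetLike.exists_of_lt
    (Group.normalizerCondition_of_isNilpotent (D.subgroupOf P) hlt)
  refine ⟨x, x.2, hxD, mem_normalizer_iff.2 fun n => ⟨fun hn => ?_, fun hn => ?_⟩⟩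
  · exact (mem_normalizer_iff.1 hx ⟨n, hDP hn⟩).1 hn
  · have hnP : n ∈ P := by
      have := mul_mem (mul_mem (inv_mem x.2) (hDP hn)) x.2
      simpa [mul_assoc] using this
    exact (mem_normalizer_iff.1 hx ⟨n, hnP⟩).2 hn

/-- The centralizer of a four group is the four group. -/
theorem Four.mem_closure_of_comm [Finite G] (h : Four i j) (hgd : GDAll G) {c : G}
    (hci : c * i = i * c) (hcj : c * j = j * c) : c ∈ closure ({i, j} : Set G) := by
  rcases hgd.centralizer_pair h.hi h.hj h.ne h.comm hci hcj with e | e | e | e <;> rw [e]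
  · exact one_mem _
  · exact subset_closure (by simp)
  · exact subset_closure (by simp)
  · exact mul_mem (subset_closure (by simp)) (subset_closure (by simp))

theorem Four.isPGroup (h : Four i j) : IsPGroup 2 (closure ({i, j} : Set G)) := fun v =>
  ⟨1, Subtype.ext (by
    rw [pow_one, Subgroup.coe_pow, sq]
    rcases sq_eq_one_of_mem_closure_pair (mul_self_of_orderOf h.hi) (mul_self_of_orderOf h.hj)
      h.comm v v.2 with e | e | e | e <;> rw [e]
    · simp
    · exact mul_self_of_orderOf h.hi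
    · exact mul_self_of_orderOf h.hj
    · exact mul_self_of_orderOf h.hk)⟩

theorem Four.eq_third (h : Four i j) {v : G} (hv : v ∈ closure ({i, j} : Set G))
    (hv1 : v ≠ 1) (hvi : v ≠ i) (hvj : v ≠ j) : v = i * j :=
  (((sq_eq_one_of_mem_closure_pair (mul_self_of_orderOf h.hi) (mul_self_of_orderOf h.hj) h.comm v
    hv).resolve_left hv1).resolve_left hvi).resolve_left hvj

/-- With one class of involutions, some element permutes the three involutions of a four group
cyclically, if the four group is self-centralizing in the Sylow subgroups containing it. -/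
theorem exists_cycle_of_one [Finite G]
    (one : ∀ a b : G, orderOf a = 2 → orderOf b = 2 → IsConj a b) (h : Four i j)
    (hsc : ∀ T : Sylow 2 G, closure ({i, j} : Set G) ≤ (T : Subgroup G) → ∀ c ∈ (T : Subgroup G),
      c * i = i * c → c * j = j * c → c ∈ closure ({i, j} : Set G)) :
    ∃ g : G, g * i * g⁻¹ = j ∧ g * j * g⁻¹ = i * j := by
  haveI : Fact (Nat.Prime 2) := ⟨Nat.prime_two⟩
  set V := closure ({i, j} : Set G) with hV
  have hiV : i ∈ V := subset_closure (by simp)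
  have hjV : j ∈ V := subset_closure (by simp)
  have hcent : V ≤ centralizer ({i} : Set G) := by
    rw [hV, closure_le]
    rintro x (rfl | rfl)
    · exact mem_centralizer_singleton_iff.2 rfl
    · exact mem_centralizer_singleton_iff.2 h.comm.symm
  have hconjne : ∀ (g v : G), v ≠ 1 → g * v * g⁻¹ ≠ 1 := fun g v hv e => hv (conj_eq_one_iff.1 e)
  obtain ⟨S, hVS, hSi⟩ := exists_sylow_of_one one h.hi h.isPGroup hcent
  by_cases hS : V = (S : Subgroup G)
  · -- Burnside
    haveI : IsMulCommutative (S : Subgroup G) := by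
      rw [← hS]
      have hsq : ∀ v ∈ V, v * v = 1 := fun v hv => by
        rcases sq_eq_one_of_mem_closure_pair (mul_self_of_orderOf h.hi) (mul_self_of_orderOf h.hj)
          h.comm v hv with e | e | e | e <;> rw [e]
        · exact one_mul 1
        · exact mul_self_of_orderOf h.hi
        · exact mul_self_of_orderOf h.hj
        · exact mul_self_of_orderOf h.hk
      exact ⟨⟨fun a b => Subtype.ext (by
        show (a : G) * b = b * a
        rw [eq_inv_of_mul_eq_one_left (hsq _ (mul_mem a.2 b.2)), mul_inv_rev,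
          inv_eq_of_mul_eq_one_right (hsq a a.2), inv_eq_of_mul_eq_one_right (hsq b b.2)])⟩⟩
    obtain ⟨g, hg⟩ := isConj_iff.1 (one _ _ h.hj h.hi)
    obtain ⟨n, hn, hn'⟩ := S.conj_eq_normalizer_conj_of_mem i g
      (by show i ∈ (S : Subgroup G); rw [← hS]; exact hiV) (by
      show g⁻¹ * i * g ∈ (S : Subgroup G)
      rw [← hg, show g⁻¹ * (g * j * g⁻¹) * g = j by group, ← hS]
      exact hjV)
    have hni : n⁻¹ * i * n⁻¹⁻¹ = j := by
      rw [inv_inv, ← hn', ← hg]; group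
    have hmem : ∀ v ∈ V, n⁻¹ * v * n⁻¹⁻¹ ∈ V := fun v hv => by
      rw [hS] at hv ⊢
      exact (mem_normalizer_iff.1 (inv_mem hn) v).1 hv
    set m := n⁻¹ with hm
    by_cases hmj : m * j * m⁻¹ = i
    · exfalso
      -- replace `m` by its `2`-part
      obtain ⟨k, w, hw, hmw⟩ := Nat.exists_eq_two_pow_mul_odd (orderOf_pos m).ne'
      set x := m ^ w
      have hxx : x ^ 2 ^ k = 1 := by rw [← pow_mul, mul_comm, ← hmw, pow_orderOf_eq_one]
      have hxn : x ∈ normalizer ((S : Subgroup G) : Set G) := pow_mem (inv_mem hn) w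
      have hxS : x ∈ (S : Subgroup G) := by
        obtain ⟨l, -, hl⟩ := (Nat.dvd_prime_pow Nat.prime_two).1 (orderOf_dvd_of_pow_eq_one hxx)
        have hp : IsPGroup 2 ↥((S : Subgroup G) ⊔ zpowers x) :=
          S.isPGroup'.to_sup_of_normal_left' (isPGroup_zpowers hl) (zpowers_le.2 hxn)
        exact (S.is_maximal' hp le_sup_left).le (mem_sup_right (mem_zpowers x))
      have hm2 : m * m * i = i * (m * m) := mul_inv_eq_iff_eq_mul.1 (by
        rw [show m * m * i * (m * m)⁻¹ = m * (m * i * m⁻¹) * m⁻¹ by group, hni, hmj])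
      obtain ⟨e, he⟩ := hw
      have hxi : x * i * x⁻¹ = j := by
        have h2 : Commute ((m * m) ^ e) i := (show Commute (m * m) i from hm2).pow_left e
        rw [show x = m * (m * m) ^ e by
            rw [← sq, ← pow_mul, ← pow_succ', show 2 * e + 1 = w by omega],
          show m * (m * m) ^ e * i * (m * (m * m) ^ e)⁻¹ =
            m * ((m * m) ^ e * i * ((m * m) ^ e)⁻¹) * m⁻¹ by group, h2.eq, mul_inv_cancel_right, hni]
      have hc : x * i = i * x := by
        have hiS : i ∈ (S : Subgroup G) := by rw [← hS]; exact hiV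
        exact congrArg Subtype.val (mul_comm' (⟨x, hxS⟩ : (S : Subgroup G)) ⟨i, hiS⟩)
      exact h.ne (by rw [← hxi, hc, mul_inv_cancel_right])
    · refine ⟨m, hni, h.eq_third (hmem j hjV) (hconjne m j (ne_one_of_orderOf h.hj)) hmj ?_⟩
      intro e
      exact h.ne (mul_left_cancel (mul_right_cancel (hni.trans e.symm)))
  · -- each involution of `V` has an element of its centralizer exchanging the other two
    have swap : ∀ {a b : G}, Four a b → closure ({a, b} : Set G) = V →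
        ∃ x, x * a * x⁻¹ = a ∧ x * b * x⁻¹ = a * b := by
      intro a b hab heq
      obtain ⟨T, hVT, hTa⟩ := exists_sylow_of_one one hab.hi (P := V) h.isPGroup (by
        rw [← heq, closure_le]
        rintro x (rfl | rfl)
        · exact mem_centralizer_singleton_iff.2 rfl
        · exact mem_centralizer_singleton_iff.2 hab.comm.symm)
      have hne : V ≠ (T : Subgroup G) := fun e => hS (eq_of_le_of_card_ge hVS (by
        rw [e]; exact (Nat.card_congr (S.equiv T).toEquiv).le))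
      obtain ⟨x, hxT, hxV, hxn⟩ := exists_mem_normalizer_not_mem T.isPGroup' hVT hne
      have hxa : x * a * x⁻¹ = a :=
        mul_inv_eq_iff_eq_mul.2 (mem_centralizer_singleton_iff.1 (hTa hxT))
      have hbV : b ∈ V := heq ▸ subset_closure (by simp)
      have hxb : x * b * x⁻¹ ∈ closure ({a, b} : Set G) :=
        heq.symm ▸ (mem_normalizer_iff.1 hxn b).1 hbV
      refine ⟨x, hxa, hab.eq_third hxb (hconjne x b (ne_one_of_orderOf hab.hj)) ?_ ?_⟩
      · intro e
        exact hab.ne (mul_left_cancel (mul_right_cancel (hxa.trans e.symm)))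
      · intro e
        have hca : x * a = a * x := mul_inv_eq_iff_eq_mul.1 hxa
        have hcb : x * b = b * x := mul_inv_eq_iff_eq_mul.1 e
        have hcV : ∀ v ∈ V, x * v = v * x := by
          intro v hv
          have hle : V ≤ centralizer ({x} : Set G) := by
            rw [← heq, closure_le]
            rintro y (rfl | rfl)
            · exact mem_centralizer_singleton_iff.2 hca.symm
            · exact mem_centralizer_singleton_iff.2 hcb.symm
          exact (mem_centralizer_singleton_iff.1 (hle hv)).symm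
        exact hxV (hsc T hVT x hxT (hcV i hiV) (hcV j hjV))
    obtain ⟨x, hxi, hxj⟩ := swap h rfl
    obtain ⟨y, hyj, hyi⟩ := swap h.symm (by rw [Set.pair_comm])
    have hxk : x * (j * i) * x⁻¹ = j := by
      rw [show x * (j * i) * x⁻¹ = (x * j * x⁻¹) * (x * i * x⁻¹) by group, hxi, hxj, h.comm,
        mul_assoc, mul_self_of_orderOf h.hi, mul_one]
    refine ⟨x * y, ?_, ?_⟩
    · rw [show x * y * i * (x * y)⁻¹ = x * (y * i * y⁻¹) * x⁻¹ by group, hyi, hxk]
    · rw [show x * y * j * (x * y)⁻¹ = x * (y * j * y⁻¹) * x⁻¹ by group, hyj, hxj]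

/-- Some element permutes the three involutions of a four group cyclically. -/
theorem Ctx.exists_cycle [Finite G] (C : Ctx G) (h : Four i j) :
    ∃ g : G, g * i * g⁻¹ = j ∧ g * j * g⁻¹ = i * j :=
  exists_cycle_of_one C.one h fun _ _ _ _ hi hj => h.mem_closure_of_comm C.gdall hi hj

/-! ### Invariant `p`-subgroups -/

/-- A `p`-subgroup invariant under `i` and `j`. -/
structure PV (i j : G) (p : ℕ) (U : Subgroup G) : Prop where
  isP : IsPGroup p U
  hi : ∀ u ∈ U, i * u * i⁻¹ ∈ U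
  hj : ∀ u ∈ U, j * u * j⁻¹ ∈ U

/-- A maximal such subgroup. -/
structure MaxPV (i j : G) (p : ℕ) (U : Subgroup G) : Prop extends PV i j p U where
  max : ∀ W, PV i j p W → U ≤ W → W ≤ U

variable {p : ℕ} {U Q : Subgroup G}

theorem exists_maxPV [Finite G] (h : PV i j p U) : ∃ Q, MaxPV i j p Q ∧ U ≤ Q := by
  obtain ⟨Q, hQ, hmax⟩ := (Set.toFinite {W : Subgroup G | PV i j p W ∧ U ≤ W}).exists_maximal
    ⟨U, h, le_rfl⟩
  exact ⟨Q, ⟨hQ.1, fun W hW hle => hmax ⟨hW, hQ.2.trans hle⟩ hle⟩, hQ.2⟩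

theorem PV.odd [Finite G] [hp : Fact p.Prime] (h : PV i j p U) (hp2 : p ≠ 2) :
    Odd (Nat.card U) := by
  obtain ⟨k, hk⟩ := h.isP.exists_card_eq
  rw [hk]
  exact (hp.out.odd_of_ne_two hp2).pow

theorem PV.third (h : PV i j p U) : ∀ u ∈ U, i * j * u * (i * j)⁻¹ ∈ U := fun u hu => by
  simpa [mul_assoc] using h.hi _ (h.hj u hu)

theorem PV.fpf [Finite G] [Fact p.Prime] (h : PV i j p U) (hV : Four i j) (hgd : GDAll G)
    (hp2 : p ≠ 2) : Fpf i j U :=
  hV.fpf hgd (h.odd hp2) h.hi h.hj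

theorem conj_mem_normalizer {D : Subgroup G} {s : G} (hs : s ∈ normalizer (D : Set G)) {x : G}
    (hx : x ∈ normalizer (D : Set G)) : s * x * s⁻¹ ∈ normalizer (D : Set G) :=
  mul_mem (mul_mem hs hx) (inv_mem hs)

/-- The odd core of the normalizer, as a subgroup of the whole group. -/
def coreN (D : Subgroup G) : Subgroup G :=
  (Cfsg.oddCore (normalizer (D : Set G))).map (normalizer (D : Set G)).subtype

theorem coreN_le (D : Subgroup G) : coreN D ≤ normalizer (D : Set G) := map_subtype_le _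

theorem odd_coreN [Finite G] (D : Subgroup G) : Odd (Nat.card (coreN D)) := by
  rw [coreN, card_map_of_injective (subtype_injective _)]
  exact CfsgLib.TwoGroups.odd_card_oddCore

theorem conj_mem_coreN [Finite G] {D : Subgroup G} {s : G} (hs : s ∈ normalizer (D : Set G))
    {x : G} (hx : x ∈ coreN D) : s * x * s⁻¹ ∈ coreN D := by
  obtain ⟨y, hy, rfl⟩ := hx
  exact ⟨⟨s, hs⟩ * y * ⟨s, hs⟩⁻¹,
    (inferInstance : (Cfsg.oddCore (normalizer (D : Set G))).Normal).conj_mem y hy _, rfl⟩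

/-- Invariant `p`-subgroups normalizing a nontrivial invariant `p`-subgroup lie in the odd core of
its normalizer. -/
theorem Ctx.le_coreN [Finite G] [hp : Fact p.Prime] (C : Ctx G) (hV : Four i j) (hp2 : p ≠ 2)
    {D : Subgroup G} (hD : PV i j p D) (hD1 : D ≠ ⊥) (hU : PV i j p U)
    (hUD : U ≤ normalizer (D : Set G)) : U ≤ coreN D := by
  set N := normalizer (D : Set G) with hN
  have hiN : i ∈ N := mem_normalizer_of_conj hD.hi
  have hjN : j ∈ N := mem_normalizer_of_conj hD.hj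
  have hNtop : N ≠ ⊤ := fun e => hD1 (by
    haveI : D.Normal := normalizer_eq_top_iff.1 e
    exact le_bot_iff.1 (C.core ▸ CfsgLib.PLocal.le_pPrimeCore
      (Nat.coprime_two_right.2 (hD.odd hp2))))
  have hne' : (⟨i, hiN⟩ : N) ≠ ⟨j, hjN⟩ := fun e => hV.ne (congrArg Subtype.val e)
  have hd2 : D2 N := by
    obtain ⟨A, hA⟩ := C.all i hV.hi
    refine hA.d2_subgroup N hiN hV.comm.symm (fun hjA => ?_) hjN
    rcases hA.uniq j hjA (mul_self_of_orderOf hV.hj) with e | e
    · exact ne_one_of_orderOf hV.hj e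
    · exact hV.ne e.symm
  have hgdN : GDAll N := C.gdall.subgroup N
  have hUi : ∀ u ∈ U.subgroupOf N, (⟨i, hiN⟩ : N) * u * ⟨i, hiN⟩⁻¹ ∈ U.subgroupOf N :=
    fun u hu => mem_subgroupOf.2 (hU.hi _ (mem_subgroupOf.1 hu))
  have hUj : ∀ u ∈ U.subgroupOf N, (⟨j, hjN⟩ : N) * u * ⟨j, hjN⟩⁻¹ ∈ U.subgroupOf N :=
    fun u hu => mem_subgroupOf.2 (hU.hj _ (mem_subgroupOf.1 hu))
  have hUodd : Odd (Nat.card (U.subgroupOf N)) := by
    rw [Nat.card_congr (subgroupOfEquivOfLe hUD).toEquiv]; exact hU.odd hp2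
  suffices h : U.subgroupOf N ≤ Cfsg.oddCore N by
    intro u hu
    exact ⟨⟨u, hUD hu⟩, h (mem_subgroupOf.2 hu), rfl⟩
  rcases C.ih N hNtop hd2 with hs | ⟨F, _, _, hodd, hF, hiso⟩
  · exact le_oddCore_of_solvable hgdN (by rw [orderOf_mk]; exact hV.hi)
      (by rw [orderOf_mk]; exact hV.hj) hne' (Subtype.ext hV.comm) hUodd hUi hUj
  · have hV' : Four (⟨i, hiN⟩ : N) ⟨j, hjN⟩ :=
      ⟨by rw [orderOf_mk]; exact hV.hi, by rw [orderOf_mk]; exact hV.hj, hne', Subtype.ext hV.comm⟩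
    have hDn : (D.subgroupOf N).Normal := normal_subgroupOf_iff_le_normalizer le_normalizer |>.2 le_rfl
    have hDp : IsPGroup p (D.subgroupOf N) :=
      hD.isP.of_equiv (subgroupOfEquivOfLe le_normalizer).symm
    have hD1' : D.subgroupOf N ≠ ⊥ := by
      rw [Ne, subgroupOf_eq_bot, disjoint_iff, inf_eq_left.2 le_normalizer]; exact hD1
    have key : ∀ v : N, orderOf v = 2 → ∀ u ∈ U.subgroupOf N, u * v = v * u →
        u ∈ Cfsg.oddCore N := by
      intro v hv u hu huv
      by_contra hu'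
      obtain ⟨k, hk⟩ := hU.isP ⟨u, mem_subgroupOf.1 hu⟩
      have huk : u ^ p ^ k = 1 := Subtype.ext (by
        have := congrArg Subtype.val hk
        simpa using this)
      rcases hiso with ⟨⟨e⟩⟩ | ⟨⟨e⟩⟩
      · exact Torus.psl_case hgdN hodd hF (f := e.toMonoidHom.comp (QuotientGroup.mk' _))
          (e.surjective.comp (QuotientGroup.mk'_surjective _))
          (by rw [← MonoidHom.comap_ker, (MonoidHom.ker_eq_bot_iff _).2 e.injective,
            MonoidHom.comap_bot, QuotientGroup.ker_mk'])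
          hp2 hDn hD1' hDp huk hu' hv huv
      · exact Torus.pgl_case hgdN hodd hF (f := e.toMonoidHom.comp (QuotientGroup.mk' _))
          (e.surjective.comp (QuotientGroup.mk'_surjective _))
          (by rw [← MonoidHom.comap_ker, (MonoidHom.ker_eq_bot_iff _).2 e.injective,
            MonoidHom.comap_bot, QuotientGroup.ker_mk'])
          hp2 hDn hD1' hDp huk hu' hv huv
    exact (hV'.fpf hgdN hUodd hUi hUj).le_of (key _ hV'.hi) (key _ hV'.hj) (key _ hV'.hk)

theorem PV.normalizer_inf {D P : Subgroup G} [Finite G] (hP : PV i j p P) (hD : PV i j p D) :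
    PV i j p (P ⊓ normalizer (D : Set G)) :=
  ⟨hP.isP.to_le inf_le_left,
    fun _ hu => mem_inf.2 ⟨hP.hi _ hu.1, conj_mem_normalizer (mem_normalizer_of_conj hD.hi) hu.2⟩,
    fun _ hu => mem_inf.2 ⟨hP.hj _ hu.1, conj_mem_normalizer (mem_normalizer_of_conj hD.hj) hu.2⟩⟩

/-- Distinct maximal invariant `p`-subgroups meet trivially. -/
theorem Ctx.maxPV_eq [Finite G] [hp : Fact p.Prime] (C : Ctx G) (hV : Four i j) (hp2 : p ≠ 2)
    {P Q : Subgroup G} (hP : MaxPV i j p P) (hQ : MaxPV i j p Q) (h : P ⊓ Q ≠ ⊥) : P = Q := by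
  by_contra hne
  obtain ⟨D, ⟨hD1, P, Q, hP, hQ, hne, rfl⟩, hmax⟩ := (Set.toFinite {D : Subgroup G | D ≠ ⊥ ∧
    ∃ P Q, MaxPV i j p P ∧ MaxPV i j p Q ∧ P ≠ Q ∧ D = P ⊓ Q}).exists_maximal
    ⟨P ⊓ Q, h, P, Q, hP, hQ, hne, rfl⟩
  have hD : PV i j p (P ⊓ Q) := ⟨hP.isP.to_le inf_le_left,
    fun _ hu => mem_inf.2 ⟨hP.hi _ hu.1, hQ.hi _ hu.2⟩,
    fun _ hu => mem_inf.2 ⟨hP.hj _ hu.1, hQ.hj _ hu.2⟩⟩
  have hfpf : Fpf i j (coreN (P ⊓ Q)) := hV.fpf C.gdall (odd_coreN _)
    (fun _ hy => conj_mem_coreN (mem_normalizer_of_conj hD.hi) hy)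
    fun _ hy => conj_mem_coreN (mem_normalizer_of_conj hD.hj) hy
  obtain ⟨R, -, hRp, -, hRi, hRj, hR⟩ := hfpf.exists_sylow p
  obtain ⟨M, hM, hRM⟩ := exists_maxPV (⟨hRp, hRi, hRj⟩ : PV i j p R)
  have key : ∀ P' : Subgroup G, MaxPV i j p P' → P ⊓ Q ≤ P' → P ⊓ Q ≠ P' → M = P' := by
    intro P' hP' hle hne'
    set U := P' ⊓ normalizer ((P ⊓ Q : Subgroup G) : Set G)
    have hU := hP'.toPV.normalizer_inf hD
    have hUM : U ≤ M :=
      (hR U (C.le_coreN hV hp2 hD hD1 hU inf_le_right) hU.isP hU.hi hU.hj).trans hRM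
    obtain ⟨x, hxP, hxD, hxn⟩ := exists_mem_normalizer_not_mem hP'.isP hle hne'
    by_contra hMP
    have hDMP : P ⊓ Q ≤ M ⊓ P' := le_inf (fun d hd => hUM ⟨hle hd, le_normalizer hd⟩) hle
    have := hmax ⟨fun e => hD1 (le_bot_iff.1 (e ▸ hDMP)), M, P', hM, hP', hMP, rfl⟩ hDMP
    exact hxD (this ⟨hUM ⟨hxP, hxn⟩, hxP⟩)
  have h1 : P ⊓ Q ≠ P := fun e =>
    hne (le_antisymm (inf_eq_left.1 e) (hP.max Q hQ.toPV (inf_eq_left.1 e)))
  have h2 : P ⊓ Q ≠ Q := fun e =>
    hne (le_antisymm (hQ.max P hP.toPV (inf_eq_right.1 e)) (inf_eq_right.1 e))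
  exact hne ((key P hP inf_le_left h1).symm.trans (key Q hQ inf_le_right h2))

/-- An invariant `p`-subgroup meeting a maximal one lies in it. -/
theorem Ctx.le_maxPV [Finite G] [Fact p.Prime] (C : Ctx G) (hV : Four i j) (hp2 : p ≠ 2)
    (hU : PV i j p U) (hQ : MaxPV i j p Q) (h : U ⊓ Q ≠ ⊥) : U ≤ Q := by
  obtain ⟨M, hM, hUM⟩ := exists_maxPV hU
  rw [← C.maxPV_eq hV hp2 hM hQ fun e => h (le_bot_iff.1 (e ▸ inf_le_inf_right Q hUM))]
  exact hUM

/-- The elements of `p`-power order of an abelian subgroup. -/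
def pPart (A : Subgroup G) (hA : ∀ a ∈ A, ∀ b ∈ A, a * b = b * a) (p : ℕ) : Subgroup G where
  carrier := {x | x ∈ A ∧ ∃ n, x ^ p ^ n = 1}
  one_mem' := ⟨one_mem _, 0, by simp⟩
  mul_mem' := by
    rintro a b ⟨ha, m, hm⟩ ⟨hb, n, hn⟩
    refine ⟨mul_mem ha hb, m + n, ?_⟩
    rw [(show Commute a b from hA a ha b hb).mul_pow, pow_add, pow_mul, hm, one_pow, one_mul,
      mul_comm, pow_mul, hn, one_pow]
  inv_mem' := by
    rintro a ⟨ha, m, hm⟩
    exact ⟨inv_mem ha, m, by rw [inv_pow, hm, inv_one]⟩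

/-- `p`-elements commuting with an involution of the four group lie in any maximal invariant
subgroup containing one of them. -/
theorem Ctx.mem_maxPV [Finite G] [hp : Fact p.Prime] (C : Ctx G) (hV : Four i j) (hp2 : p ≠ 2)
    (hQ : MaxPV i j p Q) {v : G} (hv : v = i ∨ v = j ∨ v = i * j) {y : G} (hy : y ∈ Q)
    (hy1 : y ≠ 1) (hyv : y * v = v * y) {x : G} {n : ℕ} (hx : x ^ p ^ n = 1)
    (hxv : x * v = v * x) : x ∈ Q := by
  have hv2 : orderOf v = 2 := by
    rcases hv with rfl | rfl | rfl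
    exacts [hV.hi, hV.hj, hV.hk]
  obtain ⟨A, hA⟩ := C.all v hv2
  have hpow : ∀ (z : G) (m : ℕ), z ^ p ^ m = 1 → Odd (orderOf z) := fun z m hz =>
    ((hp.out.odd_of_ne_two hp2).pow).of_dvd_nat (orderOf_dvd_of_pow_eq_one hz)
  obtain ⟨m, hm⟩ := hQ.isP ⟨y, hy⟩
  have hym : y ^ p ^ m = 1 := congrArg Subtype.val hm
  have hyA : y ∈ A := hA.mem_of_odd (mem_centralizer_singleton_iff.2 hyv) (hpow y m hym)
  have hxA : x ∈ A := hA.mem_of_odd (mem_centralizer_singleton_iff.2 hxv) (hpow x n hx)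
  set W := pPart A hA.comm p
  have hWs : ∀ s : G, s * v = v * s → ∀ w ∈ W, s * w * s⁻¹ ∈ W := by
    rintro s hs w ⟨hw, k, hk⟩
    refine ⟨?_, k, by rw [conj_pow, hk, mul_one, mul_inv_cancel]⟩
    by_cases hsA : s ∈ A
    · exact mul_mem (mul_mem hsA hw) (inv_mem hsA)
    · rw [hA.inverts (mem_centralizer_singleton_iff.2 hs) hsA hw]; exact inv_mem hw
  have hiv : i * v = v * i := by
    rcases hv with rfl | rfl | rfl
    · rfl
    · exact hV.comm
    · rw [mul_assoc, ← hV.comm]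
  have hjv : j * v = v * j := by
    rcases hv with rfl | rfl | rfl
    · exact hV.comm.symm
    · rfl
    · rw [← mul_assoc, ← hV.comm]
  have hW : PV i j p W := ⟨fun w => by
      obtain ⟨-, k, hk⟩ := w.2
      exact ⟨k, Subtype.ext hk⟩, hWs i hiv, hWs j hjv⟩
  have hle := C.le_maxPV hV hp2 hW hQ fun e =>
    hy1 (mem_bot.1 (e ▸ ⟨⟨hyA, m, hym⟩, hy⟩ : y ∈ (⊥ : Subgroup G)))
  exact hle ⟨hxA, n, hx⟩

/-- A maximal invariant `p`-subgroup not centralized by an involution of the four group. -/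
structure Linked (i j : G) (p : ℕ) (Q : Subgroup G) : Prop extends MaxPV i j p Q where
  ni : ¬ Q ≤ centralizer ({i} : Set G)
  nj : ¬ Q ≤ centralizer ({j} : Set G)
  nk : ¬ Q ≤ centralizer ({i * j} : Set G)

/-- A subgroup `W` with this property contains a nontrivial element fixed by `v`. -/
def FixedIn (v : G) (W : Subgroup G) : Prop := ∃ y ∈ W, y ≠ 1 ∧ y * v = v * y

theorem fixedIn_map {g v v' : G} {Q : Subgroup G} (hgv : g * v * g⁻¹ = v')
    (hQ : ∀ u ∈ Q, g * u * g⁻¹ ∈ Q) (h : FixedIn v Q) : FixedIn v' Q := by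
  obtain ⟨y, hy, hy1, hyv⟩ := h
  refine ⟨g * y * g⁻¹, hQ y hy, fun e => hy1 (conj_eq_one_iff.1 e), ?_⟩
  rw [← hgv, show g * y * g⁻¹ * (g * v * g⁻¹) = g * (y * v) * g⁻¹ by group, hyv]
  group

theorem Linked.ne_bot (hQ : Linked i j p Q) : Q ≠ ⊥ := fun e => hQ.ni (e ▸ bot_le)

/-- A cycle on the four group normalizes a linked subgroup. -/
theorem Linked.cycle_mem [Finite G] [hp : Fact p.Prime] (hQ : Linked i j p Q) (C : Ctx G)
    (hV : Four i j) (hp2 : p ≠ 2) {g : G} (hgi : g * i * g⁻¹ = j) (hgj : g * j * g⁻¹ = i * j) :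
    ∀ u ∈ Q, g * u * g⁻¹ ∈ Q := by
  have hgk : g * (i * j) * g⁻¹ = i := by
    rw [show g * (i * j) * g⁻¹ = (g * i * g⁻¹) * (g * j * g⁻¹) by group, hgi, hgj, hV.comm,
      ← mul_assoc, mul_self_of_orderOf hV.hj, one_mul]
  set Q' := Q.map (MulAut.conj g).toMonoidHom with hQ'
  have hconj : ∀ {v v' : G}, g * v * g⁻¹ = v' → (∀ u ∈ Q, v * u * v⁻¹ ∈ Q) →
      ∀ u ∈ Q', v' * u * v'⁻¹ ∈ Q' := by
    rintro v v' rfl hv _ ⟨u, hu, rfl⟩
    exact ⟨_, hv u hu, by simp [mul_assoc]⟩
  have hpv : PV i j p Q' :=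
    ⟨hQ.isP.map _, hconj hgk hQ.toPV.third, hconj hgi hQ.hi⟩
  have hQ'card : Nat.card Q' = Nat.card Q := card_map_of_injective (MulAut.conj g).injective
  suffices h : Q' ⊓ Q ≠ ⊥ by
    have hle := C.le_maxPV hV hp2 hpv hQ.toMaxPV h
    intro u hu
    exact hle ⟨u, hu, rfl⟩
  intro hbot
  have hfp := hQ.toPV.fpf hV C.gdall hp2
  -- the `p`-elements at a fixed involution and its image
  have key : ∀ {v v' : G}, (v' = i ∨ v' = j ∨ v' = i * j) → g * v * g⁻¹ = v' →
      FixedIn v Q → ¬ FixedIn v' Q := by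
    rintro v v' hv' hgv ⟨y, hy, hy1, hyv⟩ ⟨y', hy', hy1', hyv'⟩
    obtain ⟨m, hm⟩ := hQ.isP ⟨y, hy⟩
    have hym : y ^ p ^ m = 1 := congrArg Subtype.val hm
    have h1 : g * y * g⁻¹ ∈ Q := C.mem_maxPV hV hp2 hQ.toMaxPV hv' hy' hy1' hyv'
      (n := m) (by rw [conj_pow, hym, mul_one, mul_inv_cancel]) (by
        rw [← hgv, show g * y * g⁻¹ * (g * v * g⁻¹) = g * (y * v) * g⁻¹ by group, hyv]; group)
    have h2 : g * y * g⁻¹ ∈ (⊥ : Subgroup G) := hbot ▸ ⟨⟨y, hy, rfl⟩, h1⟩
    exact hy1 (conj_eq_one_iff.1 (mem_bot.1 h2))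
  -- two of the three involutions have fixed points in `Q`
  have none : ∀ {a b c : G}, Fpf a b Q → a * b = c → ¬ FixedIn b Q → ¬ FixedIn c Q →
      Q ≤ centralizer ({a} : Set G) := by
    intro a b c hf hc hb' hc' y hy
    refine mem_centralizer_singleton_iff.2 (hf.comm_all (fun z hz e => ?_) (fun z hz e => ?_) y hy)
    · by_contra hz1; exact hb' ⟨z, hz, hz1, e⟩
    · by_contra hz1; exact hc' ⟨z, hz, hz1, hc ▸ e⟩
  by_cases h1 : FixedIn i Q
  · have h2 : ¬ FixedIn j Q := key (Or.inr (Or.inl rfl)) hgi h1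
    by_cases h3 : FixedIn (i * j) Q
    · exact key (Or.inl rfl) hgk h3 h1
    · exact hQ.ni (none hfp rfl h2 h3)
  · by_cases h2 : FixedIn j Q
    · exact hQ.nj (none hfp.symm hV.comm.symm h1 (key (Or.inr (Or.inr rfl)) hgj h2))
    · exact hQ.nk (none (a := i * j) (b := j) (hV.comm ▸ hfp.symm.third.symm)
        (by rw [mul_assoc, mul_self_of_orderOf hV.hj, mul_one]) h2 h1)

/-- All three involutions have fixed points in a linked subgroup. -/
theorem Linked.fixed [Finite G] [hp : Fact p.Prime] (hQ : Linked i j p Q) (C : Ctx G)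
    (hV : Four i j) (hp2 : p ≠ 2) {v : G} (hv : v = i ∨ v = j ∨ v = i * j) : FixedIn v Q := by
  obtain ⟨g, hgi, hgj⟩ := C.exists_cycle hV
  have hgk : g * (i * j) * g⁻¹ = i := by
    rw [show g * (i * j) * g⁻¹ = (g * i * g⁻¹) * (g * j * g⁻¹) by group, hgi, hgj, hV.comm,
      ← mul_assoc, mul_self_of_orderOf hV.hj, one_mul]
  have hg := hQ.cycle_mem C hV hp2 hgi hgj
  have hij : FixedIn i Q → FixedIn j Q := fixedIn_map hgi hg
  have hjk : FixedIn j Q → FixedIn (i * j) Q := fixedIn_map hgj hg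
  have hki : FixedIn (i * j) Q → FixedIn i Q := fixedIn_map hgk hg
  have : FixedIn i Q := by
    by_contra hno
    refine hQ.ne_bot (le_bot_iff.1 ((hQ.toPV.fpf hV C.gdall hp2).le_of ?_ ?_ ?_)) <;>
      intro y hy e <;> refine mem_bot.2 ?_ <;> by_contra hy1
    · exact hno ⟨y, hy, hy1, e⟩
    · exact hno (hki (hjk ⟨y, hy, hy1, e⟩))
    · exact hno (hki ⟨y, hy, hy1, e⟩)
  rcases hv with rfl | rfl | rfl
  exacts [this, hij this, hjk (hij this)]

/-- A linked subgroup contains every `p`-element commuting with one of the three involutions. -/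
theorem Linked.mem [Finite G] [Fact p.Prime] (hQ : Linked i j p Q) (C : Ctx G) (hV : Four i j)
    (hp2 : p ≠ 2) {v : G} (hv : v = i ∨ v = j ∨ v = i * j) {x : G} {n : ℕ} (hx : x ^ p ^ n = 1)
    (hxv : x * v = v * x) : x ∈ Q := by
  obtain ⟨y, hy, hy1, hyv⟩ := hQ.fixed C hV hp2 hv
  exact C.mem_maxPV hV hp2 hQ.toMaxPV hv hy hy1 hyv hx hxv

/-- A linked subgroup normalized by `k` is linked for `i` and `k`. -/
theorem Linked.change [Finite G] [hp : Fact p.Prime] (hQ : Linked i j p Q) (C : Ctx G)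
    (hV : Four i j) (hp2 : p ≠ 2) {k : G} (hV' : Four i k) (hk : ∀ u ∈ Q, k * u * k⁻¹ ∈ Q) :
    Linked i k p Q := by
  have hpv : PV i k p Q := ⟨hQ.isP, hQ.hi, hk⟩
  have hnorm : ∀ {s : G}, (∀ u ∈ Q, s * u * s⁻¹ ∈ Q) → ∀ y ∈ coreN Q, s * y * s⁻¹ ∈ coreN Q :=
    fun hs _ hy => conj_mem_coreN (mem_normalizer_of_conj hs) hy
  have hfpf : Fpf i j (coreN Q) :=
    hV.fpf C.gdall (odd_coreN _) (hnorm hQ.hi) (hnorm hQ.hj)
  have hQcore : Q ≤ coreN Q := C.le_coreN hV hp2 hQ.toPV hQ.ne_bot hQ.toPV le_normalizer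
  obtain ⟨R, hRc, hRp, hRsyl, hRi, hRj, hR⟩ := hfpf.exists_sylow p
  have hRQ : R = Q := le_antisymm (hQ.max R ⟨hRp, hRi, hRj⟩ (hR Q hQcore hQ.isP hQ.hi hQ.hj))
    (hR Q hQcore hQ.isP hQ.hi hQ.hj)
  rw [hRQ] at hRsyl
  obtain ⟨y, hy, hy1, hyi⟩ := hQ.fixed C hV hp2 (Or.inl rfl)
  obtain ⟨A, hA, hkA⟩ := C.gdall i k hV'.hi hV'.hj hV'.ne hV'.comm
  have hkc : k ∈ centralizer ({i} : Set G) := mem_centralizer_singleton_iff.2 hV'.comm.symm
  have hyA : y ∈ A := hA.mem_of_odd (mem_centralizer_singleton_iff.2 hyi)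
    (odd_orderOf (hpv.odd hp2) hy)
  have hno : ∀ s ∈ centralizer ({i} : Set G), s ∉ A → ¬ Q ≤ centralizer ({s} : Set G) := by
    intro s hs hsA hle
    have h1 := hA.inverts hs hsA hyA
    rw [← mem_centralizer_singleton_iff.1 (hle hy), mul_inv_cancel_right] at h1
    exact hy1 (eq_one_of_odd (hpv.odd hp2) hy (mul_eq_one_iff_eq_inv.2 h1))
  refine ⟨⟨hpv, fun W hW hQW => ?_⟩, hQ.ni, hno k hkc hkA,
    hno _ (mul_mem (mem_centralizer_singleton_iff.2 rfl) hkc) fun e =>
      hkA (by simpa using mul_mem (inv_mem hA.tA) e)⟩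
  by_contra hWQ
  set W' := W ⊓ normalizer (Q : Set G)
  have hW' : PV i k p W' := hW.normalizer_inf hpv
  obtain ⟨x, hxW, hxQ, hxn⟩ := exists_mem_normalizer_not_mem hW.isP hQW fun e => hWQ e.ge
  have hW'core : W' ≤ coreN Q := C.le_coreN hV' hp2 hpv hQ.ne_bot hW' inf_le_right
  -- `Q` is a normal Sylow subgroup of the core
  have hle : W'.subgroupOf (coreN Q) ≤ Q.subgroupOf (coreN Q) := by
    haveI : (Q.subgroupOf (coreN Q)).Normal :=
      (normal_subgroupOf_iff_le_normalizer hQcore).2 (coreN_le Q)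
    intro y hy
    obtain ⟨l, hl⟩ := hW'.isP ⟨y, mem_subgroupOf.1 hy⟩
    have hyl : y ^ p ^ l = 1 := Subtype.ext (by simpa using congrArg Subtype.val hl)
    obtain ⟨m, hm⟩ := exists_pow_eq_self_of_coprime (x := y)
      (n := (Q.subgroupOf (coreN Q)).index)
      ((((Nat.Prime.coprime_iff_not_dvd hp.out).2 hRsyl).pow_left l).symm.coprime_dvd_right
        (orderOf_dvd_of_pow_eq_one hyl))
    exact hm ▸ pow_mem (pow_index_mem _ y) m
  exact hxQ (mem_subgroupOf.1 (hle (mem_subgroupOf.2 (⟨hxW, hxn⟩ : x ∈ W') :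
    (⟨x, hW'core ⟨hxW, hxn⟩⟩ : coreN Q) ∈ W'.subgroupOf (coreN Q))))

end CfsgLib.DGroupCent
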