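import Cfsg.Agent.DGroupCent.Main

/-!
# Transfer and subgroups containing a Sylow subgroup
-/

set_option autoImplicit false
set_option linter.style.haveILetI false

namespace CfsgLib.DGroupCent

open Subgroup

variable {G : Type*} [Group G]

/-- The sign of the action on the cosets of a subgroup of twice odd index separates it from the
involutions without conjugates in it. -/
theorem exists_sign_hom [Finite G] (M : Subgroup G) {m : ℕ} (hm : Odd m)
    (hidx : M.index = 2 * m) :
    ∃ f : G →* ℤˣ, ∀ x : G, orderOf x = 2 → (∀ g : G, g⁻¹ * x * g ∉ M) → f x = -1 := by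
  classical
  haveI : Fintype (G ⧸ M) := Fintype.ofFinite _
  refine ⟨Equiv.Perm.sign.comp (MulAction.toPermHom G (G ⧸ M)), fun x hx h => ?_⟩
  set σ := MulAction.toPermHom G (G ⧸ M) x with hσ
  have hsupp : σ.support = Finset.univ := by
    refine Finset.eq_univ_iff_forall.mpr fun q => ?_
    obtain ⟨g, rfl⟩ := Quotient.exists_rep q
    rw [Equiv.Perm.mem_support]
    intro hfix
    apply h g
    have h1 : ((x * g : G) : G ⧸ M) = (g : G ⧸ M) := hfix
    have h2 := QuotientGroup.eq.mp h1.symm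
    rwa [← mul_assoc] at h2
  have hsq : σ ^ 2 = 1 := by rw [hσ, ← map_pow, ← hx, pow_orderOf_eq_one, map_one]
  have hall : ∀ r ∈ σ.cycleType, r = 2 := by
    intro r hr
    have h1 : r ∣ 2 :=
      (Equiv.Perm.dvd_of_mem_cycleType hr).trans (orderOf_dvd_of_pow_eq_one hsq)
    have h2 := Equiv.Perm.two_le_of_mem_cycleType hr
    have := Nat.le_of_dvd two_pos h1
    omega
  have hrep := Multiset.eq_replicate_card.mpr hall
  have hsum : σ.cycleType.sum = 2 * m := by
    rw [Equiv.Perm.sum_cycleType, hsupp, Finset.card_univ, ← Nat.card_eq_fintype_card, ← hidx]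
    rfl
  rw [hrep, Multiset.sum_replicate, smul_eq_mul] at hsum
  show Equiv.Perm.sign σ = -1
  rw [Equiv.Perm.sign_of_cycleType, hrep, Multiset.sum_replicate, Multiset.card_replicate,
    smul_eq_mul, show Multiset.card σ.cycleType = m by omega]
  obtain ⟨j, rfl⟩ := hm
  rw [Odd.neg_one_pow ⟨3 * j + 1, by ring⟩]

/-- A two-element acting on an elementary abelian two-group fixes an involution. -/
theorem exists_fixed_of_two_power {Z : Subgroup G} (hZ : ∀ v ∈ Z, v * v = 1)
    (hZ1 : ∃ v ∈ Z, v ≠ 1) : ∀ (k : ℕ) (g : G), g ^ 2 ^ k = 1 →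
      (∀ v ∈ Z, g * v * g⁻¹ ∈ Z) → ∃ v ∈ Z, v ≠ 1 ∧ g * v * g⁻¹ = v := by
  intro k
  induction k with
  | zero =>
    intro g hg _
    obtain ⟨v, hv, hv1⟩ := hZ1
    rw [pow_zero, pow_one] at hg
    exact ⟨v, hv, hv1, by rw [hg]; group⟩
  | succ k ih =>
    intro g hg hn
    obtain ⟨v, hv, hv1, hfix⟩ := ih (g * g) (by rw [← sq, ← pow_mul, ← pow_succ', hg])
      fun v hv => by
        have h := hn _ (hn v hv)
        rwa [show g * (g * v * g⁻¹) * g⁻¹ = g * g * v * (g * g)⁻¹ by group] at h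
    set w := g * v * g⁻¹ with hw
    have hwg : g * w * g⁻¹ = v := by
      rw [hw, show g * (g * v * g⁻¹) * g⁻¹ = g * g * v * (g * g)⁻¹ by group, hfix]
    by_cases hwv : w = v
    · exact ⟨v, hv, hv1, hwv⟩
    · have hwZ : w ∈ Z := hn v hv
      have hcomm : w * v = v * w := by
        rw [eq_inv_of_mul_eq_one_left (hZ _ (mul_mem hwZ hv)), mul_inv_rev,
          inv_eq_of_mul_eq_one_right (hZ v hv), inv_eq_of_mul_eq_one_right (hZ w hwZ)]
      refine ⟨v * w, mul_mem hv hwZ, fun e => hwv ?_, ?_⟩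
      · rw [eq_inv_of_mul_eq_one_right e, inv_eq_of_mul_eq_one_right (hZ v hv)]
      · rw [show g * (v * w) * g⁻¹ = (g * v * g⁻¹) * (g * w * g⁻¹) by group, hwg, ← hw, hcomm]

end CfsgLib.DGroupCent
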