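import Cfsg.Agent.DGroupCent.Cases
import Cfsg.Agent.S0514

/-!
# Two classes of involutions
-/

set_option autoImplicit false
set_option linter.style.haveILetI false

namespace CfsgLib.DGroupCent

open Subgroup

universe u

variable {G : Type u} [Group G]

/-- A subgroup of index two without index-two subgroups, next to a dihedral Sylow subgroup. -/
structure TwoData (S : Sylow 2 G) (G0 : Subgroup G) (σ z y : G) : Prop
    extends DihData (S : Subgroup G) σ z where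
  hi : G0.index = 2
  zG : z ∈ G0
  σG : σ ∉ G0
  yS : y ∈ (S : Subgroup G)
  yG : y ∈ G0
  yσ : y ∉ zpowers σ
  one : ∀ a ∈ G0, ∀ b ∈ G0, orderOf a = 2 → orderOf b = 2 → ∃ g ∈ G0, g * a * g⁻¹ = b

variable {S : Sylow 2 G} {G0 : Subgroup G} {σ z y : G}

theorem DihData.comm_z {T : Subgroup G} (d : DihData T σ z) {s : G} (hs : s ∈ T) :
    s * z = z * s := d.central s hs

theorem DihData.z_mem_zpowers {T : Subgroup G} (d : DihData T σ z) : z ∈ zpowers σ :=
  zpowers_le.2 (pow_mem (mem_zpowers σ) 2) d.zσ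

/-- A central involution of the Sylow subgroup is `z`. -/
theorem DihData.eq_z {T : Subgroup G} (d : DihData T σ z) {c : G} (hc : c ∈ T)
    (hc2 : orderOf c = 2) (hcen : ∀ s ∈ T, s * c = c * s) : c = z := by
  have hcσ : c ∈ zpowers σ := by
    by_contra hcσ
    have h := d.conj_rot hc hcσ (mem_zpowers σ)
    rw [← hcen σ d.σS, mul_inv_cancel_right] at h
    exact d.ne (mul_eq_one_iff_eq_inv.2 h)
  exact (d.uniq c hc hcσ (mul_self_of_orderOf hc2)).resolve_left (ne_one_of_orderOf hc2)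

theorem DihData.orderOf_out {T : Subgroup G} (d : DihData T σ z) {s : G} (hs : s ∈ T)
    (hsσ : s ∉ zpowers σ) : orderOf s = 2 :=
  orderOf_two_of_mul_self ((d.cases s hs).resolve_left hsσ).1 fun e => hsσ (e ▸ one_mem _)

theorem mem_zpowers_sq {H : Subgroup G} (hi : H.index = 2) (hσ : σ ∉ H) {c : G}
    (hc : c ∈ zpowers σ) (hcH : c ∈ H) : c ∈ zpowers (σ ^ 2) := by
  obtain ⟨k, rfl⟩ := mem_zpowers_iff.1 hc
  rcases Int.even_or_odd' k with ⟨m, rfl | rfl⟩
  · exact mem_zpowers_iff.2 ⟨m, by rw [← zpow_natCast, ← zpow_mul]; norm_num⟩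
  · refine absurd ?_ hσ
    have h : (σ ^ 2) ^ (-m) * σ ^ (2 * m + 1) = σ := by
      rw [← zpow_natCast, ← zpow_mul, ← zpow_add]; norm_num
    exact h ▸ mul_mem (zpow_mem (sq_mem_of_index_two hi σ) _) hcH

/-- Outer elements of the small Sylow subgroup are `y` times a square rotation. -/
theorem TwoData.y_mul (d : TwoData S G0 σ z y) {s : G} (hs : s ∈ (S : Subgroup G)) (hsG : s ∈ G0)
    (hsσ : s ∉ zpowers σ) : y * s ∈ zpowers (σ ^ 2) :=
  mem_zpowers_sq d.hi d.σG (d.prod y d.yS d.yσ s hs hsσ) (mul_mem d.yG hsG)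

/-- The centraliser of the subgroup of index two is trivial. -/
theorem TwoData.centralizer_eq_bot (d : TwoData S G0 σ z y)
    (h : ∀ x ∈ centralizer (G0 : Set G), x = 1 ∨ x = z ∨ x = y ∨ x = z * y) :
    centralizer (G0 : Set G) = ⊥ := by
  have hy : orderOf y = 2 := d.orderOf_out d.yS d.yσ
  have hne : y ≠ z := fun e => d.yσ (e ▸ d.z_mem_zpowers)
  have hV : Four z y := ⟨d.hz, hy, hne.symm, (d.central y d.yS).symm⟩
  refine (eq_bot_iff_forall _).2 fun x hx => ?_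
  rcases h x hx with e | e | e | e
  · exact e
  all_goals
    exfalso
    have hxG : x ∈ G0 := by
      rw [e]; first | exact d.zG | exact d.yG | exact mul_mem d.zG d.yG
    have hx2 : orderOf x = 2 := by
      rw [e]; first | exact d.hz | exact hy | exact hV.hk
    have key : ∀ v ∈ G0, orderOf v = 2 → v = x := fun v hv hv2 => by
      obtain ⟨g, hg, rfl⟩ := d.one x hxG v hv hx2 hv2
      rw [mem_centralizer_iff.1 hx g hg, mul_inv_cancel_right]
    exact hne ((key y d.yG hy).trans (key z d.zG d.hz).symm)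

variable [Finite G]

theorem exists_twoData (hO : Cfsg.oddCore G = ⊥) (hns : ¬ Group.IsSolvable G) (S : Sylow 2 G)
    {n : ℕ} [NeZero n] (eS : (S : Subgroup G) ≃* DihedralGroup n) (h4n : 4 ∣ n)
    {G0 : Subgroup G} (hi : G0.index = 2) (h4 : ∀ N : Subgroup G, N.Normal → N.index ≠ 4) :
    ∃ σ z y, TwoData S G0 σ z y ∧ ∃ (P : Sylow 2 G0) (m : ℕ), 2 ≤ m ∧
      (P : Subgroup G0) = (S : Subgroup G).subgroupOf G0 ∧
      Nonempty ((P : Subgroup G0) ≃* DihedralGroup m) := by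
  haveI : Fact (Nat.Prime 2) := ⟨Nat.prime_two⟩
  haveI := normal_of_index_eq_two hi
  obtain ⟨σ, z, d⟩ := exists_dihData S eS h4n
  obtain ⟨⟨P, hP⟩, hnle⟩ := exists_sylow_index_two S hi
  have hO0 := oddCore_normal_subgroup hO G0
  have hns0 := nonsolvable_of_index_two hi hns
  have hsqσ : σ ^ 2 ∈ G0 := sq_mem_of_index_two hi σ
  have hσ : σ ∉ G0 := by
    intro hσ
    refine hns0 ?_
    haveI : IsCyclic (P : Subgroup G0) := by
      haveI : IsCyclic ((zpowers σ).subgroupOf G0) :=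
        isCyclic_of_surjective (subgroupOfEquivOfLe (zpowers_le.2 hσ)).symm
          (subgroupOfEquivOfLe _).symm.surjective
      refine Subgroup.isCyclic_of_le (H' := (zpowers σ).subgroupOf G0) ?_
      rw [hP]
      intro s hs
      by_contra hsσ
      rw [mem_subgroupOf] at hs hsσ
      refine hnle fun c hc => ?_
      by_cases hcσ : c ∈ zpowers σ
      · exact zpowers_le.2 hσ hcσ
      · have h := mul_mem s.2 (zpowers_le.2 hσ (d.prod _ hs hsσ c hc hcσ))
        rwa [← mul_assoc, ((d.cases _ hs).resolve_left hsσ).1, one_mul] at h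
    have heven : 2 ∣ Nat.card G0 := by
      have hv : orderOf (⟨z, zpowers_le.2 hsqσ d.zσ⟩ : G0) = 2 := by rw [orderOf_mk, d.hz]
      exact hv ▸ orderOf_dvd_natCard _
    exact solvable_of_complement hO0 P
      (IsCyclic.isComplement' (P := P) ((Nat.minFac_eq_two_iff _).2 heven) inferInstance)
  obtain ⟨y, hyS, hyσ, hyG⟩ : ∃ y ∈ (S : Subgroup G), y ∉ zpowers σ ∧ y ∈ G0 := by
    obtain ⟨s, hs, hsσ⟩ := d.out
    by_cases hsG : s ∈ G0
    · exact ⟨s, hs, hsσ, hsG⟩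
    · refine ⟨s * σ, mul_mem hs d.σS, fun h => hsσ ?_, (mul_mem_iff_of_index_two hi).2
        (iff_of_false hsG hσ)⟩
      simpa using mul_mem h (inv_mem (mem_zpowers σ))
  -- the Sylow subgroup of `G0` is dihedral
  have hy : orderOf y = 2 := d.orderOf_out hyS hyσ
  have hy'S : y * σ ^ 2 ∈ (S : Subgroup G) := mul_mem hyS (pow_mem d.σS 2)
  have hy'σ : y * σ ^ 2 ∉ zpowers σ := fun h => hyσ (by
    simpa using mul_mem h (inv_mem (pow_mem (mem_zpowers σ) 2)))
  have hσ2 : σ ^ 2 ≠ 1 := by rw [sq]; exact d.ne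
  have hyy : y * (y * σ ^ 2) = σ ^ 2 := by rw [← mul_assoc, mul_self_of_orderOf hy, one_mul]
  have hne : y ≠ y * σ ^ 2 := fun e => hσ2 (mul_eq_left.1 e.symm)
  have hy0 : orderOf (⟨y, hyG⟩ : G0) = 2 := by rw [orderOf_mk, hy]
  have hy0' : orderOf (⟨y * σ ^ 2, mul_mem hyG hsqσ⟩ : G0) = 2 := by
    rw [orderOf_mk, d.orderOf_out hy'S hy'σ]
  have hcl : closure ({⟨y, hyG⟩, ⟨y * σ ^ 2, mul_mem hyG hsqσ⟩} : Set G0) = (P : Subgroup G0) := by
    rw [hP]
    refine le_antisymm (by rw [closure_le]; rintro x (rfl | rfl); exacts [hyS, hy'S]) fun s hs => ?_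
    set K := closure ({⟨y, hyG⟩, ⟨y * σ ^ 2, mul_mem hyG hsqσ⟩} : Set G0)
    have hyK : (⟨y, hyG⟩ : G0) ∈ K := subset_closure (by simp)
    have h2K : σ ^ 2 ∈ K.map G0.subtype := ⟨⟨y, hyG⟩ * ⟨y * σ ^ 2, mul_mem hyG hsqσ⟩,
      mul_mem hyK (subset_closure (by simp)), hyy⟩
    by_cases hsσ : (s : G) ∈ zpowers σ
    · obtain ⟨w, hw, hwe⟩ := zpowers_le.2 h2K (mem_zpowers_sq hi hσ hsσ s.2)
      exact (Subtype.ext hwe : w = s) ▸ hw
    · obtain ⟨w, hw, hwe⟩ := zpowers_le.2 h2K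
        (mem_zpowers_sq hi hσ (d.prod y hyS hyσ s hs hsσ) (mul_mem hyG s.2))
      have h : s = ⟨y, hyG⟩ * w := Subtype.ext (by
        show (s : G) = y * G0.subtype w
        rw [hwe, ← mul_assoc, mul_self_of_orderOf hy, one_mul])
      exact h ▸ mul_mem hyK hw
  obtain ⟨e0⟩ : Nonempty ((P : Subgroup G0) ≃* DihedralGroup (orderOf (σ ^ 2))) := by
    refine ⟨(MulEquiv.subgroupCongr hcl.symm).trans ?_⟩
    have h := CfsgLib.Small.closurePairEquivDihedral hy0 hy0'
      (fun e => hne (congrArg Subtype.val e))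
    rwa [← orderOf_coe, Subgroup.coe_mul, hyy] at h
  have hm : 2 ≤ orderOf (σ ^ 2) := by
    have h1 := orderOf_pos (σ ^ 2)
    have h2 : orderOf (σ ^ 2) ≠ 1 := fun e => hσ2 (orderOf_eq_one_iff.1 e)
    omega
  refine ⟨σ, z, y, ⟨d, hi, zpowers_le.2 hsqσ d.zσ, hσ, hyS, hyG, hyσ, ?_⟩, P, _, hm, hP, ⟨e0⟩⟩
  rcases classes_cases hO0 hns0 P hm e0 with h | ⟨-, ⟨N, -, hN⟩, -⟩
  · intro a ha b hb ha2 hb2
    obtain ⟨g, hg⟩ := isConj_iff.1 (h ⟨a, ha⟩ ⟨b, hb⟩ (by rw [orderOf_mk, ha2])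
      (by rw [orderOf_mk, hb2]))
    exact ⟨g, g.2, congrArg Subtype.val hg⟩
  · exact absurd hN (no_index_two_of_index_two hi h4 N)

end CfsgLib.DGroupCent

namespace CfsgLib.DGroupCent

open Subgroup

universe v

variable {G : Type v} [Group G] [Finite G] {S : Sylow 2 G} {G0 : Subgroup G} {σ z y t : G}

/-- The odd normal part of the centraliser of `z`. -/
theorem exists_oddNormal (d : TwoData S G0 σ z y) {n : ℕ} (hn : 2 ≤ n)
    (eS : (S : Subgroup G) ≃* DihedralGroup n) :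
    ∃ N : Subgroup G, Odd (Nat.card N) ∧ (∀ x ∈ N, x * z = z * x) ∧
      (∀ c, c * z = z * c → ∀ x ∈ N, c * x * c⁻¹ ∈ N) ∧
      (∀ x, x * z = z * x → Odd (orderOf x) → x ∈ N) ∧
      ∀ x, x * z = z * x → ∃ m ∈ N, ∃ s ∈ (S : Subgroup G), x = m * s := by
  haveI : Fact (Nat.Prime 2) := ⟨Nat.prime_two⟩
  obtain ⟨N, hN, hodd, k, hk⟩ := Cfsg.Agent.S0514.result S n hn ⟨eS⟩ z d.hz
  have hSC : (S : Subgroup G) ≤ centralizer ({z} : Set G) := fun s hs => mem_centralizer_singleton_iff.2 (d.central s hs)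
  refine ⟨N.map (centralizer ({z} : Set G)).subtype, by rwa [card_map_of_injective (subtype_injective _)],
    fun x hx => mem_centralizer_singleton_iff.1 (map_subtype_le N hx), ?_, ?_, ?_⟩
  · rintro c hc _ ⟨x, hx, rfl⟩
    exact ⟨_, hN.conj_mem x hx ⟨c, mem_centralizer_singleton_iff.2 hc⟩, rfl⟩
  · intro x hx ho
    set X : centralizer ({z} : Set G) := ⟨x, mem_centralizer_singleton_iff.2 hx⟩
    obtain ⟨j, hj⟩ := exists_pow_eq_self_of_coprime (x := X) (n := N.index) (by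
      rw [hk, orderOf_mk]; exact (Nat.coprime_two_left.2 ho).pow_left k)
    exact ⟨X, hj ▸ pow_mem (pow_index_mem N X) j, rfl⟩
  · intro x hx
    have htop : N ⊔ (S : Subgroup G).subgroupOf (centralizer ({z} : Set G)) = ⊤ := by
      have h1 : (N ⊔ (S : Subgroup G).subgroupOf (centralizer ({z} : Set G))).index ∣ 2 ^ k :=
        hk ▸ index_dvd_of_le le_sup_left
      have h2 : (N ⊔ (S : Subgroup G).subgroupOf (centralizer ({z} : Set G))).index ∣ (S : Subgroup G).index :=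
        (index_dvd_of_le le_sup_right).trans (Dvd.intro _ (relIndex_mul_index hSC))
      exact index_eq_one.1 (Nat.eq_one_of_dvd_coprimes
        ((Nat.Prime.coprime_iff_not_dvd Nat.prime_two).2 S.not_dvd_index |>.pow_left k) h1 h2)
    obtain ⟨m, hm, s, hs, hms⟩ := mem_sup_of_normal_left.1
      (htop ▸ mem_top (⟨x, mem_centralizer_singleton_iff.2 hx⟩ : centralizer ({z} : Set G)))
    exact ⟨m, ⟨m, hm, rfl⟩, s, hs, (congrArg Subtype.val hms).symm⟩

/-- When `t` is not conjugate to `z`, the centraliser of `z` in `G0` is generalised dihedral and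
`G0` has trivial centraliser. -/
theorem TwoData.d2 (d : TwoData S G0 σ z y) (hO : Cfsg.oddCore G = ⊥) {n : ℕ}
    (hn : 2 ≤ n) (eS : (S : Subgroup G) ≃* DihedralGroup n) {P : Sylow 2 G0} {m : ℕ} (hm : 2 ≤ m)
    (hP : (P : Subgroup G0) = (S : Subgroup G).subgroupOf G0)
    (e0 : (P : Subgroup G0) ≃* DihedralGroup m) (ht : orderOf t = 2) (htS : t ∈ (S : Subgroup G))
    (htσ : t ∉ zpowers σ) (hfix : ∀ c, Odd (orderOf c) → c * z = z * c → c * t = t * c → c = 1) :
    D2 G0 ∧ centralizer (G0 : Set G) = ⊥ := by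
  haveI : Fact (Nat.Prime 2) := ⟨Nat.prime_two⟩
  haveI : NeZero m := ⟨by omega⟩
  haveI := normal_of_index_eq_two d.hi
  obtain ⟨N, hN, hNz, hNn, hNmem, hdec⟩ := exists_oddNormal d hn eS
  have hcz : ∀ s ∈ (S : Subgroup G), s * z = z * s := d.central
  have hNG : ∀ x ∈ N, x ∈ G0 := fun x hx =>
    CfsgLib.TwoGroups.mem_of_index_two_of_odd d.hi (odd_orderOf hN hx)
  have hy : orderOf y = 2 := d.orderOf_out d.yS d.yσ
  have htt := mul_self_of_orderOf ht
  have htinv : ∀ x ∈ N, t * x * t⁻¹ = x⁻¹ := inverts_of_fpf htt (hNn t (hcz t htS))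
    fun x hx e => hfix x (odd_orderOf hN hx) (hNz x hx) e
  have hNcomm : ∀ a ∈ N, ∀ b ∈ N, a * b = b * a := fun a ha b hb => by
    have h := htinv _ (mul_mem ha hb)
    rw [show t * (a * b) * t⁻¹ = (t * a * t⁻¹) * (t * b * t⁻¹) by group, htinv a ha, htinv b hb,
      ← mul_inv_rev] at h
    exact (inv_injective h).symm
  -- squares of rotations centralise `N`
  have hsq : ∀ c ∈ zpowers (σ ^ 2), ∀ x ∈ N, c * x = x * c := by
    intro c hc x hx
    have hle : zpowers (σ ^ 2) ≤ centralizer ({x} : Set G) := by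
      refine zpowers_le.2 (mem_centralizer_singleton_iff.2 (mul_inv_eq_iff_eq_mul.1 ?_))
      have e1 : t * σ⁻¹ * t⁻¹ = σ := by
        rw [d.conj_rot htS htσ (inv_mem (mem_zpowers σ)), inv_inv]
      have e2 : σ ^ 2 = σ * t * σ⁻¹ * t⁻¹ := by
        rw [sq, mul_assoc, mul_assoc, ← mul_assoc t, e1]
      have h1 : t⁻¹ * x * t = x⁻¹ := by
        have h := htinv x hx
        rwa [inv_eq_of_mul_eq_one_right htt] at h ⊢
      have h2 : t * (σ⁻¹ * x⁻¹ * σ) * t⁻¹ = σ⁻¹ * x * σ := by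
        have hm' := hNn σ⁻¹ (hcz _ (inv_mem d.σS)) x⁻¹ (inv_mem hx)
        rw [inv_inv] at hm'
        rw [htinv _ hm']; group
      calc σ ^ 2 * x * (σ ^ 2)⁻¹ = σ * (t * (σ⁻¹ * (t⁻¹ * x * t) * σ) * t⁻¹) * σ⁻¹ := by
            rw [e2]; group
        _ = x := by rw [h1, h2]; group
    exact mem_centralizer_singleton_iff.1 (hle hc)
  have hsplit : ∀ {s : G}, s ∈ (S : Subgroup G) → s ∈ G0 → s ∉ zpowers σ →
      ∃ c ∈ zpowers (σ ^ 2), s = y * c := fun {s} hs hsG hsσ =>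
    ⟨y * s, d.y_mul hs hsG hsσ, by rw [← mul_assoc, mul_self_of_orderOf hy, one_mul]⟩
  -- the fixed points of `y`
  set E := N ⊓ centralizer ({y} : Set G) with hE
  have hEk : ∀ {k : G}, k ∈ (S : Subgroup G) → k ∈ G0 → k ∉ zpowers σ →
      ∀ x, x ∈ E ↔ x ∈ N ∧ x * k = k * x := by
    intro k hk hkG hkσ x
    obtain ⟨c, hc, rfl⟩ := hsplit hk hkG hkσ
    refine ⟨fun hx => ⟨hx.1, ?_⟩, fun hx => ⟨hx.1, mem_centralizer_singleton_iff.2 ?_⟩⟩
    · rw [← mul_assoc, mem_centralizer_singleton_iff.1 hx.2, mul_assoc, ← hsq c hc x hx.1, mul_assoc]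
    · have h := hx.2
      rw [mul_assoc y, hsq c hc x hx.1, ← mul_assoc, ← mul_assoc] at h
      exact mul_right_cancel h
  have hyinv : ∀ x ∈ N, y * x * y⁻¹ = x⁻¹ := by
    refine inverts_of_fpf (mul_self_of_orderOf hy) (hNn y (hcz y d.yS)) fun e he hey => ?_
    by_contra he1
    have heE : e ∈ E := ⟨he, mem_centralizer_singleton_iff.2 hey⟩
    set M := (normalizer (E : Set G)).subgroupOf G0
    have hScent : ∀ s ∈ (S : Subgroup G), s ∈ G0 → ∀ x ∈ E, x * s = s * x := by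
      intro s hs hsG x hx
      by_cases hsσ : s ∈ zpowers σ
      · exact (hsq s (mem_zpowers_sq d.hi d.σG hsσ hsG) x hx.1).symm
      · exact ((hEk hs hsG hsσ x).1 hx).2
    have hnorm : ∀ {c : G}, (∀ x ∈ E, x * c = c * x) → c ∈ normalizer (E : Set G) := fun {c} h =>
      centralizer_le_normalizer _ (mem_centralizer_iff.2 h)
    have hCz : ∀ x, x * z = z * x → x ∈ G0 → x ∈ normalizer (E : Set G) := by
      intro x hx hxG
      obtain ⟨a, ha, s, hs, rfl⟩ := hdec x hx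
      have hsG : s ∈ G0 := by simpa using mul_mem (inv_mem (hNG a ha)) hxG
      exact mul_mem (hnorm fun v hv => (hNcomm a ha v hv.1).symm) (hnorm (hScent s hs hsG))
    have hPM : (P : Subgroup G0) ≤ M := by
      intro p hp
      rw [hP] at hp
      exact mem_subgroupOf.2 (hnorm (hScent p hp p.2))
    have hz0 : orderOf (⟨z, d.zG⟩ : G0) = 2 := by rw [orderOf_mk, d.hz]
    have hone0 : ∀ a b : G0, orderOf a = 2 → orderOf b = 2 → IsConj a b := fun a b ha hb => by
      obtain ⟨g, hg, e⟩ := d.one a a.2 b b.2 (by rw [orderOf_coe, ha]) (by rw [orderOf_coe, hb])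
      exact isConj_iff.2 ⟨⟨g, hg⟩, Subtype.ext e⟩
    have hfuse : ∀ a ∈ M, orderOf a = 2 → ∃ g ∈ M, g * ⟨z, d.zG⟩ * g⁻¹ = a := by
      intro a haM ha2
      obtain ⟨T, hT⟩ := (isPGroup_zpowers (p := 2) (n := 1)
        (show orderOf (⟨a, haM⟩ : M) = 2 ^ 1 by rw [orderOf_mk, ha2, pow_one])).exists_le_sylow
      obtain ⟨g, hg⟩ := MulAction.exists_smul_eq M (P.subtype hPM) T
      have haT := hT (mem_zpowers _)
      rw [← hg, Sylow.coe_subgroup_smul] at haT
      obtain ⟨k, hk, hka⟩ := haT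
      have hka' : (g : G0) * k * (g : G0)⁻¹ = a := congrArg Subtype.val hka
      have hk2 : orderOf (k : G0) = 2 := by rw [← hka', orderOf_conj] at ha2; exact ha2
      by_cases hkz : (k : G0) = ⟨z, d.zG⟩
      · exact ⟨g, g.2, hkz ▸ hka'⟩
      have hkS : ((k : G0) : G) ∈ (S : Subgroup G) := by
        have h : (k : G0) ∈ (P : Subgroup G0) := hk
        rwa [hP] at h
      have hkσ : ((k : G0) : G) ∉ zpowers σ := fun h => hkz (Subtype.ext
        ((d.uniq _ hkS h (congrArg Subtype.val (mul_self_of_orderOf hk2))).resolve_left fun e =>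
          ne_one_of_orderOf hk2 (Subtype.ext e)))
      have hV : Four (⟨z, d.zG⟩ : G0) k :=
        ⟨hz0, hk2, fun e => hkz e.symm, Subtype.ext (hcz _ hkS).symm⟩
      have hkf : IsKleinFour (closure ({⟨z, d.zG⟩, (k : G0)} : Set G0)) :=
        CfsgLib.TwoGroups.isKleinFour_iff.2 ⟨by
          rw [Nat.card_congr (CfsgLib.Small.closurePairEquivDihedral hz0 hk2 hV.ne).toEquiv,
            DihedralGroup.nat_card, hV.hk],
        fun v hv => by
          rcases sq_eq_one_of_mem_closure_pair (mul_self_of_orderOf hz0) (mul_self_of_orderOf hk2)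
            hV.comm v hv with e | e | e | e <;> rw [e]
          · exact one_mul _
          · exact mul_self_of_orderOf hz0
          · exact mul_self_of_orderOf hk2
          · exact mul_self_of_orderOf hV.hk⟩
      obtain ⟨c, hcz', hck⟩ := exists_cycle_of_one hone0 hV fun T hVT x hx hxz hxk =>
        CfsgLib.DihedralLocal.centralizer_inf_eq (S := T) ((P.equiv T).symm.trans e0) hkf hVT hx
          (by
            rw [centralizer_closure]
            refine mem_centralizer_iff.2 ?_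
            rintro v (rfl | rfl)
            exacts [hxz.symm, hxk.symm])
      have hcz2 : (c : G) * z * (c : G)⁻¹ = ((k : G0) : G) := congrArg Subtype.val hcz'
      have hck2 : (c : G) * ((k : G0) : G) * (c : G)⁻¹ = z * ((k : G0) : G) := congrArg Subtype.val hck
      refine ⟨g * c, mul_mem g.2 (mem_subgroupOf.2 (mem_normalizer_of_conj fun x hx => ?_)), ?_⟩
      · have hx' := (hEk hkS (k : G0).2 hkσ x).1 hx
        have hxk' : (c : G) * x * (c : G)⁻¹ * ((k : G0) : G) = ((k : G0) : G) * ((c : G) * x * (c : G)⁻¹) := by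
          rw [← hcz2, show (c : G) * x * (c : G)⁻¹ * ((c : G) * z * (c : G)⁻¹) =
            c * (x * z) * (c : G)⁻¹ by group, hNz x hx.1]
          group
        have hxzk : (c : G) * x * (c : G)⁻¹ * (z * ((k : G0) : G)) =
            z * ((k : G0) : G) * ((c : G) * x * (c : G)⁻¹) := by
          rw [← hck2, show (c : G) * x * (c : G)⁻¹ * ((c : G) * ((k : G0) : G) * (c : G)⁻¹) =
            c * (x * ((k : G0) : G)) * (c : G)⁻¹ by group, hx'.2]
          group
        have hxz' : (c : G) * x * (c : G)⁻¹ * z = z * ((c : G) * x * (c : G)⁻¹) := by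
          rw [mul_assoc z, ← hxk', ← mul_assoc, ← mul_assoc] at hxzk
          exact mul_right_cancel hxzk
        exact (hEk hkS (k : G0).2 hkσ _).2 ⟨hNmem _ hxz' (by
          rw [orderOf_conj]; exact odd_orderOf hN hx.1), hxk'⟩
      · rw [← hka', ← hcz']; group
    refine he1 (congrArg Subtype.val (odd_commuting_eq_one (oddCore_normal_subgroup hO G0) P hm e0
      hone0 M hPM (fun htop => he1 ?_) (fun a ha b hb ha2 hb2 => ?_) (fun a ha ha2 => ?_) hz0
      (a := ⟨e, hNG e he⟩) (by rw [orderOf_mk]; exact odd_orderOf hN he)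
      (Subtype.ext (hNz e he))))
    · have hEG : E ≤ G0 := fun x hx => hNG x hx.1
      haveI : (E.subgroupOf G0).Normal :=
        (normal_subgroupOf_iff_le_normalizer hEG).2 (subgroupOf_eq_top.1 htop)
      have hle : E.subgroupOf G0 ≤ Cfsg.oddCore G0 := oddCore_le_of_odd (by
        rw [Nat.card_congr (subgroupOfEquivOfLe hEG).toEquiv]
        exact hN.of_dvd_nat (card_dvd_of_le inf_le_left))
      have h := hle (mem_subgroupOf.2 heE : (⟨e, hNG e he⟩ : G0) ∈ E.subgroupOf G0)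
      rw [oddCore_normal_subgroup hO G0, mem_bot] at h
      exact congrArg Subtype.val h
    · obtain ⟨g, hg, hga⟩ := hfuse a ha ha2
      obtain ⟨h, hh, hhb⟩ := hfuse b hb hb2
      exact ⟨h * g⁻¹, mul_mem hh (inv_mem hg), by rw [← hga, ← hhb]; group⟩
    · intro x hx
      obtain ⟨g, hg, hga⟩ := hfuse a ha ha2
      have h1 : g⁻¹ * x * g ∈ M := mem_subgroupOf.2 (hCz _ (congrArg Subtype.val
        (show g⁻¹ * x * g * ⟨z, d.zG⟩ = ⟨z, d.zG⟩ * (g⁻¹ * x * g) by
          have hx' := mem_centralizer_singleton_iff.1 hx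
          calc g⁻¹ * x * g * ⟨z, d.zG⟩ = g⁻¹ * (x * (g * ⟨z, d.zG⟩ * g⁻¹)) * g := by group
            _ = g⁻¹ * ((g * ⟨z, d.zG⟩ * g⁻¹) * x) * g := by rw [hga, hx']
            _ = ⟨z, d.zG⟩ * (g⁻¹ * x * g) := by group)) (g⁻¹ * x * g).2)
      have := mul_mem (mul_mem hg h1) (inv_mem hg)
      rwa [show g * (g⁻¹ * x * g) * g⁻¹ = x by group] at this
  -- elements of the small Sylow subgroup outside the rotations invert `N`
  have hsinv : ∀ s ∈ (S : Subgroup G), s ∈ G0 → s ∉ zpowers σ → ∀ x ∈ N, s * x * s⁻¹ = x⁻¹ := by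
    intro s hs hsG hsσ x hx
    obtain ⟨c, hc, rfl⟩ := hsplit hs hsG hsσ
    rw [show y * c * x * (y * c)⁻¹ = y * (c * x * c⁻¹) * y⁻¹ by group,
      mul_inv_eq_iff_eq_mul.2 (hsq c hc x hx), hyinv x hx]
  let A : Subgroup G :=
    { carrier := {x | ∃ a ∈ N, ∃ c ∈ zpowers (σ ^ 2), x = a * c}
      one_mem' := ⟨1, one_mem _, 1, one_mem _, (one_mul 1).symm⟩
      mul_mem' := by
        rintro _ _ ⟨a, ha, c, hc, rfl⟩ ⟨a', ha', c', hc', rfl⟩
        refine ⟨a * a', mul_mem ha ha', c * c', mul_mem hc hc', ?_⟩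
        rw [mul_assoc a, ← mul_assoc c, hsq c hc a' ha']; group
      inv_mem' := by
        rintro _ ⟨a, ha, c, hc, rfl⟩
        exact ⟨a⁻¹, inv_mem ha, c⁻¹, inv_mem hc, by
          rw [← hsq c⁻¹ (inv_mem hc) a⁻¹ (inv_mem ha), mul_inv_rev]⟩ }
  have hσ2G : zpowers (σ ^ 2) ≤ G0 := zpowers_le.2 (sq_mem_of_index_two d.hi σ)
  have hσ2S : zpowers (σ ^ 2) ≤ (S : Subgroup G) := zpowers_le.2 (pow_mem d.σS 2)
  have hσ2σ : zpowers (σ ^ 2) ≤ zpowers σ := zpowers_le.2 (pow_mem (mem_zpowers σ) 2)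
  have hNS : ∀ x ∈ N, x ∈ (S : Subgroup G) → x = 1 := fun x hx hxS => by
    obtain ⟨l, hl⟩ := IsPGroup.iff_orderOf.1 S.isPGroup' ⟨x, hxS⟩
    rw [orderOf_mk] at hl
    exact orderOf_eq_one_iff.1 (Nat.eq_one_of_dvd_coprimes
      ((Nat.coprime_two_left.2 (odd_orderOf hN hx)).pow_left l) hl.dvd dvd_rfl)
  have hyA : y ∉ A := by
    rintro ⟨a, ha, c, hc, e⟩
    have ha1 : a = 1 := hNS a ha (by
      rw [eq_mul_inv_of_mul_eq e.symm]
      exact mul_mem d.yS (inv_mem (hσ2S hc)))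
    rw [ha1, one_mul] at e
    exact d.yσ (e ▸ hσ2σ hc)
  have hCA : ∀ x ∈ centralizer ({z} : Set G) ⊓ G0, x ∉ A →
      ∃ a ∈ N, ∃ s ∈ (S : Subgroup G), s ∈ G0 ∧ s ∉ zpowers σ ∧ x = a * s := by
    intro x hx hxA
    obtain ⟨a, ha, s, hs, rfl⟩ := hdec x (mem_centralizer_singleton_iff.1 hx.1)
    have hsG : s ∈ G0 := by simpa using mul_mem (inv_mem (hNG a ha)) hx.2
    exact ⟨a, ha, s, hs, hsG,
      fun h => hxA ⟨a, ha, s, mem_zpowers_sq d.hi d.σG h hsG, rfl⟩, rfl⟩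
  have hgd : GD (centralizer ({z} : Set G) ⊓ G0) A z := by
    refine ⟨?_, ?_, d.hz, ⟨1, one_mem _, z, d.zσ, (one_mul z).symm⟩, ?_, ?_, ?_,
      ⟨y, ⟨mem_centralizer_singleton_iff.2 (hcz y d.yS), d.yG⟩, hyA⟩⟩
    · rintro _ ⟨a, ha, c, hc, rfl⟩
      exact ⟨mem_centralizer_singleton_iff.2 ((Commute.mul_left (hNz a ha) (hcz c (hσ2S hc)))),
        mul_mem (hNG a ha) (hσ2G hc)⟩
    · rintro _ ⟨a, ha, c, hc, rfl⟩ _ ⟨a', ha', c', hc', rfl⟩
      have h1 : Commute c c' := by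
        obtain ⟨i, rfl⟩ := mem_zpowers_iff.1 hc
        obtain ⟨j, rfl⟩ := mem_zpowers_iff.1 hc'
        exact Commute.zpow_zpow_self (σ ^ 2) i j
      exact (Commute.mul_left (Commute.mul_right (hNcomm a ha a' ha') (hsq c' hc' a ha).symm)
        (Commute.mul_right (hsq c hc a' ha') h1))
    · rintro _ ⟨a, ha, c, hc, rfl⟩ e
      have e' : a * a * (c * c) = 1 := by
        rw [← e, mul_assoc a c, ← mul_assoc c, hsq c hc a ha]; group
      have hcS := mul_mem (hσ2S hc) (hσ2S hc)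
      have haa : a * a = 1 := hNS _ (mul_mem ha ha)
        (by rw [eq_inv_of_mul_eq_one_left e']; exact inv_mem hcS)
      rw [haa, one_mul] at e'
      rw [eq_one_of_odd hN ha haa, one_mul]
      exact d.uniq c (hσ2S hc) (hσ2σ hc) e'
    · intro x hx hxA
      obtain ⟨a, ha, s, hs, hsG, hsσ, rfl⟩ := hCA x hx hxA
      have hss := ((d.cases s hs).resolve_left hsσ).1
      rw [show a * s * (a * s) = a * (s * a * s⁻¹) * (s * s) by group, hsinv s hs hsG hsσ a ha, hss,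
        mul_inv_cancel, one_mul]
    · intro x hx hxA x' hx' hxA'
      obtain ⟨a, ha, s, hs, hsG, hsσ, rfl⟩ := hCA x hx hxA
      obtain ⟨a', ha', s', hs', hsG', hsσ', rfl⟩ := hCA x' hx' hxA'
      refine ⟨a * a'⁻¹, mul_mem ha (inv_mem ha'), s * s',
        mem_zpowers_sq d.hi d.σG (d.prod s hs hsσ s' hs' hsσ') (mul_mem hsG hsG'), ?_⟩
      rw [← hsinv s hs hsG hsσ a' ha']; group
  refine ⟨⟨⟨z, d.zG⟩, A.subgroupOf G0, ?_⟩, d.centralizer_eq_bot fun x hx => ?_⟩
  · have h := hgd.restrict G0 d.zG ⟨mem_centralizer_singleton_iff.2 (hcz y d.yS), d.yG⟩ hyA d.yG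
    rwa [inf_subgroupOf_right, centralizer_subgroupOf G0 d.zG] at h
  · have hxy : y * x = x * y := mem_centralizer_iff.1 hx y d.yG
    obtain ⟨a, ha, s, hs, rfl⟩ := hdec x (mem_centralizer_iff.1 hx z d.zG).symm
    have h1 : a⁻¹ * (y * s * y⁻¹) = a * s := by
      rw [← hyinv a ha, show y * a * y⁻¹ * (y * s * y⁻¹) = y * (a * s) * y⁻¹ by group, hxy,
        mul_inv_cancel_right]
    have h2 : a * a = (y * s * y⁻¹) * s⁻¹ := by
      rw [show y * s * y⁻¹ = a * (a * s) from inv_mul_eq_iff_eq_mul.1 h1]; group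
    have ha1 : a = 1 := eq_one_of_odd hN ha (hNS _ (mul_mem ha ha)
      (h2 ▸ mul_mem (mul_mem (mul_mem d.yS hs) (inv_mem d.yS)) (inv_mem hs)))
    subst ha1
    rw [one_mul] at hxy ⊢
    exact d.commute_cases d.yS d.yσ hs hxy.symm

end CfsgLib.DGroupCent
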